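import Groth.Prelude.Def_Dieu
import Mathlib

/-!
Tools for scalar extension along a ring map.
-/

set_option autoImplicit false
set_option linter.unusedSectionVars false
universe u v w x y z

namespace Groth.Agent.Disp53

open Dieu

section SExt

variable {A : Type u} [CommRing A] {B : Type v} [CommRing B] {g : A →+* B}
variable {P : Type w} [AddCommGroup P] [Module A P]
variable {C : Type x} [CommRing C] {M : Type y} [AddCommGroup M] [Module C M]

/-- The `h`-semilinear extension `b ⊗ x ↦ h b • φ x` of a `q`-semilinear map when `h ∘ g = q`. -/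
noncomputable def sext (h : B →+* C) {q : A →+* C} (e : h.comp g = q) (φ : P →ₛₗ[q] M) :
    BC g P →ₛₗ[h] M where
  toFun z := TensorProduct.lift
    ({ toFun := fun t => (h t.val) • φ
       map_add' := fun s t => by rw [Res.val_add, map_add, add_smul]
       map_smul' := fun a t => by
        rw [Res.val_smul, map_mul, mul_smul, show h (g a) = q a from RingHom.congr_fun e a] } : Res g →ₛₗ[q] P →ₛₗ[q] M) z
  map_add' a b := map_add _ a b
  map_smul' c z := by
    rw [BC.smul_def]
    induction z using TensorProduct.induction_on with
    | zero => rw [map_zero, map_zero, smul_zero]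
    | tmul t x =>
      rw [LinearMap.rTensor_tmul, TensorProduct.lift.tmul, TensorProduct.lift.tmul]
      change h (c * t.val) • φ x = h c • (h t.val • φ x)
      rw [map_mul, mul_smul]
    | add a b ha hb => rw [map_add, map_add, ha, hb, map_add, smul_add]

@[simp] theorem sext_tmul (h : B →+* C) {q : A →+* C} (e : h.comp g = q) (φ : P →ₛₗ[q] M) (b : B) (x : P) :
    sext h e φ (BC.tmul g b x) = h b • φ x :=
  TensorProduct.lift.tmul _ _

theorem sext_ext {h : B →+* C} {f₁ f₂ : BC g P →ₛₗ[h] M}
    (he : ∀ (b : B) (x : P), f₁ (BC.tmul g b x) = f₂ (BC.tmul g b x)) : f₁ = f₂ := by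
  refine LinearMap.ext fun z => ?_
  induction z using BC.induction_on g with
  | zero => rw [map_zero, map_zero]
  | tmul b x => exact he b x
  | add a b ha hb => rw [map_add, map_add, ha, hb]

end SExt

section Basis

variable {A : Type u} [CommRing A] {B : Type v} [CommRing B] (g : A →+* B)
variable {P : Type w} [AddCommGroup P] [Module A P] {ι : Type x}

/-- The coordinate map of the extended basis. -/
noncomputable def bcRepr (b : Module.Basis ι A P) : BC g P →ₗ[B] (ι →₀ B) :=
  BC.lift g
    { toFun := fun x => Finsupp.mapRange g (map_zero g) (b.repr x)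
      map_add' := fun x y => by rw [map_add, Finsupp.mapRange_add (map_add g)]
      map_smul' := fun a x => by
        ext i; simp }

/-- The extended basis `1 ⊗ b i`. -/
noncomputable def bcBasis (b : Module.Basis ι A P) : Module.Basis ι B (BC g P) :=
  Module.Basis.ofRepr
    { bcRepr g b with
      invFun := Finsupp.linearCombination B fun i => BC.ι g P (b i)
      left_inv := fun z => by
        change Finsupp.linearCombination B (fun i => BC.ι g P (b i)) (bcRepr g b z) = z
        induction z using BC.induction_on g with
        | zero => rw [map_zero, map_zero]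
        | tmul c x =>
          rw [bcRepr, BC.lift_tmul, map_smul]
          have key : ∀ l : ι →₀ A, Finsupp.linearCombination B (fun i => BC.ι g P (b i))
              (Finsupp.mapRange g (map_zero g) l) = BC.tmul g 1 (Finsupp.linearCombination A b l) := by
            intro l
            induction l using Finsupp.induction_linear with
            | zero => simp
            | add l m hl hm =>
              rw [Finsupp.mapRange_add (map_add g), map_add, map_add, hl, hm, BC.tmul_add]
            | single i a =>
              rw [Finsupp.mapRange_single, Finsupp.linearCombination_single,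
                Finsupp.linearCombination_single, ← BC.ι_apply g, LinearMap.map_smulₛₗ]
          change c • Finsupp.linearCombination B (fun i => BC.ι g P (b i))
            (Finsupp.mapRange g (map_zero g) (b.repr x)) = _
          rw [key, b.linearCombination_repr, BC.smul_tmul, mul_one]
        | add a b' ha hb => rw [map_add, map_add, ha, hb]
      right_inv := fun l => by
        change bcRepr g b (Finsupp.linearCombination B (fun i => BC.ι g P (b i)) l) = l
        induction l using Finsupp.induction_linear with
        | zero => simp
        | add a b' ha hb => rw [map_add, map_add, ha, hb]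
        | single i c =>
          rw [Finsupp.linearCombination_single, map_smul, bcRepr, BC.lift_ι]
          simp }

theorem bcBasis_repr_tmul (b : Module.Basis ι A P) (c : B) (x : P) (i : ι) :
    (bcBasis g b).repr (BC.tmul g c x) i = c * g (b.repr x i) := by
  change bcRepr g b (BC.tmul g c x) i = _
  rw [bcRepr, BC.lift_tmul]
  rfl

@[simp] theorem bcBasis_apply (b : Module.Basis ι A P) (i : ι) :
    bcBasis g b i = BC.tmul g 1 (b i) := by
  apply (bcBasis g b).repr.injective
  ext j
  classical
  rw [Module.Basis.repr_self, bcBasis_repr_tmul, Module.Basis.repr_self, Finsupp.single_apply,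
    Finsupp.single_apply]
  split_ifs <;> simp

theorem map_comp' {P' : Type y} [AddCommGroup P'] [Module A P'] {P'' : Type z} [AddCommGroup P'']
    [Module A P''] (φ : P →ₗ[A] P') (ψ : P' →ₗ[A] P'') :
    BC.map g (ψ ∘ₗ φ) = BC.map g ψ ∘ₗ BC.map g φ :=
  BC.ext g fun x => by simp [BC.map_tmul]

theorem map_id' : BC.map g (LinearMap.id : P →ₗ[A] P) = LinearMap.id :=
  BC.ext g fun x => by simp [BC.map_tmul]

theorem map_isCompl {P' : Type w} [AddCommGroup P'] [Module A P'] (eL eT : P →ₗ[A] P)
    (hsum : eL + eT = LinearMap.id) (x : BC g P) : BC.map g eL x + BC.map g eT x = x := by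
  induction x using BC.induction_on g with
  | zero => simp
  | tmul c x =>
    rw [BC.map_tmul, BC.map_tmul, ← BC.tmul_add]
    exact congrArg (BC.tmul g c) (LinearMap.congr_fun hsum x)
  | add a b ha hb => rw [map_add, map_add, add_add_add_comm, ha, hb]

theorem finite_bc [Module.Finite A P] : Module.Finite B (BC g P) := by
  obtain ⟨S, hS⟩ := (Module.finite_def.1 (inferInstance : Module.Finite A P))
  classical
  refine Module.finite_def.2 ⟨S.image (BC.ι g P), eq_top_iff.2 fun z hz => ?_⟩
  clear hz
  induction z using BC.induction_on g with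
  | zero => exact zero_mem _
  | tmul c x =>
    rw [BC.tmul_eq_smul_tmul_one]
    refine Submodule.smul_mem _ _ ?_
    have hx : x ∈ Submodule.span A (S : Set P) := hS ▸ Submodule.mem_top
    induction hx using Submodule.span_induction with
    | mem y hy => exact Submodule.subset_span (Finset.mem_coe.2 (Finset.mem_image_of_mem _ hy))
    | zero => rw [BC.tmul_zero]; exact zero_mem _
    | add a b _ _ ha hb => rw [BC.tmul_add]; exact add_mem ha hb
    | smul a y _ hy =>
      rw [← BC.ι_apply g, LinearMap.map_smulₛₗ]
      exact Submodule.smul_mem _ _ hy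
  | add a b ha hb => exact add_mem ha hb

theorem projective_bc [Module.Finite A P] [Module.Projective A P] : Module.Projective B (BC g P) := by
  obtain ⟨n, f, hf⟩ := Module.Finite.exists_fin' A P
  obtain ⟨s, hs⟩ := Module.projective_lifting_property f LinearMap.id hf
  haveI : Module.Free B (BC g (Fin n → A)) := Module.Free.of_basis (bcBasis g (Pi.basisFun A (Fin n)))
  exact Module.Projective.of_split (BC.map g s) (BC.map g f) (by rw [← map_comp', hs, map_id'])

end Basis

section Proj

variable {A : Type u} [CommRing A] {P : Type w} [AddCommGroup P] [Module A P]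

/-- Finite dual bases. -/
theorem exists_dualBasis [Module.Finite A P] [Module.Projective A P] :
    ∃ (n : ℕ) (φ : Fin n → (P →ₗ[A] A)) (e : Fin n → P), ∀ x, x = ∑ i, φ i x • e i := by
  obtain ⟨n, f, hf⟩ := Module.Finite.exists_fin' A P
  obtain ⟨s, hs⟩ := Module.projective_lifting_property f LinearMap.id hf
  refine ⟨n, fun i => (LinearMap.proj i) ∘ₗ s, fun i => f (Pi.single i 1), fun x => ?_⟩
  conv_lhs => rw [show x = f (s x) from (LinearMap.congr_fun hs x).symm,
    pi_eq_sum_univ' (s x)]
  simp only [map_sum, map_smul]
  rfl

theorem eq_zero_of_forall_dual [Module.Finite A P] [Module.Projective A P] {x : P}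
    (h : ∀ φ : P →ₗ[A] A, φ x = 0) : x = 0 := by
  obtain ⟨n, φ, e, he⟩ := exists_dualBasis (A := A) (P := P)
  rw [he x]
  exact Finset.sum_eq_zero fun i _ => by rw [h (φ i), zero_smul]

theorem mem_smul_top_iff [Module.Finite A P] [Module.Projective A P] (I : Ideal A) {x : P} :
    x ∈ I • (⊤ : Submodule A P) ↔ ∀ φ : P →ₗ[A] A, φ x ∈ I := by
  constructor
  · intro hx φ
    refine Submodule.smul_induction_on hx (fun a ha y _ => ?_) (fun a b ha hb => ?_)
    · rw [map_smul, smul_eq_mul]; exact Ideal.mul_mem_right _ _ ha
    · rw [map_add]; exact add_mem ha hb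
  · intro h
    obtain ⟨n, φ, e, he⟩ := exists_dualBasis (A := A) (P := P)
    rw [he x]
    exact Submodule.sum_mem _ fun i _ => Submodule.smul_mem_smul (h _) trivial

end Proj

/-- Semilinear maps send `I • ⊤` into `J • ⊤`. -/
theorem semilinear_smul_top {A : Type u} [CommRing A] {B : Type v} [CommRing B] {σ : A →+* B}
    {M : Type w} [AddCommGroup M] [Module A M] {N : Type y} [AddCommGroup N] [Module B N]
    (f : M →ₛₗ[σ] N) {I : Ideal A} {J : Ideal B} (h : ∀ a ∈ I, σ a ∈ J) {x : M}
    (hx : x ∈ I • (⊤ : Submodule A M)) : f x ∈ J • (⊤ : Submodule B N) := by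
  refine Submodule.smul_induction_on hx (fun a ha z _ => ?_) (fun a b ha hb => ?_)
  · rw [LinearMap.map_smulₛₗ]; exact Submodule.smul_mem_smul (h a ha) trivial
  · rw [map_add]; exact add_mem ha hb

end Groth.Agent.Disp53
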