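import Groth.Agent.Disp53.VSharp
import Mathlib

/-!
Base change of 3n-displays.
-/

set_option autoImplicit false
set_option linter.unusedSectionVars false
universe u v w
open W4c1extbt610 WittVector Dieu

namespace Groth.Agent.Disp53

variable {p : ℕ} [Fact p.Prime] {S R : Type u} [CommRing S] [CommRing R]

local notation "σS" => (WittVector.frobenius : WittVector p S →+* WittVector p S)
local notation "σR" => (WittVector.frobenius : WittVector p R →+* WittVector p R)
local notation "Wm" f => (WittVector.map f : WittVector p S →+* WittVector p R)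

theorem frobenius_comp_map (f : S →+* R) : (σR).comp (Wm f) = (Wm f).comp σS :=
  RingHom.ext fun w => by
    ext n
    simp only [RingHom.comp_apply, WittVector.map_coeff, WittVector.coeff_frobenius]
    exact (MvPolynomial.comp_aeval_apply (f.toIntAlgHom) (f := w.coeff) _).symm.trans rfl |>.symm |>.symm

variable {P : Type v} [AddCommGroup P] [Module (WittVector p S) P]

theorem map_mem_IV (f : S →+* R) {w : WittVector p S} (hw : w ∈ IV p S) : (Wm f) w ∈ IV p R := by
  obtain ⟨u, rfl⟩ := mem_IV_iff_exists.1 hw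
  rw [WittVector.map_verschiebung]
  exact verschiebung_mem_IV p R _

/-- If all functionals vanishing on `Q` vanish, we are in `Q`; applied to `Q_R`. -/
theorem constantCoeff_lift_eq_zero (f : S →+* R) (D : Display3n p S P)
    (φ : P →ₗ[WittVector p S] WittVector p S) (hφ : ∀ q ∈ D.Q, φ q ∈ IV p S)
    {z : BC (Wm f) P} (hz : bcQuotMap f D.Q z = 0) :
    BC.lift (Wm f) ((semilinearOfRingHom (Wm f)).comp φ) z ∈ IV p R := by
  let ψ : (P ⧸ D.Q) →ₛₗ[(constantCoeff : WittVector p R →+* R).comp (Wm f)] R :=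
    D.Q.liftQ
      { toFun := fun x => constantCoeff ((Wm f) (φ x))
        map_add' := fun x y => by rw [map_add, map_add, map_add]
        map_smul' := fun a x => by rw [map_smul, smul_eq_mul, map_mul, map_mul]; rfl }
      (fun q hq => by
        rw [LinearMap.mem_ker]
        exact mem_IV_iff.1 (map_mem_IV f (hφ q hq)))
  have key : ∀ z, constantCoeff (BC.lift (Wm f) ((semilinearOfRingHom (Wm f)).comp φ) z)
      = BC.lift _ ψ (bcQuotMap f D.Q z) := by
    intro z
    induction z using BC.induction_on (Wm f) with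
    | zero => simp
    | tmul w x =>
      rw [bcQuotMap_tmul, BC.lift_tmul, BC.lift_tmul, smul_eq_mul, smul_eq_mul, map_mul]
      rfl
    | add a b ha hb => rw [map_add, map_add, map_add, map_add, ha, hb]
  rw [IV_eq_ker, RingHom.mem_ker, key, hz, map_zero]

theorem exists_functionals (D : Display3n p S P) :
    ∃ (n : ℕ) (φ : Fin n → (P →ₗ[WittVector p S] WittVector p S)),
      ∀ x, x ∈ D.Q ↔ ∀ i, φ i x ∈ IV p S := by
  haveI := D.finite
  haveI := D.projective
  obtain ⟨L, T, hLT, hQ⟩ := D.exists_normal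
  obtain ⟨n, φ, e, he⟩ := exists_dualBasis (A := WittVector p S) (P := P)
  refine ⟨n, fun i => φ i ∘ₗ projT hLT, fun x => ?_⟩
  rw [hQ, mem_sup_IV_iff hLT]
  refine ⟨fun h i => h (φ i), fun h ψ => ?_⟩
  rw [he (projT hLT x), map_sum]
  exact Ideal.sum_mem _ fun i _ => by
    rw [map_smul, smul_eq_mul]; exact Ideal.mul_mem_right _ _ (h i)

theorem mem_Q_iff_of_injective (f : S →+* R) (hf : Function.Injective f) (D : Display3n p S P) (x : P) :
    x ∈ D.Q ↔ bcQuotMap f D.Q (BC.ι (Wm f) P x) = 0 := by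
  constructor
  · intro hx
    rw [BC.ι_apply, bcQuotMap_tmul, Submodule.mkQ_apply, (Submodule.Quotient.mk_eq_zero D.Q).2 hx,
      BC.tmul_zero]
  · intro h
    obtain ⟨n, φ, hφ⟩ := exists_functionals D
    refine (hφ x).2 fun i => ?_
    have h1 := constantCoeff_lift_eq_zero f D (φ i) (fun q hq => (hφ q).1 hq i) h
    rw [BC.lift_ι, LinearMap.comp_apply, semilinearOfRingHom_apply, mem_IV_iff, WittVector.map_coeff] at h1
    exact mem_IV_iff.2 (hf (by rw [h1, map_zero]))

variable (f : S →+* R) (D : Display3n p S P)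

/-- The base changed `F`. -/
noncomputable def bcF : BC (Wm f) P →ₛₗ[σR] BC (Wm f) P :=
  sext σR (frobenius_comp_map f)
    { toFun := fun x => BC.tmul (Wm f) 1 (D.F x)
      map_add' := fun x y => by rw [map_add, BC.tmul_add]
      map_smul' := fun a x => by
        rw [LinearMap.map_smulₛₗ, ← BC.ι_apply (Wm f), LinearMap.map_smulₛₗ]; rfl }

theorem bcF_tmul (w : WittVector p R) (x : P) :
    bcF f D (BC.tmul (Wm f) w x) = BC.tmul (Wm f) (σR w) (D.F x) := by
  rw [bcF, sext_tmul]
  exact (BC.tmul_eq_smul_tmul_one _ _ _).symm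

theorem exists_isDispBaseChange :
    ∃ DR : Display3n p R (BC (Wm f) P), IsDispBaseChange f D DR := by
  haveI := D.finite
  haveI := D.projective
  haveI : Module.Finite (WittVector p R) (BC (Wm f) P) := finite_bc _
  haveI : Module.Projective (WittVector p R) (BC (Wm f) P) := projective_bc _
  obtain ⟨L, T, hLT, hQ⟩ := D.exists_normal
  have hLQ : L ≤ D.Q := hQ ▸ le_sup_left
  let eL : P →ₗ[WittVector p S] D.Q :=
    (projL hLT).codRestrict D.Q (fun x => hLQ (projL_mem hLT x))
  let Φ₀ : P →ₛₗ[σS] P := D.Vinv.comp eL + D.F.comp (projT hLT)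
  have hΦ₀ : ∀ x, Φ₀ x = D.Vinv ⟨projL hLT x, hLQ (projL_mem hLT x)⟩ + D.F (projT hLT x) := fun x => rfl
  let Φ : BC (Wm f) P →ₛₗ[σR] BC (Wm f) P :=
    sext σR (frobenius_comp_map f)
      { toFun := fun x => BC.tmul (Wm f) 1 (Φ₀ x)
        map_add' := fun x y => by rw [map_add, BC.tmul_add]
        map_smul' := fun a x => by
          rw [LinearMap.map_smulₛₗ, ← BC.ι_apply (Wm f), LinearMap.map_smulₛₗ]; rfl }
  have hΦtmul : ∀ w x, Φ (BC.tmul (Wm f) w x) = BC.tmul (Wm f) (σR w) (Φ₀ x) := fun w x => by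
    simp only [Φ, sext_tmul]
    exact (BC.tmul_eq_smul_tmul_one _ _ _).symm
  have hΦL : ∀ (x : P) (h : x ∈ D.Q), x ∈ L → Φ₀ x = D.Vinv ⟨x, h⟩ := by
    intro x h hx
    rw [hΦ₀, projT_of_mem_L hLT hx, map_zero, add_zero]
    exact Vinv_congr D (projL_of_mem hLT hx)
  have hΦT : ∀ t ∈ T, Φ₀ t = D.F t := by
    intro t ht
    rw [hΦ₀, projT_of_mem hLT ht]
    rw [show D.Vinv ⟨projL hLT t, _⟩ = D.Vinv 0 from Vinv_congr D (projL_of_mem_T hLT ht), map_zero,
      zero_add]
  have hspan : Submodule.span (WittVector p R) (Set.range Φ) = ⊤ := by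
    refine eq_top_iff.2 fun z hz => ?_
    clear hz
    induction z using BC.induction_on (Wm f) with
    | zero => exact zero_mem _
    | tmul c x =>
      rw [BC.tmul_eq_smul_tmul_one]
      refine Submodule.smul_mem _ _ ?_
      have hx : x ∈ Submodule.span (WittVector p S) (Set.range Φ₀) := by
        have h0 : Submodule.span (WittVector p S) (Set.range Φ₀) = ⊤ := by
          rw [eq_top_iff, ← D.span_range_Vinv, Submodule.span_le]
          rintro _ ⟨q, rfl⟩
          exact Vinv_mem_of_normal D hQ (Submodule.span (WittVector p S) (Set.range Φ₀))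
            (fun y h hy => Submodule.subset_span ⟨y, hΦL y h hy⟩)
            (fun t ht => Submodule.subset_span ⟨t, hΦT t ht⟩) q
        rw [h0]; trivial
      induction hx using Submodule.span_induction with
      | mem y hy =>
        obtain ⟨a, rfl⟩ := hy
        exact Submodule.subset_span ⟨BC.tmul (Wm f) 1 a, by rw [hΦtmul, map_one]⟩
      | zero => rw [BC.tmul_zero]; exact zero_mem _
      | add a b _ _ ha hb => rw [BC.tmul_add]; exact add_mem ha hb
      | smul a y _ hy =>
        rw [← BC.ι_apply (Wm f), LinearMap.map_smulₛₗ]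
        exact Submodule.smul_mem _ _ hy
    | add a b ha hb => exact add_mem ha hb
  set LR := LinearMap.range (BC.map (Wm f) (projL hLT))
  set TR := LinearMap.range (BC.map (Wm f) (projT hLT))
  have hLL : ∀ z, BC.map (Wm f) (projL hLT) (BC.map (Wm f) (projL hLT) z) = BC.map (Wm f) (projL hLT) z := fun z => by
    rw [← LinearMap.comp_apply, ← map_comp']
    congr 2
    exact LinearMap.ext fun x => projL_of_mem hLT (projL_mem hLT x)
  have hLT0 : ∀ z, BC.map (Wm f) (projL hLT) (BC.map (Wm f) (projT hLT) z) = 0 := fun z => by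
    rw [← LinearMap.comp_apply, ← map_comp',
      show projL hLT ∘ₗ projT hLT = (0 : P →ₗ[WittVector p S] P) from
        LinearMap.ext fun x => projL_of_mem_T hLT (projT_mem hLT x)]
    induction z using BC.induction_on (Wm f) with
    | zero => rw [map_zero]
    | tmul c x => rw [BC.map_tmul, LinearMap.zero_apply, BC.tmul_zero]
    | add a b ha hb => rw [map_add, ha, hb, add_zero]
  have hsum : ∀ z : BC (Wm f) P, BC.map (Wm f) (projL hLT) z + BC.map (Wm f) (projT hLT) z = z :=
    map_isCompl (P' := P) (Wm f) (projL hLT) (projT hLT) (LinearMap.ext (projL_add_projT hLT))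
  have hLRT : IsCompl LR TR := by
    refine ⟨Submodule.disjoint_def.2 ?_, codisjoint_iff.2 (eq_top_iff.2 fun z _ => ?_)⟩
    · rintro _ ⟨a, rfl⟩ ⟨b, hb⟩
      rw [← hLL a, ← hb, hLT0]
    · exact Submodule.mem_sup.2 ⟨_, ⟨z, rfl⟩, _, ⟨z, rfl⟩, hsum z⟩
  obtain ⟨DR, hQR, hFR, hVR⟩ := exists_display_of_normal hLRT Φ hspan
  have hmemL : ∀ {x : P}, x ∈ L → ∀ w, BC.tmul (Wm f) w x ∈ LR := fun {x} hx w =>
    ⟨BC.tmul (Wm f) w x, by rw [BC.map_tmul, projL_of_mem hLT hx]⟩
  have hmemT : ∀ {x : P}, x ∈ T → ∀ w, BC.tmul (Wm f) w x ∈ TR := fun {x} hx w =>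
    ⟨BC.tmul (Wm f) w x, by rw [BC.map_tmul, projT_of_mem hLT hx]⟩
  have hFtmul : ∀ (w : WittVector p R) (x : P),
      DR.F (BC.tmul (Wm f) w x) = BC.tmul (Wm f) (σR w) (D.F x) := by
    intro w x
    have e : BC.tmul (Wm f) w x = BC.tmul (Wm f) w (projL hLT x) + BC.tmul (Wm f) w (projT hLT x) := by
      rw [← BC.tmul_add, projL_add_projT]
    rw [e, hFR]
    simp only [map_add, projL_of_mem hLRT (hmemL (projL_mem hLT x) w),
      projL_of_mem_T hLRT (hmemT (projT_mem hLT x) w), projT_of_mem_L hLRT (hmemL (projL_mem hLT x) w),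
      projT_of_mem hLRT (hmemT (projT_mem hLT x) w), add_zero, zero_add, map_zero, smul_zero, hΦtmul]
    rw [hΦL _ (hLQ (projL_mem hLT x)) (projL_mem hLT x), hΦT _ (projT_mem hLT x)]
    conv_rhs => rw [← projL_add_projT hLT x, map_add, BC.tmul_add,
      show D.F (projL hLT x) = (p : WittVector p S) • D.Vinv ⟨projL hLT x, hLQ (projL_mem hLT x)⟩ from
        F_eq_smul_Vinv D ⟨_, hLQ (projL_mem hLT x)⟩]
    congr 1
    rw [← BC.tmul_mul_apply, map_natCast, BC.smul_tmul, mul_comm]
  refine ⟨DR, { Q_eq := ?_, F_tmul := hFtmul, Vinv_tmul := ?_, Vinv_verschiebung_tmul := ?_ }⟩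
  · refine le_antisymm ?_ fun z hz => ?_
    · rw [hQR, sup_le_iff]
      constructor
      · rintro _ ⟨z, rfl⟩
        rw [LinearMap.mem_ker]
        induction z using BC.induction_on (Wm f) with
        | zero => rw [map_zero, map_zero]
        | tmul w x =>
          rw [BC.map_tmul, bcQuotMap_tmul, Submodule.mkQ_apply,
            (Submodule.Quotient.mk_eq_zero D.Q).2 (hLQ (projL_mem hLT x)), BC.tmul_zero]
        | add a b ha hb => rw [map_add, map_add, ha, hb, add_zero]
      · rw [Submodule.smul_le]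
        intro w hw z _
        rw [LinearMap.mem_ker, LinearMap.map_smulₛₗ, show constantCoeff w = 0 from mem_IV_iff.1 hw,
          zero_smul]
    · rw [hQR, mem_sup_IV_iff hLRT, ← mem_smul_top_iff]
      obtain ⟨n, φ, e, he⟩ := exists_dualBasis (A := WittVector p S) (P := P)
      have hc : ∀ i, BC.lift (Wm f) ((semilinearOfRingHom (Wm f)).comp (φ i ∘ₗ projT hLT)) z ∈ IV p R :=
        fun i => constantCoeff_lift_eq_zero f D _
          (fun q hq => (mem_sup_IV_iff hLT).1 (hQ ▸ hq) (φ i)) hz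
      have hzT : BC.map (Wm f) (projT hLT) z = ∑ i,
          BC.lift (Wm f) ((semilinearOfRingHom (Wm f)).comp (φ i ∘ₗ projT hLT)) z • BC.tmul (Wm f) 1 (e i) := by
        clear hz hc
        induction z using BC.induction_on (Wm f) with
        | zero => simp
        | tmul w x =>
          rw [BC.map_tmul]
          conv_lhs => rw [he (projT hLT x)]
          rw [BC.tmul_eq_smul_tmul_one, ← BC.ι_apply (Wm f), map_sum, Finset.smul_sum]
          refine Finset.sum_congr rfl fun i _ => ?_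
          rw [LinearMap.map_smulₛₗ, BC.lift_tmul, smul_eq_mul, mul_smul]
          rfl
        | add a b ha hb => rw [map_add, ha, hb]; simp only [map_add, add_smul, Finset.sum_add_distrib]
      have e1 : projT hLRT z = BC.map (Wm f) (projT hLT) z := by
        conv_lhs => rw [← hsum z]
        rw [map_add, projT_of_mem_L hLRT ⟨z, rfl⟩, projT_of_mem hLRT ⟨z, rfl⟩, zero_add]
      rw [e1, hzT]
      exact Submodule.sum_mem _ fun i _ => Submodule.smul_mem_smul (hc i) trivial
  · intro w y h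
    refine forall_Q_of_normal D hQ (fun y => ∀ h, DR.Vinv ⟨BC.tmul (Wm f) w (y : P), h⟩ =
      BC.tmul (Wm f) (σR w) (D.Vinv y)) ?_ ?_ ?_ y h
    · intro a b ha hb h
      have hQmem : ∀ c : D.Q, BC.tmul (Wm f) w (c : P) ∈ DR.Q := fun c => by
        obtain ⟨a', ha', b', hb', hc⟩ := Submodule.mem_sup.1 (hQ ▸ c.2 : (c : P) ∈ L ⊔ IV p S • T)
        rw [hQR, ← hc, BC.tmul_add]
        refine Submodule.add_mem_sup (hmemL ha' w) ?_
        refine Submodule.smul_induction_on hb' (fun s hs t ht => ?_) (fun x y hx hy => ?_)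
        · rw [← BC.tmul_mul_apply, mul_comm, ← BC.smul_tmul]
          exact Submodule.smul_mem_smul (map_mem_IV f hs) (hmemT ht w)
        · rw [BC.tmul_add]; exact add_mem hx hy
      rw [map_add D.Vinv, BC.tmul_add, ← ha (hQmem a), ← hb (hQmem b), ← map_add DR.Vinv]
      exact Vinv_congr DR (BC.tmul_add _ _ _ _)
    · intro x hx hxL h
      rw [hVR _ _ (hmemL hxL w), hΦtmul, hΦL x hx hxL]
    · intro u t hu ht h
      have e : BC.tmul (Wm f) w (verschiebung u • t)
          = verschiebung (σR w * (Wm f) u) • BC.tmul (Wm f) 1 t := by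
        rw [← BC.tmul_mul_apply, WittVector.map_verschiebung, BC.smul_tmul, mul_one, mul_comm (σR w),
          verschiebung_mul_frobenius, mul_comm w]
      rw [Vinv_congr DR (b := ⟨_, smul_mem_Q DR (verschiebung_mem_IV p R (σR w * (Wm f) u)) _⟩) e,
        Vinv_V_smul, hFtmul, map_one, Vinv_V_smul, BC.smul_tmul, mul_one, ← BC.tmul_mul_apply]
  · intro w x h
    have e : BC.tmul (Wm f) (verschiebung w) x = verschiebung w • BC.tmul (Wm f) 1 x := by
      rw [BC.smul_tmul, mul_one]
    rw [Vinv_congr DR (b := ⟨_, smul_mem_Q DR (verschiebung_mem_IV p R w) _⟩) e,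
      Vinv_V_smul, hFtmul, map_one, BC.smul_tmul, mul_one]

variable {f D}

theorem tmul_mem_Q {DR : Display3n p R (BC (Wm f) P)} (h : IsDispBaseChange f D DR) (w : WittVector p R)
    (y : D.Q) : BC.tmul (Wm f) w (y : P) ∈ DR.Q := by
  rw [h.Q_eq, LinearMap.mem_ker, bcQuotMap_tmul, Submodule.mkQ_apply,
    (Submodule.Quotient.mk_eq_zero D.Q).2 y.2, BC.tmul_zero]

theorem verschiebung_tmul_mem_Q {DR : Display3n p R (BC (Wm f) P)} (h : IsDispBaseChange f D DR)
    (w : WittVector p R) (x : P) : BC.tmul (Wm f) (verschiebung w) x ∈ DR.Q := by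
  rw [h.Q_eq, LinearMap.mem_ker, bcQuotMap_tmul]
  rw [show constantCoeff (verschiebung w) = 0 from verschiebung_coeff_zero w, BC.zero_tmul]

/-- Induction on the submodule `Q_R`. -/
theorem forall_QR {DR : Display3n p R (BC (Wm f) P)} (h : IsDispBaseChange f D DR)
    (C : DR.Q → Prop) (hadd : ∀ a b, C a → C b → C (a + b))
    (h1 : ∀ (w : WittVector p R) (y : D.Q), C ⟨_, tmul_mem_Q h w y⟩)
    (h2 : ∀ (w : WittVector p R) (x : P), C ⟨_, verschiebung_tmul_mem_Q h w x⟩)
    (q : DR.Q) : C q := by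
  obtain ⟨z, hz⟩ := q
  haveI := D.finite
  haveI := D.projective
  obtain ⟨L, T, hLT, hQ⟩ := D.exists_normal
  have hLQ : L ≤ D.Q := hQ ▸ le_sup_left
  obtain ⟨n, φ, e, he⟩ := exists_dualBasis (A := WittVector p S) (P := P)
  have hz' : bcQuotMap f D.Q z = 0 := by
    have := hz
    rwa [h.Q_eq] at this
  have hc : ∀ i, BC.lift (Wm f) ((semilinearOfRingHom (Wm f)).comp (φ i ∘ₗ projT hLT)) z ∈ IV p R :=
    fun i => constantCoeff_lift_eq_zero f D _
      (fun q hq => (mem_sup_IV_iff hLT).1 (hQ ▸ hq) (φ i)) hz'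
  have key : ∀ z : BC (Wm f) P, BC.map (Wm f) (projL hLT) z + ∑ i,
      BC.lift (Wm f) ((semilinearOfRingHom (Wm f)).comp (φ i ∘ₗ projT hLT)) z • BC.tmul (Wm f) 1 (e i) = z := by
    intro z
    induction z using BC.induction_on (Wm f) with
    | zero => simp
    | tmul w x =>
      conv_rhs => rw [← projL_add_projT hLT x, BC.tmul_add, he (projT hLT x)]
      rw [BC.map_tmul]
      congr 1
      conv_rhs => rw [BC.tmul_eq_smul_tmul_one _ w, ← BC.ι_apply (Wm f), map_sum, Finset.smul_sum]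
      refine Finset.sum_congr rfl fun i _ => ?_
      rw [LinearMap.map_smulₛₗ, BC.lift_tmul, smul_eq_mul, mul_smul]
      rfl
    | add a b ha hb =>
      conv_rhs => rw [← ha, ← hb]
      simp only [map_add, add_smul, Finset.sum_add_distrib]
      abel
  have hfin : ∀ (s : Finset (Fin n)) (a : BC (Wm f) P), (∃ hq : a ∈ DR.Q, C ⟨a, hq⟩) →
      ∃ hq : a + ∑ i ∈ s,
        BC.lift (Wm f) ((semilinearOfRingHom (Wm f)).comp (φ i ∘ₗ projT hLT)) z • BC.tmul (Wm f) 1 (e i) ∈ DR.Q,
        C ⟨_, hq⟩ := by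
    intro s
    induction s using Finset.induction_on with
    | empty => intro a ha; simpa using ha
    | insert i s hi ih =>
      intro a ha
      obtain ⟨haQ, haC⟩ := ha
      obtain ⟨u, hu⟩ := mem_IV_iff_exists.1 (hc i)
      simp only [Finset.sum_insert hi, ← add_assoc]
      have e1 : BC.lift (Wm f) ((semilinearOfRingHom (Wm f)).comp (φ i ∘ₗ projT hLT)) z • BC.tmul (Wm f) 1 (e i)
          = BC.tmul (Wm f) (verschiebung u) (e i) := by rw [hu, BC.smul_tmul, mul_one]
      simp only [e1]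
      exact ih _ ⟨add_mem haQ (verschiebung_tmul_mem_Q h u (e i)), hadd ⟨a, haQ⟩ _ haC (h2 u (e i))⟩
  have h0 : ∀ y, ∃ hq : BC.map (Wm f) (projL hLT) y ∈ DR.Q, C ⟨_, hq⟩ := by
    intro y
    induction y using BC.induction_on (Wm f) with
    | zero =>
      have := h2 0 0
      simp only [map_zero, BC.tmul_zero] at this
      refine ⟨by rw [map_zero]; exact zero_mem _, ?_⟩
      simpa only [map_zero] using this
    | tmul w x =>
      rw [BC.map_tmul]
      exact ⟨_, h1 w ⟨projL hLT x, hLQ (projL_mem hLT x)⟩⟩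
    | add a b ha hb =>
      obtain ⟨ha1, ha2⟩ := ha
      obtain ⟨hb1, hb2⟩ := hb
      rw [map_add]
      exact ⟨add_mem ha1 hb1, hadd ⟨_, ha1⟩ ⟨_, hb1⟩ ha2 hb2⟩
  obtain ⟨hq, hC⟩ := hfin Finset.univ _ (h0 z)
  have hsub : (⟨z, hz⟩ : DR.Q) = ⟨_, hq⟩ := Subtype.ext (key z).symm
  rw [hsub]; exact hC

theorem isDispBaseChange_unique {DR DR' : Display3n p R (BC (Wm f) P)} (h : IsDispBaseChange f D DR)
    (h' : IsDispBaseChange f D DR') : DR = DR' := by
  refine ext_display DR (h.Q_eq.trans h'.Q_eq.symm) fun x hx hx' => ?_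
  refine forall_QR h (fun q => ∀ hx' : (q : BC (Wm f) P) ∈ DR'.Q, DR.Vinv q = DR'.Vinv ⟨q, hx'⟩)
    ?_ ?_ ?_ ⟨x, hx⟩ hx'
  · intro a b ha hb hab
    have hQ' : DR.Q ≤ DR'.Q := (h.Q_eq.trans h'.Q_eq.symm).le
    rw [map_add, ha (hQ' a.2), hb (hQ' b.2), ← map_add DR'.Vinv]
    rfl
  · intro w y hy
    rw [h.Vinv_tmul w y, h'.Vinv_tmul w y hy]
  · intro w y hy
    rw [h.Vinv_verschiebung_tmul w y, h'.Vinv_verschiebung_tmul w y hy]

end Groth.Agent.Disp53
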