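import Groth.Prelude.Def_W4c1extbt610Disp
import Groth.Prelude.Def_Dieu
import Groth.Agent.CAlg8.Witt
import Mathlib

/-!
Elementary facts on `IV`, on 3n-displays and on Witt vectors of perfect rings.
-/

set_option autoImplicit false
set_option linter.unusedSectionVars false
universe u v w
open W4c1extbt610 WittVector

namespace Groth.Agent.Disp53

variable {p : ℕ} [Fact p.Prime] {R : Type u} [CommRing R]

theorem IV_eq_ker : IV p R = RingHom.ker (constantCoeff : WittVector p R →+* R) := by
  refine le_antisymm (Ideal.span_le.2 ?_) fun x hx => ?_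
  · rintro _ ⟨y, rfl⟩
    exact CAlg8.Witt.verschiebung_mem y
  · obtain ⟨y, rfl⟩ := CAlg8.Witt.exists_verschiebung (RingHom.mem_ker.1 hx)
    exact verschiebung_mem_IV p R y

theorem mem_IV_iff {x : WittVector p R} : x ∈ IV p R ↔ x.coeff 0 = 0 := by
  rw [IV_eq_ker, RingHom.mem_ker]; rfl

theorem mem_IV_iff_exists {x : WittVector p R} : x ∈ IV p R ↔ ∃ y, x = verschiebung y := by
  constructor
  · intro h; exact CAlg8.Witt.exists_verschiebung (mem_IV_iff.1 h)
  · rintro ⟨y, rfl⟩; exact verschiebung_mem_IV p R y

theorem verschiebung_injective :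
    Function.Injective (verschiebung : WittVector p R → WittVector p R) := by
  intro x y h
  ext n
  have := congrArg (fun z : WittVector p R => z.coeff (n + 1)) h
  simpa only [verschiebung_coeff_succ] using this

theorem frobenius_verschiebung' (w : WittVector p R) :
    WittVector.frobenius (verschiebung w) = (p : WittVector p R) * w := by
  rw [frobenius_verschiebung, mul_comm]

section Display

variable {P : Type v} [AddCommGroup P] [Module (WittVector p R) P] (D : Display3n p R P)

theorem smul_mem_Q {w : WittVector p R} (hw : w ∈ IV p R) (x : P) : w • x ∈ D.Q :=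
  D.IV_smul_le (Submodule.smul_mem_smul hw Submodule.mem_top)

theorem Vinv_congr {a b : D.Q} (h : (a : P) = b) : D.Vinv a = D.Vinv b := by
  rw [Subtype.ext h]

theorem Vinv_V_smul (w : WittVector p R) (x : P) (h : verschiebung w • x ∈ D.Q) :
    D.Vinv ⟨verschiebung w • x, h⟩ = w • D.F x := D.Vinv_verschiebung_smul w x

theorem Vinv_smul (w : WittVector p R) (q : D.Q) (h : w • (q : P) ∈ D.Q) :
    D.Vinv ⟨w • (q : P), h⟩ = WittVector.frobenius w • D.Vinv q :=
  (Vinv_congr D (a := ⟨_, h⟩) (b := w • q) rfl).trans (LinearMap.map_smulₛₗ D.Vinv w q)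

theorem F_eq_Vinv (x : P) :
    D.F x = D.Vinv ⟨verschiebung 1 • x, smul_mem_Q D (verschiebung_mem_IV p R 1) x⟩ := by
  rw [Vinv_V_smul, one_smul]

theorem F_eq_smul_Vinv (q : D.Q) : D.F (q : P) = (p : WittVector p R) • D.Vinv q := by
  rw [F_eq_Vinv, Vinv_smul, frobenius_verschiebung', mul_one]

theorem ext_display {D' : Display3n p R P} (hQ : D.Q = D'.Q)
    (hV : ∀ (x : P) (h : x ∈ D.Q) (h' : x ∈ D'.Q), D.Vinv ⟨x, h⟩ = D'.Vinv ⟨x, h'⟩) : D = D' := by
  have hF : D.F = D'.F := LinearMap.ext fun x => by
    rw [F_eq_Vinv, F_eq_Vinv]; exact hV _ _ _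
  rcases D with ⟨Q, F, Vi, _, _, _, _, _, _⟩
  rcases D' with ⟨Q', F', Vi', _, _, _, _, _, _⟩
  cases hQ
  cases hF
  have : Vi = Vi' := LinearMap.ext fun q => hV q.1 q.2 q.2
  cases this
  rfl

end Display

section CharP

variable [CharP R p]

theorem verschiebung_frobenius' (z : WittVector p R) :
    verschiebung (WittVector.frobenius z) = (p : WittVector p R) * z := by
  rw [verschiebung_frobenius, mul_comm]

theorem natCast_mem_IV : (p : WittVector p R) ∈ IV p R := mem_IV_iff.2 (coeff_p_zero p R)

variable [PerfectRing R p]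

theorem IV_eq_span_p : IV p R = Ideal.span {(p : WittVector p R)} := by
  refine le_antisymm (fun x hx => ?_) ((Ideal.span_singleton_le_iff_mem _).2 natCast_mem_IV)
  obtain ⟨y, rfl⟩ := mem_IV_iff_exists.1 hx
  obtain ⟨z, rfl⟩ := (frobenius_bijective p R).2 y
  rw [verschiebung_frobenius']
  exact Ideal.mul_mem_right _ _ (Ideal.mem_span_singleton_self _)

theorem p_mul_injective {x : WittVector p R} (h : (p : WittVector p R) * x = 0) : x = 0 := by
  rw [← verschiebung_frobenius', ← map_zero (verschiebung (p := p) (R := R))] at h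
  have := verschiebung_injective h
  rw [← map_zero (WittVector.frobenius (p := p) (R := R))] at this
  exact (frobenius_bijective p R).1 this

theorem p_smul_injective {M : Type v} [AddCommGroup M] [Module (WittVector p R) M]
    [Module.Projective (WittVector p R) M] {x : M} (h : (p : WittVector p R) • x = 0) : x = 0 := by
  obtain ⟨s, hs⟩ := Module.Projective.out (R := WittVector p R) (P := M)
  apply hs.injective
  ext i
  have := congrArg (fun z => s z i) h
  simp only [map_smul, Finsupp.smul_apply, smul_eq_mul, map_zero, Finsupp.coe_zero,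
    Pi.zero_apply] at this
  simp [p_mul_injective this]

theorem frobenius_symm_apply (w : WittVector p R) :
    WittVector.frobenius ((frobeniusEquiv p R).symm w) = w :=
  (frobeniusEquiv p R).apply_symm_apply w

theorem frobenius_symm_apply' (w : WittVector p R) :
    (frobeniusEquiv p R).symm (WittVector.frobenius w) = w :=
  (frobeniusEquiv p R).symm_apply_apply w

end CharP

end Groth.Agent.Disp53
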