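import Groth.Agent.Disp53.Basic
import Groth.Agent.Disp53.BCTools
import Mathlib

/-!
Normal decompositions and the construction of 3n-displays from them.
-/

set_option autoImplicit false
set_option linter.unusedSectionVars false
universe u v w
open W4c1extbt610 WittVector

namespace Groth.Agent.Disp53

variable {p : ℕ} [Fact p.Prime] {R : Type u} [CommRing R]

theorem frobenius_mem_span_p {w : WittVector p R} (hw : w ∈ IV p R) :
    ∃ u, WittVector.frobenius w = (p : WittVector p R) * u ∧ verschiebung u = w := by
  obtain ⟨u, rfl⟩ := mem_IV_iff_exists.1 hw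
  exact ⟨u, frobenius_verschiebung' u, rfl⟩

/-- The inverse of `V` on `IV`. -/
noncomputable def unV (w : IV p R) : WittVector p R := (mem_IV_iff_exists.1 w.2).choose

theorem V_unV (w : IV p R) : verschiebung (unV w) = (w : WittVector p R) :=
  (mem_IV_iff_exists.1 w.2).choose_spec.symm

theorem unV_eq {w : IV p R} {u : WittVector p R} (h : verschiebung u = (w : WittVector p R)) :
    unV w = u := verschiebung_injective ((V_unV w).trans h.symm)

theorem unV_add (a b : IV p R) : unV (a + b) = unV a + unV b :=
  unV_eq (by rw [map_add, V_unV, V_unV]; rfl)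

theorem unV_smul (c : WittVector p R) (a : IV p R) :
    unV (c • a) = WittVector.frobenius c * unV a :=
  unV_eq (by
    rw [mul_comm, verschiebung_mul_frobenius, V_unV, mul_comm]; rfl)

theorem p_mul_unV (a : IV p R) : (p : WittVector p R) * unV a = WittVector.frobenius (a : WittVector p R) := by
  rw [← frobenius_verschiebung', V_unV]

variable {P : Type v} [AddCommGroup P] [Module (WittVector p R) P]

section Normal

variable {L T : Submodule (WittVector p R) P} (hLT : IsCompl L T)

/-- The projection to `L` along `T`. -/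
noncomputable def projL : P →ₗ[WittVector p R] P := L.projection T hLT

/-- The projection to `T` along `L`. -/
noncomputable def projT : P →ₗ[WittVector p R] P := LinearMap.id - projL hLT

theorem projL_mem (x : P) : projL hLT x ∈ L := Submodule.projection_apply_mem hLT x

theorem projT_mem (x : P) : projT hLT x ∈ T := by
  refine (Submodule.projection_apply_eq_zero_iff hLT).1 ?_
  simp only [projT, projL, LinearMap.sub_apply, LinearMap.id_apply, map_sub]
  rw [Submodule.projection_apply_of_mem_left hLT (Submodule.projection_apply_mem hLT x), sub_self]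

theorem projL_add_projT (x : P) : projL hLT x + projT hLT x = x := by
  simp [projT]

theorem projL_of_mem {x : P} (hx : x ∈ L) : projL hLT x = x :=
  Submodule.projection_apply_of_mem_left hLT hx

theorem projL_of_mem_T {x : P} (hx : x ∈ T) : projL hLT x = 0 :=
  Submodule.projection_apply_of_mem_right hLT hx

theorem projT_of_mem {x : P} (hx : x ∈ T) : projT hLT x = x := by
  simp [projT, projL_of_mem_T hLT hx]

theorem projT_of_mem_L {x : P} (hx : x ∈ L) : projT hLT x = 0 := by
  simp [projT, projL_of_mem hLT hx]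

theorem mem_sup_IV_iff [Module.Finite (WittVector p R) P] [Module.Projective (WittVector p R) P]
    {x : P} : x ∈ L ⊔ IV p R • T ↔
      ∀ φ : P →ₗ[WittVector p R] WittVector p R, φ (projT hLT x) ∈ IV p R := by
  rw [← mem_smul_top_iff]
  constructor
  · intro hx
    obtain ⟨a, ha, b, hb, rfl⟩ := Submodule.mem_sup.1 hx
    rw [map_add, projT_of_mem_L hLT ha, zero_add,
      projT_of_mem hLT (Submodule.smul_le_right hb)]
    exact Submodule.smul_mono le_rfl le_top hb
  · intro hx
    refine Submodule.mem_sup.2 ⟨_, projL_mem hLT x, projT hLT x, ?_, projL_add_projT hLT x⟩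
    have h := Submodule.mem_map_of_mem (f := projT hLT) hx
    rw [Submodule.map_smul''] at h
    rw [show projT hLT x = projT hLT (projT hLT x) from (projT_of_mem hLT (projT_mem hLT x)).symm]
    exact Submodule.smul_mono le_rfl (by rintro _ ⟨y, -, rfl⟩; exact projT_mem hLT y) h

/-- A 3n-display from a normal decomposition and the linearised structure map. -/
theorem exists_display_of_normal [Module.Finite (WittVector p R) P] [Module.Projective (WittVector p R) P]
    (Φ : P →ₛₗ[(WittVector.frobenius : WittVector p R →+* WittVector p R)] P)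
    (hΦ : Submodule.span (WittVector p R) (Set.range Φ) = ⊤) :
    ∃ D : Display3n p R P, D.Q = L ⊔ IV p R • T ∧
      (∀ x, D.F x = (p : WittVector p R) • Φ (projL hLT x) + Φ (projT hLT x)) ∧
      ∀ (x : P) (h : x ∈ D.Q), x ∈ L → D.Vinv ⟨x, h⟩ = Φ x := by
  obtain ⟨n, φ, e, he⟩ := exists_dualBasis (A := WittVector p R) (P := P)
  set Q : Submodule (WittVector p R) P := L ⊔ IV p R • T with hQdef
  have hφ : ∀ (x : Q) (i : Fin n), φ i (projT hLT x) ∈ IV p R := fun x i =>
    (mem_sup_IV_iff hLT).1 x.2 (φ i)
  let u : Q → Fin n → WittVector p R := fun x i => unV ⟨φ i (projT hLT x), hφ x i⟩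
  let Vi : Q →ₛₗ[(WittVector.frobenius : WittVector p R →+* WittVector p R)] P :=
    { toFun := fun x => Φ (projL hLT x) + ∑ i, u x i • Φ (projT hLT (e i))
      map_add' := fun x y => by
        have hu : ∀ i, u (x + y) i = u x i + u y i := fun i => by
          refine Eq.trans ?_ (unV_add _ _)
          simp only [u]
          congr 1
          exact Subtype.ext (by simp)
        simp only [hu, add_smul, Finset.sum_add_distrib, Submodule.coe_add, map_add]
        abel
      map_smul' := fun c x => by
        have hu : ∀ i, u (c • x) i = WittVector.frobenius c * u x i := fun i => by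
          refine Eq.trans ?_ (unV_smul _ _)
          simp only [u]
          congr 1
          exact Subtype.ext (by simp)
        simp only [hu, mul_smul, Submodule.coe_smul, map_smul, LinearMap.map_smulₛₗ, smul_add, Finset.smul_sum] }
  have hVi : ∀ x : Q, Vi x = Φ (projL hLT x) + ∑ i, u x i • Φ (projT hLT (e i)) := fun x => rfl
  let F : P →ₛₗ[(WittVector.frobenius : WittVector p R →+* WittVector p R)] P :=
    (p : WittVector p R) • (Φ.comp (projL hLT)) + Φ.comp (projT hLT)
  have hT : ∀ x : P, ∑ i, φ i (projT hLT x) • projT hLT (e i) = projT hLT x := fun x => by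
    have h := congrArg (projT hLT) (he (projT hLT x))
    rw [map_sum, projT_of_mem hLT (projT_mem hLT x)] at h
    simp only [map_smul] at h
    exact h.symm
  have hL : ∀ (x : P) (h : x ∈ Q), x ∈ L → Vi ⟨x, h⟩ = Φ x := by
    intro x h hx
    rw [hVi]
    simp only
    rw [projL_of_mem hLT hx]
    refine add_eq_left.2 (Finset.sum_eq_zero fun i _ => ?_)
    rw [show u ⟨x, h⟩ i = 0 from unV_eq (by rw [map_zero]; simp [projT_of_mem_L hLT hx]), zero_smul]
  have hIQ : IV p R • (⊤ : Submodule (WittVector p R) P) ≤ Q := by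
    refine Submodule.smul_le.2 fun w hw x _ => (mem_sup_IV_iff hLT).2 fun ψ => ?_
    rw [map_smul, map_smul, smul_eq_mul]
    exact Ideal.mul_mem_right _ _ hw
  have hVs : ∀ (w : WittVector p R) (x : P) (h : verschiebung w • x ∈ Q),
      Vi ⟨verschiebung w • x, h⟩ = w • F x := by
    intro w x h
    rw [hVi]
    have hu : ∀ i, u ⟨verschiebung w • x, h⟩ i = w * WittVector.frobenius (φ i (projT hLT x)) := fun i =>
      unV_eq (by rw [verschiebung_mul_frobenius]; simp [mul_comm])
    have h3 : ∑ i, WittVector.frobenius (φ i (projT hLT x)) • Φ (projT hLT (e i)) = Φ (projT hLT x) := by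
      conv_rhs => rw [← hT x]
      rw [map_sum]
      simp only [LinearMap.map_smulₛₗ]
    simp only [hu, mul_smul, ← Finset.smul_sum, h3, map_smul, LinearMap.map_smulₛₗ, frobenius_verschiebung']
    rw [show F x = (p : WittVector p R) • Φ (projL hLT x) + Φ (projT hLT x) from rfl, smul_add,
      smul_comm (p : WittVector p R) w]
  refine ⟨{ Q := Q, F := F, Vinv := Vi, finite := inferInstance, projective := inferInstance,
            IV_smul_le := hIQ, exists_normal := ⟨L, T, hLT, rfl⟩,
            span_range_Vinv := ?_,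
            Vinv_verschiebung_smul := fun w x => hVs w x _ }, rfl, fun x => rfl, hL⟩
  rw [eq_top_iff, ← hΦ, Submodule.span_le]
  rintro _ ⟨x, rfl⟩
  have h1 : Φ (projL hLT x) ∈ Submodule.span (WittVector p R) (Set.range Vi) :=
    Submodule.subset_span ⟨⟨projL hLT x, Submodule.mem_sup_left (projL_mem hLT x)⟩,
      hL _ _ (projL_mem hLT x)⟩
  have h2 : Φ (projT hLT x) ∈ Submodule.span (WittVector p R) (Set.range Vi) := by
    refine Submodule.subset_span ⟨⟨verschiebung 1 • projT hLT x,
      hIQ (Submodule.smul_mem_smul (verschiebung_mem_IV p R 1) trivial)⟩, ?_⟩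
    rw [hVs, one_smul]
    change (p : WittVector p R) • Φ (projL hLT (projT hLT x)) + Φ (projT hLT (projT hLT x)) = _
    rw [projL_of_mem_T hLT (projT_mem hLT x), map_zero, smul_zero, zero_add,
      projT_of_mem hLT (projT_mem hLT x)]
  have h3 := add_mem h1 h2
  rw [← map_add, projL_add_projT] at h3
  exact h3

end Normal

section Gen

variable (D : Display3n p R P)

/-- To check a semilinear property on `Q` it is enough to check it on `L` and on `IV • T`. -/
theorem forall_Q_of_normal {L T : Submodule (WittVector p R) P} (hQ : D.Q = L ⊔ IV p R • T)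
    (C : D.Q → Prop) (hadd : ∀ a b, C a → C b → C (a + b))
    (hL : ∀ (x : P) (h : x ∈ D.Q), x ∈ L → C ⟨x, h⟩)
    (hT : ∀ (u : WittVector p R) (t : P) (h : verschiebung u • t ∈ D.Q), t ∈ T → C ⟨verschiebung u • t, h⟩)
    (q : D.Q) : C q := by
  obtain ⟨x, hx⟩ := q
  have hx' := hx
  rw [hQ, Submodule.mem_sup] at hx'
  obtain ⟨a, ha, b, hb, rfl⟩ := hx'
  have hLQ : L ≤ D.Q := hQ ▸ le_sup_left
  have key : ∀ y ∈ IV p R • T, ∀ h : y ∈ D.Q, C ⟨y, h⟩ := by
    have hTQ : IV p R • T ≤ D.Q := hQ ▸ le_sup_right
    intro y hy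
    refine (Submodule.smul_induction_on (p := fun y => y ∈ D.Q ∧ ∀ h : y ∈ D.Q, C ⟨y, h⟩) hy
      (fun w hw t ht => ?_) (fun y z hy hz => ?_)).2
    · obtain ⟨c, rfl⟩ := mem_IV_iff_exists.1 hw
      exact ⟨hTQ (Submodule.smul_mem_smul hw ht), fun h => hT c t h ht⟩
    · exact ⟨add_mem hy.1 hz.1, fun _ => hadd ⟨y, hy.1⟩ ⟨z, hz.1⟩ (hy.2 _) (hz.2 _)⟩
  exact hadd ⟨a, hLQ ha⟩ ⟨b, by rw [hQ]; exact Submodule.mem_sup_right hb⟩ (hL a _ ha) (key b hb _)

end Gen

end Groth.Agent.Disp53
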