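import Groth.Agent.Disp53.HomTools
import Mathlib

/-!
Descent of homomorphisms of displays along faithfully flat maps.
-/

set_option autoImplicit false
set_option linter.unusedSectionVars false
universe u v w
open WittVector W4c1extbt610 Dieu

namespace Groth.Agent.Disp53

variable {p : ℕ} [Fact p.Prime]

theorem map_injective_of_injective {S R : Type u} [CommRing S] [CommRing R] {g : S →+* R}
    (hg : Function.Injective g) :
    Function.Injective (WittVector.map g : WittVector p S →+* WittVector p R) := by
  intro a b h
  ext n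
  have := congrArg (fun w : WittVector p R => w.coeff n) h
  simp only [WittVector.map_coeff] at this
  exact hg this

theorem tmul_one_injective {S R : Type u} [CommRing S] [CommRing R] {g : S →+* R} (hg : Function.Injective g)
    {P : Type v} [AddCommGroup P] [Module (WittVector p S) P] [Module.Finite (WittVector p S) P]
    [Module.Projective (WittVector p S) P] :
    Function.Injective (BC.ι (WittVector.map g : WittVector p S →+* WittVector p R) P) := by
  intro a b h
  refine sub_eq_zero.1 (eq_zero_of_forall_dual fun φ => map_injective_of_injective (p := p) hg ?_)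
  have h1 := congrArg (BC.lift (WittVector.map g) ((semilinearOfRingHom (WittVector.map g)).comp φ)) h
  rw [BC.lift_ι, BC.lift_ι] at h1
  rw [map_sub φ, map_sub, map_zero, sub_eq_zero]
  exact h1

theorem existsUnique_descent {S R : Type u} [CommRing S] [CommRing R] [Algebra S R] [Module.FaithfullyFlat S R]
    {P : Type v} [AddCommGroup P] [Module (WittVector p S) P]
    {P' : Type v} [AddCommGroup P'] [Module (WittVector p S) P']
    {D : Display3n p S P} {D' : Display3n p S P'}
    {DR : Display3n p R (BC (WittVector.map (algebraMap S R) : WittVector p S →+* WittVector p R) P)}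
    (hDR : IsDispBaseChange (algebraMap S R) D DR)
    {DR' : Display3n p R (BC (WittVector.map (algebraMap S R) : WittVector p S →+* WittVector p R) P')}
    (hDR' : IsDispBaseChange (algebraMap S R) D' DR')
    {χ : BC (WittVector.map (algebraMap S R) : WittVector p S →+* WittVector p R) P →ₗ[WittVector p R]
      BC (WittVector.map (algebraMap S R) : WittVector p S →+* WittVector p R) P'}
    (hχ : IsHom DR DR' χ)
    (hc : ∀ (x : P) (φ : P' →ₗ[WittVector p S] WittVector p S) (n : ℕ),
      (Algebra.TensorProduct.includeLeftRingHom : R →+* TensorProduct S R R)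
          ((BC.lift (WittVector.map (algebraMap S R)) ((semilinearOfRingHom (WittVector.map (algebraMap S R))).comp φ)
            (χ (BC.tmul _ 1 x))).coeff n) =
        (Algebra.TensorProduct.includeRight : R →ₐ[S] TensorProduct S R R)
          ((BC.lift (WittVector.map (algebraMap S R)) ((semilinearOfRingHom (WittVector.map (algebraMap S R))).comp φ)
            (χ (BC.tmul _ 1 x))).coeff n)) :
    ∃! ψ : P →ₗ[WittVector p S] P', IsHom D D' ψ ∧
      BC.map (WittVector.map (algebraMap S R) : WittVector p S →+* WittVector p R) ψ = χ := by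
  haveI := D'.finite
  haveI := D'.projective
  have hg : Function.Injective (algebraMap S R) := FaithfulSMul.algebraMap_injective S R
  let g : WittVector p S →+* WittVector p R := WittVector.map (algebraMap S R)
  obtain ⟨m, φ, e, he⟩ := exists_dualBasis (A := WittVector p S) (P := P')
  have hrec : ∀ u : BC g P', u = ∑ i, BC.lift g ((semilinearOfRingHom g).comp (φ i)) u • BC.tmul g 1 (e i) := by
    intro u
    induction u using BC.induction_on g with
    | zero => simp
    | tmul w y =>
      conv_lhs => rw [BC.tmul_eq_smul_tmul_one, he y, ← BC.ι_apply g, map_sum, Finset.smul_sum]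
      refine Finset.sum_congr rfl fun i _ => ?_
      rw [LinearMap.map_smulₛₗ, BC.lift_tmul, smul_eq_mul, mul_smul]
      rfl
    | add a b ha hb =>
      conv_lhs => rw [ha, hb, ← Finset.sum_add_distrib]
      simp only [map_add, add_smul]
  have hpre : ∀ i x, ∃ w : WittVector p S,
      g w = BC.lift g ((semilinearOfRingHom g).comp (φ i)) (χ (BC.tmul g 1 x)) := by
    intro i x
    have h1 : ∀ n, ∃ s : S, algebraMap S R s
        = (BC.lift g ((semilinearOfRingHom g).comp (φ i)) (χ (BC.tmul g 1 x))).coeff n := fun n => by
      have h2 := Algebra.IsEffective.eqLocus_includeLeft_includeRight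
        (Algebra.IsEffective.of_faithfullyFlat S (S := R))
      exact h2.le (SetLike.mem_coe.2 (hc x (φ i) n))
    choose s hs using h1
    exact ⟨WittVector.mk p s, WittVector.ext fun n => by simp only [g, WittVector.map_coeff, WittVector.coeff_mk, hs]⟩
  choose d hd using hpre
  let dl : ∀ i, P →ₗ[WittVector p S] WittVector p S := fun i =>
    { toFun := d i
      map_add' := fun x y => map_injective_of_injective hg (by
        change g _ = g _
        rw [map_add, hd, hd, hd, BC.tmul_add, map_add, map_add])
      map_smul' := fun a x => map_injective_of_injective hg (by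
        change g _ = g _
        rw [RingHom.id_apply, smul_eq_mul, map_mul, hd, hd, ← BC.ι_apply g, LinearMap.map_smulₛₗ,
          map_smul, map_smul, BC.ι_apply, smul_eq_mul]) }
  let ψ : P →ₗ[WittVector p S] P' := ∑ i, (dl i).smulRight (e i)
  have hψ : ∀ x, BC.tmul g 1 (ψ x) = χ (BC.tmul g 1 x) := by
    intro x
    rw [hrec (χ (BC.tmul g 1 x))]
    simp only [ψ, LinearMap.sum_apply, LinearMap.smulRight_apply, ← BC.ι_apply, map_sum, LinearMap.map_smulₛₗ]
    refine Finset.sum_congr rfl fun i _ => ?_
    simp only [BC.ι_apply]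
    congr 1
    exact hd i x
  have hmap : BC.map g ψ = χ := BC.ext g fun x => by rw [BC.map_tmul, hψ]
  have hm : ∀ q, q ∈ D.Q → ψ q ∈ D'.Q := by
    intro q hq
    refine (mem_Q_iff_of_injective (algebraMap S R) hg D' _).2 ?_
    rw [← LinearMap.mem_ker, ← hDR'.Q_eq, BC.ι_apply, hψ]
    exact hχ.mapsTo _ (tmul_mem_Q hDR 1 ⟨q, hq⟩)
  refine ⟨ψ, ⟨isHom_of_Vinv ψ hm fun q => tmul_one_injective (p := p) hg ?_, hmap⟩, ?_⟩
  · rw [BC.ι_apply, BC.ι_apply, hψ]
    have h1 := hDR.Vinv_tmul 1 q (tmul_mem_Q hDR 1 q)
    have h2 := hDR'.Vinv_tmul 1 ⟨_, hm q q.2⟩ (tmul_mem_Q hDR' 1 ⟨_, hm q q.2⟩)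
    rw [map_one] at h1 h2
    rw [← h1, ← h2, hχ.comm_Vinv]
    exact Vinv_congr DR' (hψ q).symm
  · rintro ψ' ⟨-, hψ'⟩
    refine LinearMap.ext fun x => tmul_one_injective (p := p) hg ?_
    rw [BC.ι_apply, BC.ι_apply, hψ, ← hψ', BC.map_tmul]

end Groth.Agent.Disp53
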