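import Groth.Agent.Disp53.LevelOne
import Mathlib

/-!
The 3n-display of a Dieudonné module over a perfect ring.
-/

set_option autoImplicit false
set_option linter.unusedSectionVars false
universe u v w
open W4c1extbt610

namespace Groth.Agent.Disp53

variable {p : ℕ} [Fact p.Prime] {k : Type u} [CommRing k] [CharP k p] [PerfectRing k p]
variable {M : Type v} [AddCommGroup M] [Module (WittVector p k) M]
  [Module.Finite (WittVector p k) M] [Module.Projective (WittVector p k) M]

theorem isAdicComplete_span_p : IsAdicComplete (Ideal.span {(p : k)}) k := by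
  rw [CharP.cast_eq_zero, Ideal.span_singleton_eq_bot.2 rfl]
  infer_instance

theorem exists_display3n_of_dieudonne
    (F : M →ₛₗ[(WittVector.frobenius : WittVector p k →+* WittVector p k)] M)
    (V : M →ₛₗ[((WittVector.frobeniusEquiv p k).symm : WittVector p k →+* WittVector p k)] M)
    (hFV : ∀ m : M, F (V m) = (p : WittVector p k) • m) (hVF : ∀ m : M, V (F m) = (p : WittVector p k) • m) :
    ∃ D : Display3n p k M,
      D.F = F ∧ (∀ x : M, x ∈ D.Q ↔ x ∈ Set.range V) ∧
        ∀ (m : M) (h : V m ∈ D.Q), D.Vinv ⟨V m, h⟩ = m := by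
  have hσ : ∀ (w : WittVector p k) (m : M), V (WittVector.frobenius w • m) = w • V m := fun w m => by
    rw [LinearMap.map_smulₛₗ, RingEquiv.coe_toRingHom, frobenius_symm_apply']
  have hVinj : Function.Injective V := fun a b h => by
    rw [← sub_eq_zero]
    apply p_smul_injective (p := p) (R := k)
    rw [smul_sub, ← hFV, ← hFV, h, sub_self]
  let Q : Submodule (WittVector p k) M :=
    { carrier := Set.range V
      add_mem' := by rintro _ _ ⟨a, rfl⟩ ⟨b, rfl⟩; exact ⟨a + b, map_add V a b⟩
      zero_mem' := ⟨0, map_zero V⟩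
      smul_mem' := by rintro w _ ⟨m, rfl⟩; exact ⟨WittVector.frobenius w • m, hσ w m⟩ }
  have hIQ : IV p k • (⊤ : Submodule (WittVector p k) M) ≤ Q := by
    rw [IV_eq_span_p, Submodule.smul_le]
    intro w hw x _
    obtain ⟨c, rfl⟩ := Ideal.mem_span_singleton.1 hw
    exact ⟨F (c • x), by rw [hVF, smul_smul]⟩
  obtain ⟨fr⟩ := nonempty_frame_of_projective (p := p) (k := k) (M := M)
  obtain ⟨⟨-, -⟩, hproj⟩ := levelOne F V hFV hVF fr
  set Sk := Submodule.span (Red p k) (Set.range fun m : M => (pM p k M).mkQ (V m))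
  obtain ⟨i, hi⟩ := Module.projective_lifting_property Sk.mkQ LinearMap.id Sk.mkQ_surjective
  let C : Submodule (WittVector p k) M :=
    ((LinearMap.range i).restrictScalars (WittVector p k)).comap (pM p k M).mkQ
  have hSk : ∀ x : M, (pM p k M).mkQ x ∈ Sk → x ∈ Q := by
    intro x hx
    have key : ∀ y ∈ Sk, ∃ q ∈ Q, (pM p k M).mkQ q = y := by
      intro y hy
      induction hy using Submodule.span_induction with
      | mem y hy => obtain ⟨m, rfl⟩ := hy; exact ⟨V m, ⟨m, rfl⟩, rfl⟩
      | zero => exact ⟨0, zero_mem _, map_zero _⟩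
      | add a b _ _ ha hb =>
        obtain ⟨a', ha', rfl⟩ := ha
        obtain ⟨b', hb', rfl⟩ := hb
        exact ⟨a' + b', add_mem ha' hb', map_add _ _ _⟩
      | smul c a _ ha =>
        obtain ⟨w, rfl⟩ := Ideal.Quotient.mk_surjective c
        obtain ⟨a', ha', rfl⟩ := ha
        exact ⟨w • a', Q.smul_mem w ha', rfl⟩
    obtain ⟨q, hq, hqx⟩ := key _ hx
    rw [Submodule.mkQ_apply, Submodule.mkQ_apply, Submodule.Quotient.eq] at hqx
    have := sub_mem hq (hIQ (by rwa [IV_eq_span_p]))
    rwa [sub_sub_cancel] at this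
  have hsup : Q ⊔ C = ⊤ := by
    refine eq_top_iff.2 fun x _ => ?_
    obtain ⟨c, hc⟩ := (pM p k M).mkQ_surjective (i (Sk.mkQ ((pM p k M).mkQ x)))
    rw [← sub_add_cancel x c]
    refine Submodule.add_mem_sup (hSk _ ?_) (show c ∈ C from ⟨_, hc.symm⟩)
    rw [map_sub, hc, ← Submodule.Quotient.mk_eq_zero Sk, ← Submodule.mkQ_apply, map_sub,
      show Sk.mkQ (i (Sk.mkQ ((pM p k M).mkQ x))) = Sk.mkQ ((pM p k M).mkQ x) from LinearMap.congr_fun hi _,
      sub_self]
  have hinf : Q ⊓ C = IV p k • (⊤ : Submodule (WittVector p k) M) := by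
    refine le_antisymm ?_ (le_inf hIQ ?_)
    · rintro x ⟨⟨m, rfl⟩, z, hz⟩
      rw [IV_eq_span_p]
      refine (Submodule.Quotient.mk_eq_zero (pM p k M)).1 ?_
      change (pM p k M).mkQ (V m) = 0
      have h0 : Sk.mkQ (i z) = 0 := by
        rw [hz]; exact (Submodule.Quotient.mk_eq_zero Sk).2 (Submodule.subset_span ⟨m, rfl⟩)
      rw [show Sk.mkQ (i z) = z from LinearMap.congr_fun hi z] at h0
      rw [← hz, h0, map_zero]
    · intro x hx
      rw [IV_eq_span_p] at hx
      exact ⟨0, by rw [map_zero]; exact ((Submodule.Quotient.mk_eq_zero _).2 hx).symm⟩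
  haveI := isAdicComplete_span_p (p := p) (k := k)
  haveI := isAdicComplete_IV (p := p) (R := k)
  let e : M ≃ Q := (Equiv.ofInjective V hVinj)
  have he : ∀ m, ((e m : Q) : M) = V m := fun m => rfl
  have hs : ∀ q : Q, V (e.symm q) = (q : M) := fun q => congrArg Subtype.val (e.apply_symm_apply q)
  let Vi : Q →ₛₗ[(WittVector.frobenius : WittVector p k →+* WittVector p k)] M :=
    { toFun := fun q => e.symm q
      map_add' := fun a b => hVinj (by rw [map_add V, hs, hs, hs]; rfl)
      map_smul' := fun w a => hVinj (by rw [hσ, hs, hs]; rfl) }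
  have hVi : ∀ m (h : V m ∈ Q), Vi ⟨V m, h⟩ = m := fun m h => e.symm_apply_apply m
  refine ⟨{ Q := Q, F := F, Vinv := Vi, finite := inferInstance, projective := inferInstance,
            IV_smul_le := hIQ, exists_normal := exists_normal_of_isAdicComplete Q C hsup hinf,
            span_range_Vinv := eq_top_iff.2 fun m _ => Submodule.subset_span ⟨⟨V m, m, rfl⟩, hVi m _⟩,
            Vinv_verschiebung_smul := ?_ }, rfl, fun x => Iff.rfl, hVi⟩
  intro w x
  obtain ⟨z, rfl⟩ := (WittVector.frobenius_bijective p k).2 w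
  have h : WittVector.verschiebung (WittVector.frobenius z) • x
      = V (WittVector.frobenius z • F x) := by
    rw [verschiebung_frobenius', hσ, hVF, smul_smul, mul_comm]
  refine Eq.trans ?_ (hVi (WittVector.frobenius z • F x) ⟨_, rfl⟩)
  exact congrArg Vi (Subtype.ext h)

end Groth.Agent.Disp53
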