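import Mathlib

/-!
A differential on a finite projective module whose homology vanishes at every closed point is
null-homotopic.
-/

set_option autoImplicit false
set_option linter.unusedSectionVars false
universe u v w
open Polynomial

namespace Groth.Agent.Disp53

variable {k : Type u} [CommRing k] {P : Type v} [AddCommGroup P] [Module k P] [Module.Finite k P]

theorem isUnit_aux {m : Ideal k} [hm : m.IsMaximal] (u : Module.End k P)
    (hu : ∀ x, u x - x ∈ m • (⊤ : Submodule k P)) :
    ∃ (δ : k) (h : k[X]), δ ∉ m ∧ u * aeval u h = δ • (1 : Module.End k P) := by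
  obtain ⟨g, hg, -, hgc, hgu⟩ :=
    LinearMap.exists_monic_and_coeff_mem_pow_and_aeval_eq_zero_of_range_le_smul k m (f := u - 1)
      (fun _ ⟨x, hx⟩ => hx ▸ hu x)
  set G := g.comp (X - C 1) with hG
  have hG0 : aeval u G = 0 := by
    rw [hG, aeval_comp, map_sub, aeval_X, aeval_C, map_one]; exact hgu
  refine ⟨G.coeff 0, -G.divX, fun hmem => ?_, ?_⟩
  · rw [coeff_zero_eq_eval_zero, hG, eval_comp] at hmem
    simp only [eval_sub, eval_X, eval_C, zero_sub] at hmem
    have hq := congrArg (fun P : (k ⧸ m)[X] => P.eval (-1))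
      (show g.map (Ideal.Quotient.mk m) = X ^ g.natDegree from by
        ext i
        rw [coeff_map, coeff_X_pow]
        split_ifs with h
        · rw [h, coeff_natDegree, hg, map_one]
        · rcases lt_or_gt_of_ne h with h' | h'
          · rw [Ideal.Quotient.eq_zero_iff_mem]
            exact Ideal.pow_le_self (by omega) (hgc i)
          · rw [coeff_eq_zero_of_natDegree_lt h', map_zero])
    simp only [eval_pow, eval_X] at hq
    have he : (g.map (Ideal.Quotient.mk m)).eval (-1) = Ideal.Quotient.mk m (g.eval (-1)) := by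
      rw [← eval₂_at_apply (Ideal.Quotient.mk m) (-1 : k), map_neg, map_one, eval₂_eq_eval_map]
    rw [he, Ideal.Quotient.eq_zero_iff_mem.2 hmem] at hq
    haveI := Ideal.Quotient.nontrivial_iff.2 hm.ne_top
    exact (IsUnit.neg isUnit_one).pow g.natDegree |>.ne_zero hq.symm
  · have h := congrArg (aeval u) (X_mul_divX_add G)
    rw [map_add, map_mul, aeval_X, aeval_C, hG0, Algebra.algebraMap_eq_smul_one] at h
    rw [map_neg, mul_neg, neg_eq_iff_add_eq_zero, h]

variable [Module.Projective k P]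

theorem exists_homotopy (d : Module.End k P) (hdd : d * d = 0)
    (hex : ∀ m : Ideal k, m.IsMaximal → ∀ x : P, d x ∈ m • (⊤ : Submodule k P) →
      x ∈ LinearMap.range d ⊔ m • (⊤ : Submodule k P)) :
    ∃ s : Module.End k P, d * s + s * d = 1 := by
  let I : Ideal k :=
    { carrier := {c | ∃ s : Module.End k P, d * s + s * d = c • (1 : Module.End k P)}
      add_mem' := by
        rintro a b ⟨s, hs⟩ ⟨t, ht⟩
        exact ⟨s + t, by rw [mul_add, add_mul, add_smul, ← hs, ← ht]; abel⟩
      zero_mem' := ⟨0, by simp⟩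
      smul_mem' := by
        rintro c a ⟨s, hs⟩
        exact ⟨c • s, by rw [mul_smul_comm, smul_mul_assoc, ← smul_add, hs, smul_smul, smul_eq_mul]⟩ }
  suffices hI : I = ⊤ by
    obtain ⟨s, hs⟩ : (1 : k) ∈ I := hI ▸ Submodule.mem_top
    exact ⟨s, by rw [hs, one_smul]⟩
  by_contra hI
  obtain ⟨m, hm, hle⟩ := Ideal.exists_le_maximal I hI
  set N := m • (⊤ : Submodule k P) with hN
  letI : Field (k ⧸ m) := Ideal.Quotient.field m
  have hdN : N ≤ N.comap d := by
    rw [← Submodule.map_le_iff_le_comap, hN, Submodule.map_smul'']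
    exact Submodule.smul_mono le_rfl le_top
  let dk : (P ⧸ N) →ₗ[k] (P ⧸ N) := Submodule.mapQ N N d hdN
  have hsurj : Function.Surjective (algebraMap k (k ⧸ m)) := Ideal.Quotient.mk_surjective
  let dm : (P ⧸ N) →ₗ[k ⧸ m] (P ⧸ N) := LinearMap.extendScalarsOfSurjective hsurj dk
  have hdm : ∀ x, dm (N.mkQ x) = N.mkQ (d x) := fun x => rfl
  have hker : LinearMap.ker dm = LinearMap.range dm := by
    refine le_antisymm (fun y hy => ?_) ?_
    · obtain ⟨x, rfl⟩ := N.mkQ_surjective y
      rw [LinearMap.mem_ker, hdm, Submodule.mkQ_apply, Submodule.Quotient.mk_eq_zero] at hy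
      obtain ⟨a, ⟨z, rfl⟩, b, hb, hab⟩ := Submodule.mem_sup.1 (hex m hm x hy)
      exact ⟨N.mkQ z, by rw [hdm, ← hab, map_add, show N.mkQ b = 0 from (Submodule.Quotient.mk_eq_zero N).2 hb, add_zero]⟩
    · rintro _ ⟨y, rfl⟩
      obtain ⟨x, rfl⟩ := N.mkQ_surjective y
      rw [LinearMap.mem_ker, hdm, hdm, ← Module.End.mul_apply, hdd, LinearMap.zero_apply, map_zero]
  obtain ⟨C, hC⟩ := Submodule.exists_isCompl (LinearMap.ker dm)
  let dC : C →ₗ[k ⧸ m] LinearMap.range dm := dm.rangeRestrict ∘ₗ C.subtype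
  have hdC : Function.Bijective dC := by
    constructor
    · rw [injective_iff_map_eq_zero]
      intro c hc
      have : (c : P ⧸ N) ∈ LinearMap.ker dm ⊓ C := ⟨LinearMap.mem_ker.2 (congrArg Subtype.val hc), c.2⟩
      rw [hC.inf_eq_bot, Submodule.mem_bot] at this
      exact Subtype.ext this
    · rintro ⟨_, y, rfl⟩
      obtain ⟨a, ha, c, hc, rfl⟩ := Submodule.mem_sup.1 (hC.sup_eq_top ▸ Submodule.mem_top : y ∈ LinearMap.ker dm ⊔ C)
      refine ⟨⟨c, hc⟩, Subtype.ext ?_⟩
      change dm c = dm (a + c)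
      rw [map_add, LinearMap.mem_ker.1 ha, zero_add]
  let e := LinearEquiv.ofBijective dC hdC
  let sk : (P ⧸ N) →ₗ[k ⧸ m] (P ⧸ N) :=
    C.subtype ∘ₗ e.symm.toLinearMap ∘ₗ (LinearEquiv.ofEq _ _ hker).toLinearMap ∘ₗ
      (LinearMap.ker dm).projectionOnto C hC
  have hsk : ∀ y, dm (sk y) + sk (dm y) = y := by
    intro y
    obtain ⟨a, ha, c, hc, rfl⟩ := Submodule.mem_sup.1 (hC.sup_eq_top ▸ Submodule.mem_top : y ∈ LinearMap.ker dm ⊔ C)
    have h1 : dm (sk (a + c)) = a := by
      have hproj : (LinearMap.ker dm).projectionOnto C hC (a + c) = ⟨a, ha⟩ := by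
        rw [map_add, Submodule.projectionOnto_apply_left hC ⟨a, ha⟩,
          Submodule.projectionOnto_apply_right hC ⟨c, hc⟩, add_zero]
      have := congrArg Subtype.val (e.apply_symm_apply (LinearEquiv.ofEq _ _ hker ⟨a, ha⟩))
      simp only [sk, LinearMap.comp_apply, hproj]
      exact this
    have h2 : sk (dm (a + c)) = c := by
      have hdc : dm (a + c) = dm c := by rw [map_add, LinearMap.mem_ker.1 ha, zero_add]
      have hmem : dm c ∈ LinearMap.ker dm := hker ▸ LinearMap.mem_range_self dm c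
      have hproj : (LinearMap.ker dm).projectionOnto C hC (dm c) = ⟨dm c, hmem⟩ :=
        Submodule.projectionOnto_apply_left hC ⟨dm c, hmem⟩
      have := congrArg Subtype.val (e.symm_apply_apply ⟨c, hc⟩)
      simp only [sk, hdc, LinearMap.comp_apply, hproj]
      exact this
    rw [h1, h2]
  obtain ⟨s, hs⟩ := Module.projective_lifting_property N.mkQ (sk.restrictScalars k ∘ₗ N.mkQ) N.mkQ_surjective
  have hs' : ∀ x, N.mkQ (s x) = sk (N.mkQ x) := LinearMap.congr_fun hs
  set u := d * s + s * d with hu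
  have hux : ∀ x, u x - x ∈ N := by
    intro x
    rw [← Submodule.Quotient.eq]
    change N.mkQ (d (s x) + s (d x)) = N.mkQ x
    rw [map_add, hs', ← hdm, hs', ← hdm]
    exact hsk _
  obtain ⟨δ, h, hδ, hh⟩ := isUnit_aux u hux
  refine hδ (hle ⟨s * aeval u h, ?_⟩)
  have hcomm : Commute d (aeval u h) := by
    have hdu : Commute d u := by
      change d * (d * s + s * d) = (d * s + s * d) * d
      rw [mul_add, add_mul, ← mul_assoc d d s, hdd, zero_mul, zero_add, mul_assoc s d d, hdd, mul_zero,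
        add_zero, mul_assoc]
    clear hh
    induction h using Polynomial.induction_on' with
    | add a b ha hb => rw [map_add]; exact ha.add_right hb
    | monomial n a =>
      rw [aeval_monomial]
      exact (Algebra.commute_algebraMap_right a d).mul_right (hdu.pow_right n)
  rw [← hh, hu, add_mul, mul_assoc d s, mul_assoc s d, mul_assoc s (aeval u h) d, ← hcomm.eq]

theorem smul_top_map_le {N : Type w} [AddCommGroup N] [Module k N] {P' : Type v} [AddCommGroup P']
    [Module k P'] (m : Ideal k) (f : P' →ₗ[k] N) {x : P'} (hx : x ∈ m • (⊤ : Submodule k P')) :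
    f x ∈ m • (⊤ : Submodule k N) := by
  have h := Submodule.mem_map_of_mem (f := f) hx
  rw [Submodule.map_smul''] at h
  exact Submodule.smul_mono le_rfl le_top h

/-- For a two-periodic complex of finite projective modules which is exact at every closed point the
cokernels are projective. -/
theorem projective_coker_periodic {N T : Type w} [AddCommGroup N] [Module k N] [Module.Finite k N]
    [Module.Projective k N] [AddCommGroup T] [Module k T] [Module.Finite k T] [Module.Projective k T]
    (Fl : N →ₗ[k] T) (Vl : T →ₗ[k] N) (hFV : ∀ t, Fl (Vl t) = 0) (hVF : ∀ y, Vl (Fl y) = 0)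
    (h1 : ∀ m : Ideal k, m.IsMaximal → ∀ x, Fl x ∈ m • (⊤ : Submodule k T) →
      x ∈ LinearMap.range Vl ⊔ m • (⊤ : Submodule k N))
    (h2 : ∀ m : Ideal k, m.IsMaximal → ∀ t, Vl t ∈ m • (⊤ : Submodule k N) →
      t ∈ LinearMap.range Fl ⊔ m • (⊤ : Submodule k T)) :
    Module.Projective k (N ⧸ LinearMap.range Vl) := by
  let d : Module.End k (N × T) :=
    (Vl ∘ₗ LinearMap.snd _ _ _).prod (Fl ∘ₗ LinearMap.fst _ _ _)
  have hdd : d * d = 0 := LinearMap.ext fun z => Prod.ext (hVF z.1) (hFV z.2)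
  obtain ⟨s, hs⟩ := exists_homotopy d hdd (fun m hm z hz => by
    have hx := h1 m hm z.1 (smul_top_map_le m (LinearMap.snd k N T) hz)
    have ht := h2 m hm z.2 (smul_top_map_le m (LinearMap.fst k N T) hz)
    have hxG : LinearMap.inl k N T z.1 ∈ LinearMap.range d ⊔ m • (⊤ : Submodule k (N × T)) := by
      obtain ⟨_, ⟨t, rfl⟩, b, hb, hab⟩ := Submodule.mem_sup.1 hx
      rw [← hab, map_add]
      exact Submodule.add_mem_sup ⟨(0, t), Prod.ext rfl (map_zero Fl)⟩ (smul_top_map_le m _ hb)
    have htG : LinearMap.inr k N T z.2 ∈ LinearMap.range d ⊔ m • (⊤ : Submodule k (N × T)) := by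
      obtain ⟨_, ⟨y, rfl⟩, b, hb, hab⟩ := Submodule.mem_sup.1 ht
      rw [← hab, map_add]
      exact Submodule.add_mem_sup ⟨(y, 0), Prod.ext (map_zero Vl) rfl⟩ (smul_top_map_le m _ hb)
    have := add_mem hxG htG
    simpa using this)
  let r : N →ₗ[k] N := LinearMap.fst _ _ _ ∘ₗ s ∘ₗ d ∘ₗ LinearMap.inl _ _ _
  have hr : LinearMap.range Vl ≤ LinearMap.ker r := by
    rintro _ ⟨t, rfl⟩
    have hd : d (LinearMap.inl k N T (Vl t)) = 0 := Prod.ext (map_zero Vl) (hFV t)
    change (s (d (LinearMap.inl k N T (Vl t)))).1 = 0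
    rw [hd, map_zero]
    rfl
  refine Module.Projective.of_split ((LinearMap.range Vl).liftQ r hr) (LinearMap.range Vl).mkQ
    (LinearMap.ext fun y => ?_)
  obtain ⟨y, rfl⟩ := (LinearMap.range Vl).mkQ_surjective y
  change (LinearMap.range Vl).mkQ (r y) = (LinearMap.range Vl).mkQ y
  rw [Submodule.mkQ_apply, Submodule.mkQ_apply, Submodule.Quotient.eq]
  have h := congrArg Prod.fst (LinearMap.congr_fun hs (LinearMap.inl k N T y))
  change Vl (s (LinearMap.inl k N T y)).2 + r y = y at h
  rw [show r y - y = -(Vl (s (LinearMap.inl k N T y)).2) by nth_rw 2 [← h]; abel]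
  exact neg_mem ⟨_, rfl⟩

end Groth.Agent.Disp53
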