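import Groth.Agent.Disp53.Basic
import Mathlib

/-!
Adic completeness of `W(R)` along `IV` and lifting of normal decompositions.
-/

set_option autoImplicit false
set_option linter.unusedSectionVars false
universe u v w
open W4c1extbt610

namespace Groth.Agent.Disp53

section General

variable {A : Type u} [CommRing A] {I : Ideal A} {P : Type v} [AddCommGroup P] [Module A P]

/-- `f` maps everything into `I ^ j • P`. -/
def Small (I : Ideal A) (j : ℕ) (f : Module.End A P) : Prop :=
  ∀ x, f x ∈ I ^ j • (⊤ : Submodule A P)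

theorem apply_mem_pow_smul {P' : Type w} [AddCommGroup P'] [Module A P'] (f : P →ₗ[A] P') (j : ℕ)
    {x : P} (hx : x ∈ I ^ j • (⊤ : Submodule A P)) : f x ∈ I ^ j • (⊤ : Submodule A P') := by
  have h := Submodule.mem_map_of_mem (f := f) hx
  rw [Submodule.map_smul''] at h
  exact Submodule.smul_mono le_rfl le_top h

theorem Small.mono {i j : ℕ} (h : i ≤ j) {f : Module.End A P} (hf : Small I j f) : Small I i f :=
  fun x => Submodule.smul_mono_left (Ideal.pow_le_pow_right h) (hf x)

theorem Small.mul {i j : ℕ} {f g : Module.End A P} (hf : Small I i f) (hg : Small I j g) :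
    Small I (j + i) (f * g) := by
  intro x
  have h := Submodule.mem_map_of_mem (f := f) (hg x)
  rw [Submodule.map_smul''] at h
  rw [pow_add, Submodule.mul_smul]
  refine Submodule.smul_mono le_rfl ?_ h
  rintro _ ⟨y, -, rfl⟩
  exact hf y

theorem Small.mul_left {j : ℕ} {f : Module.End A P} (hf : Small I j f) (g : Module.End A P) :
    Small I j (g * f) := fun x => apply_mem_pow_smul g j (hf x)

theorem Small.neg {j : ℕ} {f : Module.End A P} (hf : Small I j f) : Small I j (-f) :=
  fun x => neg_mem (hf x)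

variable [IsAdicComplete I A] [Module.Finite A P] [Module.Projective A P]

theorem exists_coords : ∃ (n : ℕ) (s : P →ₗ[A] (Fin n → A)) (π : (Fin n → A) →ₗ[A] P),
    π ∘ₗ s = LinearMap.id := by
  obtain ⟨n, π, hπ⟩ := Module.Finite.exists_fin' A P
  obtain ⟨s, hs⟩ := Module.projective_lifting_property π LinearMap.id hπ
  exact ⟨n, s, π, hs⟩

theorem eq_zero_of_forall_mem {x : P} (h : ∀ j, x ∈ I ^ j • (⊤ : Submodule A P)) : x = 0 := by
  obtain ⟨n, s, π, hs⟩ := exists_coords (A := A) (P := P)
  have : s x = 0 := funext fun i => IsHausdorff.haus' (I := I) _ fun j => by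
    rw [SModEq.zero]
    exact apply_mem_pow_smul ((LinearMap.proj i).comp s) j (h j)
  calc x = π (s x) := (LinearMap.congr_fun hs x).symm
    _ = 0 := by rw [this, map_zero]

theorem exists_limit (x : ℕ → P) (hx : ∀ j, x (j + 1) - x j ∈ I ^ j • (⊤ : Submodule A P)) :
    ∃ l : P, ∀ j, l - x j ∈ I ^ j • (⊤ : Submodule A P) := by
  obtain ⟨n, s, π, hs⟩ := exists_coords (A := A) (P := P)
  have hc : ∀ i : Fin n, ∃ l : A, ∀ j, s (x j) i - l ∈ I ^ j • (⊤ : Submodule A A) := by
    intro i
    have hcauchy : ∀ a b, a ≤ b → s (x b) i - s (x a) i ∈ I ^ a • (⊤ : Submodule A A) := by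
      intro a b hab
      induction b, hab using Nat.le_induction with
      | base => simp
      | succ b hb ih =>
        rw [← sub_add_sub_cancel (s (x (b + 1)) i) (s (x b) i) (s (x a) i)]
        refine add_mem ?_ ih
        refine Submodule.smul_mono_left (Ideal.pow_le_pow_right hb) ?_
        have := apply_mem_pow_smul ((LinearMap.proj i).comp s) b (hx b)
        simpa using this
    obtain ⟨l, hl⟩ := IsPrecomplete.prec' (I := I) (fun j => s (x j) i) (fun {a b} hab => by
      rw [SModEq.sub_mem, ← neg_sub, neg_mem_iff]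
      exact hcauchy a b hab)
    exact ⟨l, fun j => SModEq.sub_mem.1 (hl j)⟩
  choose l hl using hc
  refine ⟨π l, fun j => ?_⟩
  rw [show x j = π (s (x j)) from (LinearMap.congr_fun hs (x j)).symm, ← map_sub]
  classical
  rw [pi_eq_sum_univ' (l - s (x j)), map_sum]
  refine sum_mem fun i _ => ?_
  rw [map_smul]
  refine Submodule.smul_mem_smul ?_ Submodule.mem_top
  have := hl i j
  rw [smul_eq_mul, Ideal.mul_top, ← neg_sub, neg_mem_iff] at this
  simpa using this

/-- Idempotent endomorphisms lift modulo `I` for a finite projective module over an `I`-complete ring. -/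
theorem exists_idempotent_lift (e₀ : Module.End A P) (h0 : Small I 1 (e₀ * e₀ - e₀)) :
    ∃ E : Module.End A P, IsIdempotentElem E ∧ Small I 1 (E - e₀) := by
  let step : Module.End A P → Module.End A P := fun e => 3 * (e * e) - 2 * (e * e * e)
  let e : ℕ → Module.End A P := fun n => step^[n] e₀
  have hsucc : ∀ n, e (n + 1) = step (e n) := fun n => Function.iterate_succ_apply' _ _ _
  have hd : ∀ n, Small I (n + 1) (e n * e n - e n) := by
    intro n
    induction n with
    | zero => exact h0
    | succ n ih =>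
      have hid : e (n + 1) * e (n + 1) - e (n + 1)
          = (4 * (e n * e n - e n) - 3) * ((e n * e n - e n) * (e n * e n - e n)) := by
        simp only [hsucc, step]; noncomm_ring
      rw [hid]
      exact ((ih.mul ih).mul_left _).mono (by omega)
  have hdiff : ∀ n, Small I (n + 1) (e (n + 1) - e n) := by
    intro n
    have hid : e (n + 1) - e n = -((2 * e n - 1) * (e n * e n - e n)) := by
      simp only [hsucc, step]; noncomm_ring
    rw [hid]
    exact ((hd n).mul_left _).neg
  have hlim : ∀ x : P, ∃ l : P, ∀ j, l - e j x ∈ I ^ j • (⊤ : Submodule A P) := fun x =>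
    exists_limit (fun j => e j x) fun j => (hdiff j).mono (Nat.le_succ j) x
  choose L hL using hlim
  have huniq : ∀ (x : P) (y : P), (∀ j, y - e j x ∈ I ^ j • (⊤ : Submodule A P)) → y = L x := by
    intro x y hy
    refine sub_eq_zero.1 (eq_zero_of_forall_mem (I := I) fun j => ?_)
    rw [← sub_sub_sub_cancel_right y (L x) (e j x)]
    exact sub_mem (hy j) (hL x j)
  let E : Module.End A P :=
    { toFun := L
      map_add' := fun x y => (huniq _ _ fun j => by
        rw [map_add, add_sub_add_comm]; exact add_mem (hL x j) (hL y j)).symm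
      map_smul' := fun r x => (huniq _ _ fun j => by
        rw [RingHom.id_apply, map_smul, ← smul_sub]; exact Submodule.smul_mem _ _ (hL x j)).symm }
  have hE : ∀ x j, E x - e j x ∈ I ^ j • (⊤ : Submodule A P) := hL
  refine ⟨E, LinearMap.ext fun x => sub_eq_zero.1 (eq_zero_of_forall_mem (I := I) fun j => ?_), fun x => ?_⟩
  · have h1 : E (E x) - e j (E x) ∈ I ^ j • (⊤ : Submodule A P) := hE _ j
    have h2 : e j (E x) - e j (e j x) ∈ I ^ j • (⊤ : Submodule A P) := by
      rw [← map_sub]; exact apply_mem_pow_smul (e j) j (hE x j)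
    have h3 : e j (e j x) - e j x ∈ I ^ j • (⊤ : Submodule A P) := (hd j).mono (Nat.le_succ j) x
    have h4 : E x - e j x ∈ I ^ j • (⊤ : Submodule A P) := hE x j
    have := sub_mem (add_mem (add_mem h1 h2) h3) h4
    rw [show E (E x) - e j (E x) + (e j (E x) - e j (e j x)) + (e j (e j x) - e j x) - (E x - e j x)
      = E (E x) - E x by abel] at this
    exact this
  · change E x - e₀ x ∈ _
    have h1 : E x - e 1 x ∈ I ^ 1 • (⊤ : Submodule A P) := hE x 1
    have h2 : e 1 x - e 0 x ∈ I ^ 1 • (⊤ : Submodule A P) := hdiff 0 x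
    have := add_mem h1 h2
    rw [sub_add_sub_cancel] at this
    exact this

/-- A filtration step with a complement modulo `I • P` lifts to a direct sum decomposition. -/
theorem exists_normal_of_isAdicComplete (Q C : Submodule A P) (hsup : Q ⊔ C = ⊤)
    (hinf : Q ⊓ C = I • (⊤ : Submodule A P)) :
    ∃ L T : Submodule A P, IsCompl L T ∧ Q = L ⊔ I • T := by
  set N := I • (⊤ : Submodule A P)
  have hNQ : N ≤ Q := hinf ▸ inf_le_left
  have hNC : N ≤ C := hinf ▸ inf_le_right
  have hc : IsCompl (C.map N.mkQ) (Q.map N.mkQ) := by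
    constructor
    · rw [disjoint_iff, eq_bot_iff]
      rintro _ ⟨⟨a, ha, rfl⟩, b, hb, hab⟩
      rw [Submodule.mkQ_apply, Submodule.mkQ_apply, Submodule.Quotient.eq] at hab
      have : a ∈ Q := by
        have := sub_mem hb (hNQ hab)
        rwa [sub_sub_cancel] at this
      rw [Submodule.mem_bot, Submodule.mkQ_apply, Submodule.Quotient.mk_eq_zero, ← hinf]
      exact ⟨this, ha⟩
    · rw [codisjoint_iff, ← Submodule.map_sup, sup_comm, hsup, Submodule.map_top, Submodule.range_mkQ]
  obtain ⟨e₀, he₀⟩ := Module.projective_lifting_property N.mkQ (((C.map N.mkQ).projection (Q.map N.mkQ) hc) ∘ₗ N.mkQ) N.mkQ_surjective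
  have he : ∀ x, N.mkQ (e₀ x) = ((C.map N.mkQ).projection (Q.map N.mkQ) hc) (N.mkQ x) := LinearMap.congr_fun he₀
  have h0 : Small I 1 (e₀ * e₀ - e₀) := fun x => by
    rw [pow_one]
    change e₀ (e₀ x) - e₀ x ∈ N
    rw [← Submodule.Quotient.eq]
    change N.mkQ (e₀ (e₀ x)) = N.mkQ (e₀ x)
    rw [he, he]
    exact Submodule.projection_apply_of_mem_left hc (Submodule.projection_apply_mem hc _)
  obtain ⟨E, hE, hE0⟩ := exists_idempotent_lift e₀ h0
  have hEe : ∀ x, N.mkQ (E x) = ((C.map N.mkQ).projection (Q.map N.mkQ) hc) (N.mkQ x) := fun x => by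
    rw [← he, Submodule.mkQ_apply, Submodule.mkQ_apply, Submodule.Quotient.eq]
    have := hE0 x
    rwa [pow_one] at this
  have hEE : ∀ x, E (E x) = E x := fun x => LinearMap.congr_fun hE x
  refine ⟨LinearMap.ker E, LinearMap.range E, (LinearMap.IsIdempotentElem.isCompl hE).symm, ?_⟩
  refine le_antisymm (fun x hx => ?_) (sup_le (fun x hx => ?_) ?_)
  · rw [← sub_add_cancel x (E x)]
    refine Submodule.add_mem_sup (LinearMap.mem_ker.2 (by rw [map_sub, hEE, sub_self])) ?_
    have hExN : E x ∈ N := by
      have h := hEe x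
      rw [(Submodule.projection_apply_eq_zero_iff hc).2 (Submodule.mem_map_of_mem (f := N.mkQ) hx)] at h
      exact (Submodule.Quotient.mk_eq_zero N).1 h
    rw [← hEE x, ← Submodule.map_top, ← Submodule.map_smul'']
    exact Submodule.mem_map_of_mem hExN
  · have h := hEe x
    rw [LinearMap.mem_ker.1 hx, map_zero] at h
    have hmem : N.mkQ x ∈ Q.map N.mkQ :=
      (Submodule.projection_apply_eq_zero_iff hc).1 h.symm
    obtain ⟨q, hq, hqx⟩ := hmem
    rw [Submodule.mkQ_apply, Submodule.mkQ_apply, Submodule.Quotient.eq] at hqx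
    have := sub_mem hq (hNQ hqx)
    rwa [sub_sub_cancel] at this
  · exact (Submodule.smul_mono le_rfl le_top).trans hNQ

end General

variable {p : ℕ} [Fact p.Prime] {R : Type u} [CommRing R]

theorem isAdicComplete_IV [IsAdicComplete (Ideal.span {(p : R)}) R] :
    IsAdicComplete (IV p R) (WittVector p R) := by
  refine CAlg8.Witt.isAdicComplete_of_pow_eq (IV p R) 1 (fun m => ?_) fun x hx => ?_
  · rw [IV_eq_ker]; exact CAlg8.Witt.ker_constantCoeff_pow_succ m
  · rw [mem_IV_iff]
    refine IsHausdorff.haus' (I := Ideal.span {(p : R)}) _ fun s => ?_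
    obtain ⟨y, hy, hxy⟩ := hx s
    rw [SModEq.zero, smul_eq_mul, Ideal.mul_top]
    have := CAlg8.Witt.sub_mem_nbhd_iff.1 hxy 0 Nat.one_pos
    rwa [mem_IV_iff.1 hy, sub_zero] at this

end Groth.Agent.Disp53
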