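import Groth.Agent.Disp53.Basic
import Groth.Agent.Disp53.NormalDecomp
import Groth.Agent.Disp53.Homotopy
import Mathlib

/-!
The level-one conditions for Dieudonné modules over a perfect ring.
-/

set_option autoImplicit false
set_option linter.unusedSectionVars false
set_option linter.style.haveILetI false
universe u v w
open W4c1extbt610

namespace Groth.Agent.Disp53

variable {p : ℕ} [Fact p.Prime] {k : Type u} [CommRing k] [CharP k p] [PerfectRing k p]
variable {M : Type v} [AddCommGroup M] [Module (WittVector p k) M]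

/-- `p`-radical ideals containing `p`. -/
structure IsGoodIdeal (J : Ideal (WittVector p k)) : Prop where
  p_mem : (p : WittVector p k) ∈ J
  rad : ∀ x : WittVector p k, x ^ p ∈ J → x ∈ J

namespace IsGoodIdeal

variable {J : Ideal (WittVector p k)} (hJ : IsGoodIdeal J)
include hJ

theorem IV_le : IV p k ≤ J := by
  rw [IV_eq_span_p]; exact (Ideal.span_singleton_le_iff_mem _).2 hJ.p_mem

theorem mem_iff (w : WittVector p k) :
    w ∈ J ↔ WittVector.teichmuller p (w.coeff 0) ∈ J := by
  have h : w - WittVector.teichmuller p (w.coeff 0) ∈ IV p k := by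
    rw [IV_eq_ker, RingHom.mem_ker, map_sub, sub_eq_zero]
    exact (WittVector.teichmuller_coeff_zero p _).symm
  exact ⟨fun hw => by simpa using sub_mem hw (hJ.IV_le h),
    fun hw => by simpa using add_mem (hJ.IV_le h) hw⟩

theorem le_sq_sup : J ≤ J ^ 2 ⊔ Ideal.span {(p : WittVector p k)} := by
  intro w hw
  obtain ⟨b, hb⟩ := (bijective_frobenius k p).2 (w.coeff 0)
  have hbJ : WittVector.teichmuller p b ∈ J := hJ.rad _ (by
    rw [← map_pow, show b ^ p = w.coeff 0 from hb]; exact (hJ.mem_iff w).1 hw)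
  have h : w - WittVector.teichmuller p (w.coeff 0) ∈ IV p k := by
    rw [IV_eq_ker, RingHom.mem_ker, map_sub, sub_eq_zero]
    exact (WittVector.teichmuller_coeff_zero p _).symm
  rw [← sub_add_cancel w (WittVector.teichmuller p (w.coeff 0)), add_comm]
  refine Submodule.add_mem_sup ?_ (IV_eq_span_p (p := p) (R := k) ▸ h)
  rw [← show b ^ p = w.coeff 0 from hb, map_pow]
  exact Ideal.pow_le_pow_right (Fact.out : p.Prime).two_le (Ideal.pow_mem_pow hbJ p)

theorem frobenius_mem {w : WittVector p k} (hw : w ∈ J) : WittVector.frobenius w ∈ J := by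
  rw [hJ.mem_iff, WittVector.coeff_frobenius_charP, map_pow]
  exact Ideal.pow_mem_of_mem J ((hJ.mem_iff w).1 hw) p (Fact.out : p.Prime).pos

theorem frobenius_symm_mem {w : WittVector p k} (hw : w ∈ J) :
    (WittVector.frobeniusEquiv p k).symm w ∈ J := by
  rw [hJ.mem_iff]
  apply hJ.rad
  rw [← map_pow, ← WittVector.coeff_frobenius_charP, frobenius_symm_apply]
  exact (hJ.mem_iff w).1 hw

theorem map_sq_le (g : WittVector p k →+* WittVector p k) (hg : ∀ w ∈ J, g w ∈ J) :
    ∀ w ∈ J ^ 2, g w ∈ J ^ 2 := by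
  intro w hw
  have h := Ideal.mem_map_of_mem g hw
  rw [Ideal.map_pow] at h
  exact Ideal.pow_right_mono (Ideal.map_le_iff_le_comap.2 hg) 2 h

theorem p_mul_mem_sq {w : WittVector p k} (hw : (p : WittVector p k) * w ∈ J ^ 2) : w ∈ J := by
  set 𝔞 := J.map (WittVector.constantCoeff : WittVector p k →+* k) with h𝔞
  set π := WittVector.map (p := p) (Ideal.Quotient.mk 𝔞) with hπ
  have hp0 : ((p : ℕ) : k ⧸ 𝔞) = 0 := by
    rw [← map_natCast (Ideal.Quotient.mk 𝔞), CharP.cast_eq_zero, map_zero]
  have hle : J ^ 2 ≤ (RingHom.ker (WittVector.truncate (p := p) (R := k ⧸ 𝔞) 2)).comap π := by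
    rw [pow_two, Ideal.mul_le]
    intro a ha b hb
    have hV : ∀ x ∈ J, ∃ y, π x = WittVector.verschiebung y := fun x hx =>
      CAlg8.Witt.exists_verschiebung (by
        change (π x).coeff 0 = 0
        rw [hπ, WittVector.map_coeff, Ideal.Quotient.eq_zero_iff_mem]
        exact Ideal.mem_map_of_mem (WittVector.constantCoeff : WittVector p k →+* k) hx)
    obtain ⟨y, hy⟩ := hV a ha
    obtain ⟨z, hz⟩ := hV b hb
    rw [Ideal.mem_comap, map_mul, hy, hz, CAlg8.Witt.verschiebung_mul_verschiebung,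
      ← nsmul_eq_mul, ← map_nsmul, nsmul_eq_mul, WittVector.mem_ker_truncate]
    intro i hi
    interval_cases i
    · exact WittVector.verschiebung_coeff_zero _
    · rw [WittVector.verschiebung_coeff_succ]
      change WittVector.constantCoeff ((p : WittVector p (k ⧸ 𝔞)) * (y * z)) = 0
      rw [map_mul, map_natCast, hp0, zero_mul]
  have h1 := hle hw
  rw [Ideal.mem_comap, WittVector.mem_ker_truncate] at h1
  have h2 := h1 1 (by norm_num)
  rw [hπ, WittVector.map_coeff, Ideal.Quotient.eq_zero_iff_mem, mul_comm,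
    WittVector.mul_charP_coeff_succ] at h2
  obtain ⟨x, hx, hx0⟩ := (Ideal.mem_map_iff_of_surjective _
    (fun a => ⟨WittVector.teichmuller p a, WittVector.teichmuller_coeff_zero p a⟩)).1 h2
  rw [hJ.mem_iff]
  apply hJ.rad
  rw [← map_pow, ← show x.coeff 0 = w.coeff 0 ^ p from hx0]
  exact (hJ.mem_iff x).1 hx

end IsGoodIdeal

theorem isGoodIdeal_span_p : IsGoodIdeal (Ideal.span {(p : WittVector p k)}) := by
  refine ⟨Ideal.mem_span_singleton_self _, fun x hx => ?_⟩
  rw [← IV_eq_span_p, IV_eq_ker, RingHom.mem_ker] at hx ⊢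
  rw [map_pow] at hx
  exact (bijective_frobenius k p).1 (show frobenius k p _ = frobenius k p 0 by
    rw [frobenius_def, frobenius_def, hx, zero_pow (Fact.out : p.Prime).ne_zero])

theorem isGoodIdeal_of_isMaximal (m : Ideal (WittVector p k ⧸ Ideal.span {(p : WittVector p k)}))
    (hm : m.IsMaximal) : IsGoodIdeal (m.comap (Ideal.Quotient.mk _)) := by
  refine ⟨?_, fun x hx => ?_⟩
  · rw [Ideal.mem_comap, Ideal.Quotient.eq_zero_iff_mem.2 (Ideal.mem_span_singleton_self _)]
    exact zero_mem m
  · rw [Ideal.mem_comap, map_pow] at hx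
    exact hm.isPrime.mem_of_pow_mem p hx

/-- Coordinates modulo `p ^ 2`. -/
structure Frame (p : ℕ) [Fact p.Prime] (k : Type u) [CommRing k] (M : Type v) [AddCommGroup M]
    [Module (WittVector p k) M] where
  /-- number of generators -/
  n : ℕ
  /-- generators -/
  b : Fin n → M
  /-- coordinates -/
  c : Fin n → (M →ₗ[WittVector p k] (WittVector p k ⧸ Ideal.span {(p : WittVector p k) ^ 2}))
  spec : ∀ (x : M) (w : Fin n → WittVector p k), (∀ i, Ideal.Quotient.mk _ (w i) = c i x) →
    x - ∑ i, w i • b i ∈ Ideal.span {(p : WittVector p k) ^ 2} • (⊤ : Submodule (WittVector p k) M)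

theorem nonempty_frame_of_projective [Module.Finite (WittVector p k) M]
    [Module.Projective (WittVector p k) M] : Nonempty (Frame p k M) := by
  classical
  obtain ⟨n, s, π, hs⟩ := exists_coords (A := WittVector p k) (P := M)
  refine ⟨⟨n, fun i => π (Pi.single i 1),
    fun i => (Submodule.mkQ (Ideal.span {(p : WittVector p k) ^ 2})) ∘ₗ (LinearMap.proj i).comp s,
    fun x w hw => ?_⟩⟩
  have hx : x = ∑ i, s x i • π (Pi.single i 1) := by
    conv_lhs => rw [← show π (s x) = x from LinearMap.congr_fun hs x, pi_eq_sum_univ' (s x)]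
    simp [map_sum]
  rw [hx, ← Finset.sum_sub_distrib]
  refine sum_mem fun i _ => ?_
  rw [← sub_smul]
  refine Submodule.smul_mem_smul ?_ Submodule.mem_top
  exact Ideal.Quotient.eq.1 (hw i).symm

theorem nonempty_frame_of_truncated (n : ℕ) (hn : 2 ≤ n)
    [Module (WittVector p k ⧸ Ideal.span {(p : WittVector p k) ^ n}) M]
    [IsScalarTower (WittVector p k) (WittVector p k ⧸ Ideal.span {(p : WittVector p k) ^ n}) M]
    [Module.Finite (WittVector p k ⧸ Ideal.span {(p : WittVector p k) ^ n}) M]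
    [Module.Projective (WittVector p k ⧸ Ideal.span {(p : WittVector p k) ^ n}) M] :
    Nonempty (Frame p k M) := by
  classical
  set A := WittVector p k ⧸ Ideal.span {(p : WittVector p k) ^ n}
  obtain ⟨m, s, π, hs⟩ := exists_coords (A := A) (P := M)
  have hle : Ideal.span {(p : WittVector p k) ^ n} ≤ Ideal.span {(p : WittVector p k) ^ 2} :=
    Ideal.span_singleton_le_span_singleton.2 (pow_dvd_pow _ hn)
  refine ⟨⟨m, fun i => π (Pi.single i 1),
    fun i => (Ideal.Quotient.factorₐ (WittVector p k) hle).toLinearMap ∘ₗ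
      ((LinearMap.proj i).comp s).restrictScalars (WittVector p k),
    fun x w hw => ?_⟩⟩
  choose a ha using fun i => Ideal.Quotient.mk_surjective (s x i)
  have hx : x = ∑ i, a i • π (Pi.single i 1) := by
    conv_lhs => rw [← show π (s x) = x from LinearMap.congr_fun hs x, pi_eq_sum_univ' (s x)]
    rw [map_sum]
    refine Finset.sum_congr rfl fun i _ => ?_
    rw [map_smul, ← ha i]
    exact algebraMap_smul A (a i) _
  rw [hx, ← Finset.sum_sub_distrib]
  refine sum_mem fun i _ => ?_
  rw [← sub_smul]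
  refine Submodule.smul_mem_smul ?_ Submodule.mem_top
  have h := hw i
  simp only [LinearMap.comp_apply, LinearMap.coe_restrictScalars, LinearMap.proj_apply, ← ha i,
    AlgHom.toLinearMap_apply] at h
  exact Ideal.Quotient.eq.1 h.symm

theorem Frame.saturated (fr : Frame p k M) {J : Ideal (WittVector p k)} (hJ : IsGoodIdeal J) {z : M}
    (hz : (p : WittVector p k) • z ∈ J ^ 2 • (⊤ : Submodule (WittVector p k) M)) :
    z ∈ J • (⊤ : Submodule (WittVector p k) M) := by
  choose w hw using fun i => Ideal.Quotient.mk_surjective (fr.c i z)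
  have hp2 : Ideal.span {(p : WittVector p k) ^ 2} ≤ J ^ 2 :=
    (Ideal.span_singleton_le_iff_mem _).2 (Ideal.pow_mem_pow hJ.p_mem 2)
  have hwJ : ∀ i, w i ∈ J := by
    intro i
    apply hJ.p_mul_mem_sq
    have h := apply_mem_pow_smul (I := J) (fr.c i) 2 hz
    rw [map_smul, ← hw i, Ideal.smul_top_eq_map, Submodule.restrictScalars_mem, Algebra.smul_def,
      Ideal.Quotient.algebraMap_eq, ← map_mul] at h
    obtain ⟨x, hx, hxe⟩ := (Ideal.mem_map_iff_of_surjective _ Ideal.Quotient.mk_surjective).1 h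
    have := Ideal.Quotient.eq.1 hxe
    exact (Submodule.sub_mem_iff_right _ hx).1 (hp2 this)
  rw [← sub_add_cancel z (∑ i, w i • fr.b i)]
  exact add_mem (Submodule.smul_mono (hp2.trans (Ideal.pow_le_self two_ne_zero)) le_rfl (fr.spec z w hw))
    (sum_mem fun i _ => Submodule.smul_mem_smul (hwJ i) Submodule.mem_top)

section Exact

variable {σ τ : WittVector p k →+* WittVector p k} (f : M →ₛₗ[σ] M) (g : M →ₛₗ[τ] M)

theorem semilinear_mem_smul {I I' : Ideal (WittVector p k)} (h : ∀ w ∈ I, σ w ∈ I') {x : M}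
    (hx : x ∈ I • (⊤ : Submodule (WittVector p k) M)) :
    f x ∈ I' • (⊤ : Submodule (WittVector p k) M) := by
  refine Submodule.smul_induction_on hx (fun w hw y _ => ?_) fun a b ha hb => ?_
  · rw [LinearMap.map_smulₛₗ]; exact Submodule.smul_mem_smul (h w hw) Submodule.mem_top
  · rw [map_add]; exact add_mem ha hb

/-- If `f x ∈ J M` then `x ∈ g(M) + J M`. -/
theorem exact_mod (fr : Frame p k M) (hfg : ∀ m, f (g m) = (p : WittVector p k) • m)
    (hgf : ∀ m, g (f m) = (p : WittVector p k) • m) {J : Ideal (WittVector p k)} (hJ : IsGoodIdeal J)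
    (hτ : ∀ w ∈ J, τ w ∈ J) {x : M} (hx : f x ∈ J • (⊤ : Submodule (WittVector p k) M)) :
    x ∈ Submodule.span (WittVector p k) (Set.range g) ⊔ J • (⊤ : Submodule (WittVector p k) M) := by
  have hx' := Submodule.smul_mono hJ.le_sq_sup le_rfl hx
  rw [Submodule.sup_smul, Submodule.mem_sup] at hx'
  obtain ⟨j, hj, z, hz, hjz⟩ := hx'
  rw [Submodule.ideal_span_singleton_smul] at hz
  obtain ⟨y, -, rfl⟩ := (Submodule.mem_smul_pointwise_iff_exists _ _ _).1 hz
  have hkey : g (f (x - g y)) ∈ J ^ 2 • (⊤ : Submodule (WittVector p k) M) := by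
    rw [map_sub, hfg, ← hjz, add_sub_cancel_right]
    exact semilinear_mem_smul g (hJ.map_sq_le τ hτ) hj
  rw [hgf] at hkey
  rw [← add_sub_cancel (g y) x]
  exact Submodule.add_mem_sup (Submodule.subset_span ⟨y, rfl⟩) (fr.saturated hJ hkey)

theorem comap_eq (fr : Frame p k M) (hfg : ∀ m, f (g m) = (p : WittVector p k) • m)
    (hgf : ∀ m, g (f m) = (p : WittVector p k) • m)
    (hτ : ∀ w ∈ Ideal.span {(p : WittVector p k)}, τ w ∈ Ideal.span {(p : WittVector p k)})
    (hσ : ∀ w ∈ Ideal.span {(p : WittVector p k)}, σ w ∈ Ideal.span {(p : WittVector p k)}) :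
    (Ideal.span {(p : WittVector p k)} • (⊤ : Submodule (WittVector p k) M)).comap f =
      Submodule.span (WittVector p k) (Set.range g) ⊔
        Ideal.span {(p : WittVector p k)} • (⊤ : Submodule (WittVector p k) M) := by
  refine le_antisymm (fun x hx => exact_mod f g fr hfg hgf isGoodIdeal_span_p hτ hx) (sup_le ?_ ?_)
  · rw [Submodule.span_le]
    rintro _ ⟨m, rfl⟩
    rw [SetLike.mem_coe, Submodule.mem_comap]
    rw [hfg]
    exact Submodule.smul_mem_smul (Ideal.mem_span_singleton_self _) Submodule.mem_top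
  · exact fun x hx => semilinear_mem_smul f hσ hx

end Exact

section Quotient

/-- `k' = W/pW`. -/
noncomputable abbrev Red (p : ℕ) [Fact p.Prime] (k : Type u) [CommRing k] : Type u :=
  WittVector p k ⧸ Ideal.span {(p : WittVector p k)}

/-- The submodule `p M`. -/
noncomputable abbrev pM (p : ℕ) [Fact p.Prime] (k : Type u) [CommRing k] (M : Type v) [AddCommGroup M]
    [Module (WittVector p k) M] : Submodule (WittVector p k) M :=
  Ideal.span {(p : WittVector p k)} • (⊤ : Submodule (WittVector p k) M)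

/-- A module twisted by a ring endomorphism. -/
def Tw {A : Type u} [CommRing A] (_σ : A →+* A) (X : Type v) : Type v := X

instance {A : Type u} [CommRing A] (σ : A →+* A) (X : Type v) [AddCommGroup X] :
    AddCommGroup (Tw σ X) := inferInstanceAs (AddCommGroup X)

instance {A : Type u} [CommRing A] (σ : A →+* A) (X : Type v) [AddCommGroup X] [Module A X] :
    Module A (Tw σ X) := Module.compHom X σ

/-- The identity map into the twist. -/
def toTw {A : Type u} [CommRing A] (σ : A →+* A) (X : Type v) [AddCommGroup X] : X ≃+ Tw σ X :=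
  AddEquiv.refl X

theorem toTw_smul {A : Type u} [CommRing A] (σ : A →+* A) (X : Type v) [AddCommGroup X] [Module A X]
    (a : A) (x : X) : a • toTw σ X x = toTw σ X (σ a • x) := rfl

theorem projective_tw {A : Type u} [CommRing A] (σ : A ≃+* A) (X : Type v) [AddCommGroup X]
    [Module A X] [Module.Projective A X] : Module.Projective A (Tw (σ : A →+* A) X) := by
  haveI := RingHomInvPair.of_ringEquiv σ.symm
  haveI := RingHomInvPair.of_ringEquiv σ
  exact Module.Projective.of_equiv (σ := (σ.symm : A →+* A)) (σ' := (σ : A →+* A))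
    { toTw (σ : A →+* A) X with
      map_smul' := fun a x => by
        change toTw (σ : A →+* A) X (a • x) = (σ.symm a) • toTw (σ : A →+* A) X x
        rw [toTw_smul, RingEquiv.coe_toRingHom, RingEquiv.apply_symm_apply] }

theorem finite_tw {A : Type u} [CommRing A] (σ : A ≃+* A) (X : Type v) [AddCommGroup X]
    [Module A X] [Module.Finite A X] : Module.Finite A (Tw (σ : A →+* A) X) := by
  obtain ⟨n, g, hg⟩ := Module.Finite.exists_fin (R := A) (M := X)
  refine Module.Finite.of_surjective (Fintype.linearCombination A fun i => toTw (σ : A →+* A) X (g i)) ?_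
  intro x
  obtain ⟨c, hc⟩ := (Submodule.mem_span_range_iff_exists_fun A).1
    (hg ▸ Submodule.mem_top : (toTw (σ : A →+* A) X).symm x ∈ Submodule.span A (Set.range g))
  refine ⟨fun i => σ.symm (c i), ?_⟩
  simp only [Fintype.linearCombination_apply, toTw_smul, RingEquiv.coe_toRingHom,
    RingEquiv.apply_symm_apply]
  rw [← map_sum, hc, AddEquiv.apply_symm_apply]

theorem red_projective (fr : Frame p k M) :
    Module.Finite (Red p k) (M ⧸ pM p k M) ∧ Module.Projective (Red p k) (M ⧸ pM p k M) := by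
  classical
  have hle : Ideal.span {(p : WittVector p k) ^ 2} ≤ Ideal.span {(p : WittVector p k)} :=
    Ideal.span_singleton_le_span_singleton.2 (dvd_pow_self _ two_ne_zero)
  let π : (Fin fr.n → Red p k) →ₗ[Red p k] (M ⧸ pM p k M) :=
    Fintype.linearCombination (Red p k) fun i => (pM p k M).mkQ (fr.b i)
  let ψ : Fin fr.n → (M ⧸ pM p k M) →ₗ[WittVector p k] Red p k := fun i =>
    (pM p k M).liftQ ((Ideal.Quotient.factorₐ (WittVector p k) hle).toLinearMap ∘ₗ fr.c i) (by
      intro x hx
      have h := apply_mem_pow_smul (I := Ideal.span {(p : WittVector p k)})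
        ((Ideal.Quotient.factorₐ (WittVector p k) hle).toLinearMap ∘ₗ fr.c i) 1 (by rwa [pow_one])
      rw [pow_one, Ideal.smul_top_eq_map, Ideal.Quotient.algebraMap_eq, Ideal.map_quotient_self,
        Submodule.restrictScalars_bot, Submodule.mem_bot] at h
      exact LinearMap.mem_ker.2 h)
  let s : (M ⧸ pM p k M) →ₗ[Red p k] (Fin fr.n → Red p k) :=
    LinearMap.extendScalarsOfSurjective Ideal.Quotient.mk_surjective (LinearMap.pi ψ)
  have hs : π ∘ₗ s = LinearMap.id := by
    apply LinearMap.ext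
    intro y
    obtain ⟨x, rfl⟩ := (pM p k M).mkQ_surjective y
    choose w hw using fun i => Ideal.Quotient.mk_surjective (fr.c i x)
    have hψ : s ((pM p k M).mkQ x) = fun i => Ideal.Quotient.mk _ (w i) := by
      funext i
      change Ideal.Quotient.factor hle (fr.c i x) = _
      rw [← hw i, Ideal.Quotient.factor_mk]
    rw [LinearMap.comp_apply, hψ, LinearMap.id_apply]
    simp only [π, Fintype.linearCombination_apply, Submodule.mkQ_apply]
    refine Eq.trans (b := (pM p k M).mkQ (∑ i, w i • fr.b i)) ?_ ?_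
    · rw [map_sum]; exact Finset.sum_congr rfl fun i _ => rfl
    · symm
      rw [Submodule.mkQ_apply, Submodule.Quotient.eq]
      exact Submodule.smul_mono hle le_rfl (fr.spec x w hw)
  have hsurj : Function.Surjective π := fun y => ⟨s y, LinearMap.congr_fun hs y⟩
  exact ⟨Module.Finite.of_surjective π hsurj, Module.Projective.of_split s π hs⟩

theorem twist_mem {X : Type v} [AddCommGroup X] [Module (Red p k) X] {σ : Red p k ≃+* Red p k}
    {m : Ideal (Red p k)} (hσm : ∀ c ∈ m, σ c ∈ m) {x : X}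
    (hx : toTw (σ : Red p k →+* Red p k) X x ∈ m • (⊤ : Submodule (Red p k) (Tw (σ : Red p k →+* Red p k) X))) :
    x ∈ m • (⊤ : Submodule (Red p k) X) := by
  suffices h : ∀ y ∈ m • (⊤ : Submodule (Red p k) (Tw (σ : Red p k →+* Red p k) X)),
      (toTw (σ : Red p k →+* Red p k) X).symm y ∈ m • (⊤ : Submodule (Red p k) X) by
    simpa using h _ hx
  intro y hy
  refine Submodule.smul_induction_on hy (fun c hc z _ => ?_) fun a b ha hb => ?_
  · obtain ⟨z, rfl⟩ := (toTw (σ : Red p k →+* Red p k) X).surjective z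
    rw [toTw_smul, AddEquiv.symm_apply_apply]
    exact Submodule.smul_mem_smul (hσm c hc) Submodule.mem_top
  · rw [map_add]; exact add_mem ha hb

theorem mem_of_mkQ_mem (m : Ideal (Red p k)) (hm : m.IsMaximal) {x : M}
    (hx : (pM p k M).mkQ x ∈ m • (⊤ : Submodule (Red p k) (M ⧸ pM p k M))) :
    x ∈ m.comap (Ideal.Quotient.mk _) • (⊤ : Submodule (WittVector p k) M) := by
  have key : ∀ y ∈ m • (⊤ : Submodule (Red p k) (M ⧸ pM p k M)),
      ∃ j ∈ m.comap (Ideal.Quotient.mk _) • (⊤ : Submodule (WittVector p k) M), (pM p k M).mkQ j = y := by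
    intro y hy
    refine Submodule.smul_induction_on hy (fun c hc z _ => ?_) fun a b ha hb => ?_
    · obtain ⟨w, rfl⟩ := Ideal.Quotient.mk_surjective c
      obtain ⟨z', rfl⟩ := (pM p k M).mkQ_surjective z
      exact ⟨w • z', Submodule.smul_mem_smul hc Submodule.mem_top, rfl⟩
    · obtain ⟨a', ha', rfl⟩ := ha
      obtain ⟨b', hb', rfl⟩ := hb
      exact ⟨a' + b', add_mem ha' hb', map_add _ _ _⟩
  obtain ⟨j, hj, hje⟩ := key _ hx
  rw [Submodule.mkQ_apply, Submodule.mkQ_apply, Submodule.Quotient.eq] at hje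
  have := sub_mem hj (Submodule.smul_mono
    ((Ideal.span_singleton_le_iff_mem _).2 (isGoodIdeal_of_isMaximal m hm).p_mem) le_rfl hje)
  rwa [sub_sub_cancel] at this

variable (F : M →ₛₗ[(WittVector.frobenius : WittVector p k →+* WittVector p k)] M)
  (V : M →ₛₗ[((WittVector.frobeniusEquiv p k).symm : WittVector p k →+* WittVector p k)] M)
  (hFV : ∀ m : M, F (V m) = (p : WittVector p k) • m) (hVF : ∀ m : M, V (F m) = (p : WittVector p k) • m)

theorem frobenius_mem_span {w : WittVector p k} (hw : w ∈ Ideal.span {(p : WittVector p k)}) :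
    WittVector.frobenius w ∈ Ideal.span {(p : WittVector p k)} :=
  isGoodIdeal_span_p.frobenius_mem hw

theorem frobenius_symm_mem_span {w : WittVector p k} (hw : w ∈ Ideal.span {(p : WittVector p k)}) :
    (WittVector.frobeniusEquiv p k).symm w ∈ Ideal.span {(p : WittVector p k)} :=
  isGoodIdeal_span_p.frobenius_symm_mem hw

include hFV hVF in
theorem levelOne (fr : Frame p k M) :
    ((pM p k M).comap F = Submodule.span (WittVector p k) (Set.range V) ⊔ pM p k M ∧
      (pM p k M).comap V = Submodule.span (WittVector p k) (Set.range F) ⊔ pM p k M) ∧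
    Module.Projective (Red p k)
      ((M ⧸ pM p k M) ⧸
        Submodule.span (Red p k) (Set.range fun m : M => (pM p k M).mkQ (V m))) := by
  refine ⟨⟨comap_eq F V fr hFV hVF (fun _ => frobenius_symm_mem_span) (fun _ => frobenius_mem_span),
    comap_eq V F fr hVF hFV (fun _ => frobenius_mem_span) (fun _ => frobenius_symm_mem_span)⟩, ?_⟩
  obtain ⟨hfin, hproj⟩ := red_projective fr
  -- Frobenius of `W/pW`
  have hmap : Ideal.span {(p : WittVector p k)} =
      Ideal.map (WittVector.frobeniusEquiv p k : WittVector p k →+* WittVector p k)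
        (Ideal.span {(p : WittVector p k)}) := by
    rw [Ideal.map_span, Set.image_singleton, map_natCast]
  let σ : Red p k ≃+* Red p k := Ideal.quotientEquiv _ _ (WittVector.frobeniusEquiv p k) hmap
  have hσ : ∀ w, σ (Ideal.Quotient.mk _ w) = Ideal.Quotient.mk _ (WittVector.frobenius w) :=
    fun w => rfl
  haveI := projective_tw σ (M ⧸ pM p k M)
  haveI := finite_tw σ (M ⧸ pM p k M)
  set T := Tw (σ : Red p k →+* Red p k) (M ⧸ pM p k M)
  let F₁ : (M ⧸ pM p k M) →+ T :=
    (toTw _ _).toAddMonoidHom.comp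
      ((pM p k M).mapQ (pM p k M) F (fun x hx =>
        semilinear_mem_smul F (fun _ => frobenius_mem_span) hx)).toAddMonoidHom
  let V₁ : T →+ (M ⧸ pM p k M) :=
    ((pM p k M).mapQ (pM p k M) V (fun x hx =>
        semilinear_mem_smul V (fun _ => frobenius_symm_mem_span) hx)).toAddMonoidHom.comp
      (toTw _ _).symm.toAddMonoidHom
  have hF₁ : ∀ x, F₁ ((pM p k M).mkQ x) = toTw _ _ ((pM p k M).mkQ (F x)) := fun x => rfl
  have hV₁ : ∀ x, V₁ (toTw _ _ ((pM p k M).mkQ x)) = (pM p k M).mkQ (V x) := fun x => rfl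
  let Fl : (M ⧸ pM p k M) →ₗ[Red p k] T :=
    { F₁ with
      map_smul' := fun c y => by
        obtain ⟨w, rfl⟩ := Ideal.Quotient.mk_surjective c
        obtain ⟨x, rfl⟩ := (pM p k M).mkQ_surjective y
        change F₁ ((pM p k M).mkQ (w • x)) = Ideal.Quotient.mk _ w • F₁ ((pM p k M).mkQ x)
        rw [hF₁, hF₁, LinearMap.map_smulₛₗ, map_smul, toTw_smul, RingEquiv.coe_toRingHom, hσ]
        rfl }
  let Vl : T →ₗ[Red p k] (M ⧸ pM p k M) :=
    { V₁ with
      map_smul' := fun c y => by
        obtain ⟨w, rfl⟩ := Ideal.Quotient.mk_surjective c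
        obtain ⟨y, rfl⟩ := (toTw (σ : Red p k →+* Red p k) (M ⧸ pM p k M)).surjective y
        obtain ⟨x, rfl⟩ := (pM p k M).mkQ_surjective y
        rw [toTw_smul, RingEquiv.coe_toRingHom, hσ]
        change V₁ (toTw _ _ ((pM p k M).mkQ (WittVector.frobenius w • x))) =
          Ideal.Quotient.mk _ w • V₁ (toTw _ _ ((pM p k M).mkQ x))
        rw [hV₁, hV₁, LinearMap.map_smulₛₗ, RingEquiv.coe_toRingHom, frobenius_symm_apply', map_smul]
        rfl }
  have hp0 : ∀ x : M, (pM p k M).mkQ ((p : WittVector p k) • x) = 0 := fun x =>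
    (Submodule.Quotient.mk_eq_zero _).2
      (Submodule.smul_mem_smul (Ideal.mem_span_singleton_self _) Submodule.mem_top)
  have hFVl : ∀ t, Fl (Vl t) = 0 := by
    intro t
    obtain ⟨y, rfl⟩ := (toTw (σ : Red p k →+* Red p k) (M ⧸ pM p k M)).surjective t
    obtain ⟨x, rfl⟩ := (pM p k M).mkQ_surjective y
    change F₁ (V₁ (toTw _ _ ((pM p k M).mkQ x))) = 0
    rw [hV₁, hF₁, hFV, hp0, map_zero]
  have hVFl : ∀ y, Vl (Fl y) = 0 := by
    intro y
    obtain ⟨x, rfl⟩ := (pM p k M).mkQ_surjective y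
    change V₁ (F₁ ((pM p k M).mkQ x)) = 0
    rw [hF₁, hV₁, hVF, hp0]
  have hσm : ∀ (m : Ideal (Red p k)) (hm : m.IsMaximal), ∀ c ∈ m, σ c ∈ m := by
    intro m hm c hc
    obtain ⟨w, rfl⟩ := Ideal.Quotient.mk_surjective c
    rw [hσ]
    exact (isGoodIdeal_of_isMaximal m hm).frobenius_mem (show w ∈ m.comap (Ideal.Quotient.mk _) from hc)
  have hσm' : ∀ (m : Ideal (Red p k)) (hm : m.IsMaximal), ∀ c ∈ m, σ.symm c ∈ m := by
    intro m hm c hc
    obtain ⟨w, rfl⟩ := Ideal.Quotient.mk_surjective c
    rw [show σ.symm (Ideal.Quotient.mk _ w)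
        = Ideal.Quotient.mk _ ((WittVector.frobeniusEquiv p k).symm w) from rfl]
    exact (isGoodIdeal_of_isMaximal m hm).frobenius_symm_mem (show w ∈ m.comap (Ideal.Quotient.mk _) from hc)
  have hres : ∀ c : WittVector p k, ∀ y : M ⧸ pM p k M, Ideal.Quotient.mk (Ideal.span {(p : WittVector p k)}) c • y = c • y :=
    fun c y => rfl
  have hcoker := projective_coker_periodic Fl Vl ?_ ?_ ?_ ?_
  · have hSk : Submodule.span (Red p k) (Set.range fun m : M => (pM p k M).mkQ (V m))
        = LinearMap.range Vl := by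
      refine le_antisymm (Submodule.span_le.2 ?_) ?_
      · rintro _ ⟨x, rfl⟩
        exact ⟨toTw _ _ ((pM p k M).mkQ x), hV₁ x⟩
      · rintro _ ⟨t, rfl⟩
        obtain ⟨y, rfl⟩ := (toTw (σ : Red p k →+* Red p k) (M ⧸ pM p k M)).surjective t
        obtain ⟨x, rfl⟩ := (pM p k M).mkQ_surjective y
        exact Submodule.subset_span ⟨x, (hV₁ x).symm⟩
    exact Module.Projective.of_equiv' (Submodule.quotEquivOfEq _ _ hSk).symm
  · intro t
    obtain ⟨y, rfl⟩ := (toTw (σ : Red p k →+* Red p k) (M ⧸ pM p k M)).surjective t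
    obtain ⟨x, rfl⟩ := (pM p k M).mkQ_surjective y
    change F₁ (V₁ (toTw _ _ ((pM p k M).mkQ x))) = 0
    rw [hV₁, hF₁, hFV, hp0, map_zero]
  · intro y
    obtain ⟨x, rfl⟩ := (pM p k M).mkQ_surjective y
    change V₁ (F₁ ((pM p k M).mkQ x)) = 0
    rw [hF₁, hV₁, hVF, hp0]
  · intro m hm y hy
    obtain ⟨y', rfl⟩ := (pM p k M).mkQ_surjective y
    set J := m.comap (Ideal.Quotient.mk (Ideal.span {(p : WittVector p k)}))
    have hJ : IsGoodIdeal J := isGoodIdeal_of_isMaximal m hm
    have hF' : F y' ∈ J • (⊤ : Submodule (WittVector p k) M) :=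
      mem_of_mkQ_mem m hm (twist_mem (hσm m hm) hy)
    have h := exact_mod F V fr hFV hVF hJ (fun _ => hJ.frobenius_symm_mem) hF'
    let S := ((LinearMap.range Vl ⊔ m • (⊤ : Submodule (Red p k) (M ⧸ pM p k M))).restrictScalars
      (WittVector p k)).comap (pM p k M).mkQ
    refine (sup_le (Submodule.span_le.2 ?_) ?_ : _ ≤ S) h
    · rintro _ ⟨x, rfl⟩
      exact Submodule.mem_sup_left ⟨toTw _ _ ((pM p k M).mkQ x), hV₁ x⟩
    · refine Submodule.smul_le.2 fun w hw x _ => Submodule.mem_sup_right ?_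
      rw [map_smul, ← hres]
      exact Submodule.smul_mem_smul hw Submodule.mem_top
  · intro m hm t ht
    obtain ⟨t, rfl⟩ := (toTw (σ : Red p k →+* Red p k) (M ⧸ pM p k M)).surjective t
    obtain ⟨t', rfl⟩ := (pM p k M).mkQ_surjective t
    set J := m.comap (Ideal.Quotient.mk (Ideal.span {(p : WittVector p k)}))
    have hJ : IsGoodIdeal J := isGoodIdeal_of_isMaximal m hm
    have hV' : V t' ∈ J • (⊤ : Submodule (WittVector p k) M) := mem_of_mkQ_mem m hm ht
    have h := exact_mod V F fr hVF hFV hJ (fun _ => hJ.frobenius_mem) hV'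
    let G := LinearMap.range Fl ⊔ m • (⊤ : Submodule (Red p k) T)
    let S : Submodule (WittVector p k) M :=
      { carrier := {x | toTw _ _ ((pM p k M).mkQ x) ∈ G}
        add_mem' := fun {a b} ha hb => by
          simp only [Set.mem_ofPred_eq, map_add] at ha hb ⊢
          exact add_mem ha hb
        zero_mem' := by
          simp only [Set.mem_ofPred_eq, map_zero]
          exact zero_mem G
        smul_mem' := fun w a ha => by
          simp only [Set.mem_ofPred_eq] at ha ⊢
          have := G.smul_mem (σ.symm (Ideal.Quotient.mk _ w)) ha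
          rw [toTw_smul, RingEquiv.coe_toRingHom, RingEquiv.apply_symm_apply, hres, ← map_smul] at this
          exact this }
    refine (sup_le (Submodule.span_le.2 ?_) ?_ : _ ≤ S) h
    · rintro _ ⟨x, rfl⟩
      exact Submodule.mem_sup_left ⟨(pM p k M).mkQ x, hF₁ x⟩
    · refine Submodule.smul_le.2 fun w hw x _ => Submodule.mem_sup_right ?_
      rw [map_smul, ← hres, show Ideal.Quotient.mk _ w • (pM p k M).mkQ x
        = σ (σ.symm (Ideal.Quotient.mk _ w)) • (pM p k M).mkQ x by rw [RingEquiv.apply_symm_apply],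
        show toTw (σ : Red p k →+* Red p k) _ (σ (σ.symm (Ideal.Quotient.mk _ w)) • (pM p k M).mkQ x)
          = σ.symm (Ideal.Quotient.mk _ w) • toTw _ _ ((pM p k M).mkQ x) from rfl]
      exact Submodule.smul_mem_smul (hσm' m hm _ hw) Submodule.mem_top

end Quotient

end Groth.Agent.Disp53
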