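import Groth.Agent.Disp53.Construct
import Groth.Agent.Disp53.LevelOne
import Mathlib

/-!
Exterior powers of 3n-displays with tangent module of rank one.
-/

set_option autoImplicit false
set_option linter.unusedSectionVars false
universe u v w
open W4c1extbt610 WittVector

namespace Groth.Agent.Disp53

section Alg

variable {A : Type u} [CommRing A] {M : Type v} [AddCommGroup M] [Module A M]

theorem alt_mem_span {N : Type w} [AddCommGroup N] [Module A N] {r : ℕ} (f : M [⋀^Fin r]→ₗ[A] N)
    {s : Set M} (hs : Submodule.span A s = ⊤) (K : Submodule A N)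
    (h : ∀ v : Fin r → M, (∀ i, v i ∈ s) → f v ∈ K) (v : Fin r → M) : f v ∈ K := by
  suffices H : ∀ (S : Finset (Fin r)) (v : Fin r → M), (∀ i ∉ S, v i ∈ s) → f v ∈ K from
    H Finset.univ v (fun i hi => absurd (Finset.mem_univ i) hi)
  intro S
  induction S using Finset.induction_on with
  | empty => exact fun v hv => h v fun i => hv i (Finset.notMem_empty i)
  | insert j S hj ih =>
    intro v hv
    have hx : v j ∈ Submodule.span A s := hs ▸ Submodule.mem_top
    have key : ∀ x ∈ Submodule.span A s, f (Function.update v j x) ∈ K := by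
      intro x hx
      induction hx using Submodule.span_induction with
      | mem y hy =>
        refine ih _ fun i hi => ?_
        rcases eq_or_ne i j with rfl | hij
        · rwa [Function.update_self]
        · rw [Function.update_of_ne hij]
          exact hv i (by simp [hij, hi])
      | zero => rw [f.map_coord_zero j (Function.update_self j 0 v)]; exact zero_mem _
      | add a b _ _ ha hb => rw [f.map_update_add]; exact add_mem ha hb
      | smul c a _ ha => rw [f.map_update_smul]; exact K.smul_mem c ha
    have := key _ hx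
    rwa [Function.update_eq_self] at this

/-- Expansion of an alternating form when all the perturbations are multiples of one vector. -/
theorem alt_add_smul_eq {N : Type w} [AddCommGroup N] [Module A N] {r : ℕ} (f : M [⋀^Fin r]→ₗ[A] N)
    (t : M) (l : Fin r → M) (c : Fin r → A) :
    f (fun i => l i + c i • t) = f l + ∑ i, c i • f (Function.update l i t) := by
  suffices H : ∀ (S : Finset (Fin r)) (l : Fin r → M),
      f (fun i => if i ∈ S then l i + c i • t else l i) = f l + ∑ i ∈ S, c i • f (Function.update l i t) by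
    simpa using H Finset.univ l
  intro S
  induction S using Finset.induction_on with
  | empty => intro l; simp
  | insert i S hi ih =>
    intro l
    have hv : (fun k => if k ∈ insert i S then l k + c k • t else l k)
        = Function.update (fun k => if k ∈ S then l k + c k • t else l k) i (l i + c i • t) := by
      funext k
      rcases eq_or_ne k i with rfl | hk
      · simp
      · simp [hk]
    have hli : Function.update (fun k => if k ∈ S then l k + c k • t else l k) i (l i)
        = fun k => if k ∈ S then l k + c k • t else l k := by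
      funext k
      rcases eq_or_ne k i with rfl | hk
      · simp [hi]
      · simp [hk]
    have hti : Function.update (fun k => if k ∈ S then l k + c k • t else l k) i t
        = fun k => if k ∈ S then Function.update l i t k + c k • t else Function.update l i t k := by
      funext k
      rcases eq_or_ne k i with rfl | hk
      · simp [hi]
      · simp [hk]
    rw [hv, f.map_update_add, f.map_update_smul, hli, hti, ih, ih (Function.update l i t), Finset.sum_insert hi]
    rw [Finset.sum_eq_zero (s := S) (f := fun k => c k • f (Function.update (Function.update l i t) k t)), add_zero]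
    · abel
    · intro k hk
      have hik : i ≠ k := fun h => hi (h ▸ hk)
      rw [f.map_eq_zero_of_eq _ (i := i) (j := k)
        (by rw [Function.update_self, Function.update_of_ne hik, Function.update_self]) hik, smul_zero]

variable {σ : A →+* A} {r : ℕ}

/-- The exterior power of a semilinear map. -/
noncomputable def extSemi (φ : M →ₛₗ[σ] M) (r : ℕ) : ⋀[A]^r M →ₛₗ[σ] ⋀[A]^r M :=
  let alt : M [⋀^Fin r]→ₗ[A] Tw σ (⋀[A]^r M) :=
    { toFun := fun v => toTw σ _ (exteriorPower.ιMulti A r (φ ∘ v))
      map_update_add' := by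
        intro inst v i x y
        rw [← map_add]
        congr 1
        simp only [Function.comp_update, map_add]
        exact (exteriorPower.ιMulti A r).map_update_add _ _ _ _
      map_update_smul' := by
        intro inst v i a x
        rw [toTw_smul]
        congr 1
        simp only [Function.comp_update, LinearMap.map_smulₛₗ]
        exact (exteriorPower.ιMulti A r).map_update_smul _ _ _ _
      map_eq_zero_of_eq' := fun v i j hv hij => by
        rw [(exteriorPower.ιMulti A r).map_eq_zero_of_eq _ (by simp [hv]) hij, map_zero] }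
  { toFun := fun x => (toTw σ (⋀[A]^r M)).symm (exteriorPower.alternatingMapLinearEquiv alt x)
    map_add' := fun x y => by rw [map_add, map_add]
    map_smul' := fun a x => by
      rw [map_smul]; rfl }

theorem extSemi_ιMulti (φ : M →ₛₗ[σ] M) (v : Fin r → M) :
    extSemi φ r (exteriorPower.ιMulti A r v) = exteriorPower.ιMulti A r (φ ∘ v) := by
  simp [extSemi]

theorem finite_projective_exteriorPower [Module.Finite A M] [Module.Projective A M] (r : ℕ) :
    Module.Projective A (⋀[A]^r M) := by
  obtain ⟨n, f, hf⟩ := Module.Finite.exists_fin' A M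
  obtain ⟨s, hs⟩ := Module.projective_lifting_property f LinearMap.id hf
  exact Module.Projective.of_split (exteriorPower.map r s) (exteriorPower.map r f)
    (by rw [← exteriorPower.map_comp, hs, exteriorPower.map_id])

end Alg

variable {p : ℕ} [Fact p.Prime] {R : Type u} [CommRing R]
variable {P : Type v} [AddCommGroup P] [Module (WittVector p R) P] {D : Display3n p R P}

theorem exists_linearisation {L T : Submodule (WittVector p R) P} (hLT : IsCompl L T)
    (hQ : D.Q = L ⊔ IV p R • T) :
    ∃ Φ : P →ₛₗ[(WittVector.frobenius : WittVector p R →+* WittVector p R)] P,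
      (∀ (x : P) (h : x ∈ D.Q), x ∈ L → D.Vinv ⟨x, h⟩ = Φ x) ∧ (∀ t ∈ T, D.F t = Φ t) ∧
        Submodule.span (WittVector p R) (Set.range Φ) = ⊤ := by
  have hLQ : L ≤ D.Q := hQ ▸ le_sup_left
  let eL : P →ₗ[WittVector p R] D.Q :=
    (projL hLT).codRestrict D.Q (fun x => hLQ (projL_mem hLT x))
  let Φ : P →ₛₗ[(WittVector.frobenius : WittVector p R →+* WittVector p R)] P :=
    D.Vinv.comp eL + D.F.comp (projT hLT)
  have hL : ∀ (x : P) (h : x ∈ D.Q), x ∈ L → D.Vinv ⟨x, h⟩ = Φ x := by
    intro x h hx
    simp only [Φ, LinearMap.add_apply, LinearMap.comp_apply, projT_of_mem_L hLT hx, map_zero, add_zero]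
    exact (Vinv_congr D (projL_of_mem hLT hx)).symm
  have hT : ∀ t ∈ T, D.F t = Φ t := by
    intro t ht
    simp only [Φ, LinearMap.add_apply, LinearMap.comp_apply, projT_of_mem hLT ht]
    rw [show eL t = 0 from Subtype.ext (projL_of_mem_T hLT ht), map_zero, zero_add]
  refine ⟨Φ, hL, hT, eq_top_iff.2 ?_⟩
  rw [← D.span_range_Vinv, Submodule.span_le]
  rintro _ ⟨q, rfl⟩
  refine forall_Q_of_normal D hQ (fun q => D.Vinv q ∈ Submodule.span (WittVector p R) (Set.range Φ))
    (fun a b ha hb => by rw [map_add]; exact add_mem ha hb)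
    (fun x h hx => Submodule.subset_span ⟨x, (hL x h hx).symm⟩) (fun u t h ht => ?_) q
  rw [Vinv_V_smul, hT t ht]
  exact Submodule.smul_mem _ _ (Submodule.subset_span ⟨t, rfl⟩)

theorem exists_smul_generator {T : Submodule (WittVector p R) P} {t₀ : P}
    (hgen : ∀ t ∈ T, ∃ c : WittVector p R, t = c • t₀) {x : P} (hx : x ∈ IV p R • T) :
    ∃ c ∈ IV p R, x = c • t₀ := by
  refine Submodule.smul_induction_on hx (fun w hw t ht => ?_) ?_
  · obtain ⟨c, rfl⟩ := hgen t ht
    exact ⟨w * c, Ideal.mul_mem_right _ _ hw, by rw [mul_smul]⟩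
  · rintro a b ⟨c, hc, rfl⟩ ⟨d, hd, rfl⟩
    exact ⟨c + d, add_mem hc hd, (add_smul _ _ _).symm⟩

/-- Exterior powers exist when the tangent module is free of rank one. -/
theorem exists_isExtPow {L T : Submodule (WittVector p R) P} (hLT : IsCompl L T)
    (hQ : D.Q = L ⊔ IV p R • T) {t₀ : P} (ht₀ : t₀ ∈ T) (hgen : ∀ t ∈ T, ∃ c : WittVector p R, t = c • t₀)
    (r : ℕ) :
    ∃ E : Display3n p R (⋀[WittVector p R]^r P), IsExtPow D r E ∧
      E.Q = LinearMap.range (exteriorPower.map r (projL hLT))
        ⊔ IV p R • LinearMap.ker (exteriorPower.map r (projL hLT)) ∧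
      IsCompl (LinearMap.range (exteriorPower.map r (projL hLT)))
        (LinearMap.ker (exteriorPower.map r (projL hLT))) := by
  haveI := D.finite
  haveI := D.projective
  haveI := finite_projective_exteriorPower (A := WittVector p R) (M := P) r
  obtain ⟨Φ, hΦL, hΦT, hΦ⟩ := exists_linearisation hLT hQ
  set π := exteriorPower.map r (projL hLT) with hπ
  have hππ : ∀ z, π (π z) = π z := fun z => by
    rw [hπ, ← LinearMap.comp_apply, ← exteriorPower.map_comp]
    congr 2
    exact LinearMap.ext fun x => projL_of_mem hLT (projL_mem hLT x)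
  have hC : IsCompl (LinearMap.range π) (LinearMap.ker π) := by
    refine ⟨Submodule.disjoint_def.2 ?_, codisjoint_iff.2 (eq_top_iff.2 fun z _ => ?_)⟩
    · rintro _ ⟨a, rfl⟩ hb
      rw [← hππ]
      exact LinearMap.mem_ker.1 hb
    · exact Submodule.mem_sup.2 ⟨π z, ⟨z, rfl⟩, z - π z, by rw [LinearMap.mem_ker, map_sub, hππ, sub_self],
        add_sub_cancel _ _⟩
  have hspan : Submodule.span (WittVector p R) (Set.range (extSemi Φ r)) = ⊤ := by
    rw [eq_top_iff, ← exteriorPower.ιMulti_span, Submodule.span_le]
    rintro _ ⟨v, rfl⟩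
    refine alt_mem_span (exteriorPower.ιMulti _ r) hΦ _ (fun w hw => ?_) v
    choose a ha using hw
    exact Submodule.subset_span ⟨exteriorPower.ιMulti _ r a, by rw [extSemi_ιMulti]; congr 1; exact funext ha⟩
  obtain ⟨E, hEQ, hEF, hEV⟩ := exists_display_of_normal hC (extSemi Φ r) hspan
  have hwL : ∀ l : Fin r → P, (∀ i, l i ∈ L) → exteriorPower.ιMulti _ r l ∈ LinearMap.range π := by
    intro l hl
    refine ⟨exteriorPower.ιMulti _ r l, ?_⟩
    rw [hπ, exteriorPower.map_apply_ιMulti]
    congr 1
    exact funext fun i => projL_of_mem hLT (hl i)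
  have hwT : ∀ (l : Fin r → P) (i : Fin r) (t : P), t ∈ T →
      exteriorPower.ιMulti (WittVector p R) r (Function.update l i t) ∈ LinearMap.ker π := by
    intro l i t ht
    rw [LinearMap.mem_ker, hπ, exteriorPower.map_apply_ιMulti]
    exact AlternatingMap.map_coord_zero _ i (by simp [projL_of_mem_T hLT ht])
  have hdec : ∀ q : D.Q, ∃ (d : WittVector p R), (q : P) = projL hLT (q : P) + verschiebung d • t₀ := by
    intro q
    have h1 : projT hLT (q : P) ∈ IV p R • T := by
      obtain ⟨a, ha, b, hb, hab⟩ := Submodule.mem_sup.1 ((le_of_eq hQ) q.2)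
      rw [← hab, map_add, projT_of_mem_L hLT ha, zero_add, projT_of_mem hLT (Submodule.smul_le_right hb)]
      exact hb
    obtain ⟨c, hc, hc'⟩ := exists_smul_generator hgen h1
    obtain ⟨d, rfl⟩ := mem_IV_iff_exists.1 hc
    exact ⟨d, by rw [← hc', projL_add_projT]⟩
  have hwedge : ∀ q : Fin r → D.Q, ∃ h : exteriorPower.ιMulti (WittVector p R) r (fun i => (q i : P)) ∈ E.Q,
      E.Vinv ⟨_, h⟩ = exteriorPower.ιMulti (WittVector p R) r (fun i => D.Vinv (q i)) := by
    intro q
    choose d hd using fun i => hdec (q i)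
    let l : Fin r → P := fun i => projL hLT (q i : P)
    have hl : ∀ i, l i ∈ L := fun i => projL_mem hLT _
    have hlQ : ∀ i, l i ∈ D.Q := fun i => (hQ ▸ le_sup_left : L ≤ D.Q) (hl i)
    have e1 : exteriorPower.ιMulti (WittVector p R) r (fun i => (q i : P))
        = exteriorPower.ιMulti (WittVector p R) r l
          + ∑ i, verschiebung (d i) • exteriorPower.ιMulti (WittVector p R) r (Function.update l i t₀) := by
      rw [← alt_add_smul_eq]
      congr 1
      exact funext fun i => hd i
    have hlE : exteriorPower.ιMulti (WittVector p R) r l ∈ E.Q := hEQ ▸ Submodule.mem_sup_left (hwL l hl)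
    have hiE : ∀ i, verschiebung (d i) • exteriorPower.ιMulti (WittVector p R) r (Function.update l i t₀) ∈ E.Q :=
      fun i => smul_mem_Q E (verschiebung_mem_IV p R _) _
    have hmem : exteriorPower.ιMulti (WittVector p R) r (fun i => (q i : P)) ∈ E.Q :=
      e1 ▸ add_mem hlE (Submodule.sum_mem _ fun i _ => hiE i)
    refine ⟨hmem, ?_⟩
    have e2 : (⟨_, hmem⟩ : E.Q) = ⟨_, hlE⟩ + ∑ i, ⟨_, hiE i⟩ := Subtype.ext (by simpa using e1)
    rw [e2, map_add, map_sum, hEV _ hlE (hwL l hl), extSemi_ιMulti]
    have e3 : (fun i => D.Vinv (q i)) = fun i => Φ (l i) + d i • Φ t₀ := by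
      funext i
      have e : q i = (⟨l i, hlQ i⟩ : D.Q) + ⟨_, smul_mem_Q D (verschiebung_mem_IV p R (d i)) t₀⟩ :=
        Subtype.ext (hd i)
      rw [e, map_add, hΦL _ _ (hl i), Vinv_V_smul, hΦT _ ht₀]
    rw [e3, alt_add_smul_eq]
    congr 1
    refine Finset.sum_congr rfl fun i _ => ?_
    rw [Vinv_V_smul, hEF, projL_of_mem_T hC (hwT l i t₀ ht₀), projT_of_mem hC (hwT l i t₀ ht₀), map_zero,
      smul_zero, zero_add, extSemi_ιMulti, Function.comp_update]
    rfl
  refine ⟨E, ⟨le_antisymm ?_ ?_, fun q hq => (hwedge q).2⟩, hEQ, hC⟩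
  · rw [hEQ, sup_le_iff]
    constructor
    · rintro _ ⟨z, rfl⟩
      have hz : z ∈ (⊤ : Submodule (WittVector p R) (⋀[WittVector p R]^r P)) := trivial
      rw [← exteriorPower.ιMulti_span] at hz
      induction hz using Submodule.span_induction with
      | mem y hy =>
        obtain ⟨v, rfl⟩ := hy
        rw [hπ, exteriorPower.map_apply_ιMulti]
        exact Submodule.subset_span ⟨fun i => ⟨projL hLT (v i), (hQ ▸ le_sup_left : L ≤ D.Q) (projL_mem hLT _)⟩, rfl⟩
      | zero => rw [map_zero]; exact zero_mem _
      | add a b _ _ ha hb => rw [map_add]; exact add_mem ha hb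
      | smul c a _ ha => rw [map_smul]; exact Submodule.smul_mem _ c ha
    · refine Submodule.smul_le.2 fun c hc z hz => ?_
      rw [show z = z - π z by rw [LinearMap.mem_ker.1 hz, sub_zero]]
      clear hz
      have hz : z ∈ (⊤ : Submodule (WittVector p R) (⋀[WittVector p R]^r P)) := trivial
      rw [← exteriorPower.ιMulti_span] at hz
      induction hz using Submodule.span_induction with
      | mem y hy =>
        obtain ⟨v, rfl⟩ := hy
        choose a ha using fun i => hgen _ (projT_mem hLT (v i))
        have hv : exteriorPower.ιMulti (WittVector p R) r v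
            - π (exteriorPower.ιMulti (WittVector p R) r v)
            = ∑ i, a i • exteriorPower.ιMulti (WittVector p R) r (Function.update (fun j => projL hLT (v j)) i t₀) := by
          rw [hπ, exteriorPower.map_apply_ιMulti, sub_eq_iff_eq_add', Function.comp_def, ← alt_add_smul_eq]
          congr 1
          exact funext fun i => by rw [← ha i, projL_add_projT]
        rw [hv, Finset.smul_sum]
        refine Submodule.sum_mem _ fun i _ => ?_
        rw [smul_smul, ← AlternatingMap.map_update_smul]
        let ql : Fin r → D.Q := fun j => ⟨projL hLT (v j), (hQ ▸ le_sup_left : L ≤ D.Q) (projL_mem hLT _)⟩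
        let qt : D.Q := ⟨(c * a i) • t₀, smul_mem_Q D (Ideal.mul_mem_right _ _ hc) t₀⟩
        refine Submodule.subset_span ⟨Function.update ql i qt, ?_⟩
        simp only
        congr 1
        funext j
        rw [Function.apply_update (fun _ (q : D.Q) => (q : P))]
      | zero => simp
      | add a b _ _ ha hb => rw [map_add, add_sub_add_comm, smul_add]; exact add_mem ha hb
      | smul e a _ ha => rw [map_smul, ← smul_sub, smul_comm]; exact Submodule.smul_mem _ e ha
  · rw [Submodule.span_le]
    rintro _ ⟨q, rfl⟩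
    exact (hwedge q).1

theorem isExtPow_unique {r : ℕ} {E E' : Display3n p R (⋀[WittVector p R]^r P)}
    (hE : IsExtPow D r E) (hE' : IsExtPow D r E') : E' = E := by
  refine ext_display E' (hE'.1.trans hE.1.symm) fun x h h' => ?_
  have hx := hE'.1.le h
  induction hx using Submodule.span_induction with
  | mem y hy =>
    obtain ⟨q, rfl⟩ := hy
    rw [hE'.2 q h, hE.2 q h']
  | zero =>
    exact ((Vinv_congr E' (b := 0) rfl).trans (map_zero E'.Vinv)).trans
      ((Vinv_congr E (b := 0) rfl).trans (map_zero E.Vinv)).symm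
  | add a b ha hb iha ihb =>
    have ha1 := hE'.1.ge ha
    have hb1 := hE'.1.ge hb
    have ha2 := hE.1.ge ha
    have hb2 := hE.1.ge hb
    rw [Vinv_congr E' (a := ⟨a + b, h⟩) (b := ⟨a, ha1⟩ + ⟨b, hb1⟩) rfl,
      Vinv_congr E (a := ⟨a + b, h'⟩) (b := ⟨a, ha2⟩ + ⟨b, hb2⟩) rfl, map_add, map_add, iha ha1 ha2, ihb hb1 hb2]
  | smul c a ha iha =>
    have ha1 := hE'.1.ge ha
    have ha2 := hE.1.ge ha
    rw [Vinv_smul E' c ⟨a, ha1⟩, Vinv_smul E c ⟨a, ha2⟩, iha ha1 ha2]

/-- The universal property of exterior powers of 3n-displays. -/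
theorem isExtPow_universal {r : ℕ} {E : Display3n p R (⋀[WittVector p R]^r P)} (hE : IsExtPow D r E) :
    IsAltMult D E (exteriorPower.ιMulti (WittVector p R) r) ∧
      ∀ (P' : Type w) [AddCommGroup P'] [Module (WittVector p R) P'] (D' : Display3n p R P')
        (φ : P [⋀^Fin r]→ₗ[WittVector p R] P'), IsAltMult D D' φ →
        ∃! ψ : ⋀[WittVector p R]^r P →ₗ[WittVector p R] P',
          IsHom E D' ψ ∧ ψ.compAlternatingMap (exteriorPower.ιMulti (WittVector p R) r) = φ := by
  have hm : ∀ q : Fin r → D.Q, exteriorPower.ιMulti (WittVector p R) r (fun i => (q i : P)) ∈ E.Q :=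
    fun q => hE.1.ge (Submodule.subset_span ⟨q, rfl⟩)
  refine ⟨⟨hm, fun q => hE.2 q _, fun i x q => ?_⟩, fun P' _ _ D' φ hφ => ?_⟩
  · have hq' := hm (Function.update q i ⟨_, smul_mem_Q D (verschiebung_mem_IV p R 1) x⟩)
    have h1 := hE.2 (Function.update q i ⟨_, smul_mem_Q D (verschiebung_mem_IV p R 1) x⟩) hq'
    have e1 : (fun j => ((Function.update q i ⟨_, smul_mem_Q D (verschiebung_mem_IV p R 1) x⟩ j : D.Q) : P))
        = Function.update (fun j => (q j : P)) i ((verschiebung (1 : WittVector p R)) • x) :=
      funext fun j => Function.apply_update (fun _ (q : D.Q) => (q : P)) q i _ j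
    have e2 : (fun j => D.Vinv (Function.update q i ⟨_, smul_mem_Q D (verschiebung_mem_IV p R 1) x⟩ j))
        = Function.update (fun j => D.Vinv (q j)) i (D.F x) :=
      funext fun j => by
        rw [Function.apply_update (fun _ (q : D.Q) => D.Vinv q), Vinv_V_smul, one_smul]
    rw [F_eq_Vinv E, ← e2, ← h1]
    refine Vinv_congr E ?_
    exact ((congrArg (exteriorPower.ιMulti (WittVector p R) r) e1).trans
      (AlternatingMap.map_update_smul _ _ _ _ _)).symm
  · refine ⟨exteriorPower.alternatingMapLinearEquiv φ,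
      ⟨?_, exteriorPower.alternatingMapLinearEquiv_comp_ιMulti φ⟩,
      fun ψ' hψ' => exteriorPower.linearMap_ext (by rw [hψ'.2, exteriorPower.alternatingMapLinearEquiv_comp_ιMulti])⟩
    have key : ∀ z ∈ E.Q, ∀ hz : z ∈ E.Q, ∃ h : exteriorPower.alternatingMapLinearEquiv φ z ∈ D'.Q,
        exteriorPower.alternatingMapLinearEquiv φ (E.Vinv ⟨z, hz⟩) = D'.Vinv ⟨_, h⟩ := by
      intro z hz
      have hz' := hE.1.le hz
      clear hz
      induction hz' using Submodule.span_induction with
      | mem y hy =>
        obtain ⟨q, rfl⟩ := hy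
        intro h
        refine ⟨by rw [exteriorPower.alternatingMapLinearEquiv_apply_ιMulti]; exact hφ.mapsTo q, ?_⟩
        rw [hE.2 q h, exteriorPower.alternatingMapLinearEquiv_apply_ιMulti, ← hφ.vCond q]
        exact Vinv_congr D' (exteriorPower.alternatingMapLinearEquiv_apply_ιMulti φ _).symm
      | zero =>
        intro h
        refine ⟨by rw [map_zero]; exact zero_mem _, ?_⟩
        refine ((congrArg _ ((Vinv_congr E (a := ⟨0, h⟩) (b := 0) rfl).trans (map_zero E.Vinv))).trans (map_zero _)).trans ?_
        exact ((Vinv_congr D' (b := 0) (map_zero _)).trans (map_zero D'.Vinv)).symm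
      | add a b ha hb iha ihb =>
        intro h
        obtain ⟨ha', ea⟩ := iha (hE.1.ge ha)
        obtain ⟨hb', eb⟩ := ihb (hE.1.ge hb)
        refine ⟨by rw [map_add]; exact add_mem ha' hb', ?_⟩
        rw [Vinv_congr E (a := ⟨a + b, h⟩) (b := ⟨a, hE.1.ge ha⟩ + ⟨b, hE.1.ge hb⟩) rfl, map_add, map_add, ea, eb,
          ← map_add]
        exact Vinv_congr D' (map_add _ _ _).symm
      | smul c a ha iha =>
        intro h
        obtain ⟨ha', ea⟩ := iha (hE.1.ge ha)
        refine ⟨by rw [map_smul]; exact Submodule.smul_mem _ c ha', ?_⟩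
        rw [Vinv_smul E c ⟨a, hE.1.ge ha⟩, map_smul, ea, ← LinearMap.map_smulₛₗ]
        exact Vinv_congr D' (map_smul _ _ _).symm
    have hmaps : ∀ z, z ∈ E.Q → exteriorPower.alternatingMapLinearEquiv φ z ∈ D'.Q :=
      fun z hz => (key z hz hz).1
    exact ⟨hmaps, fun x => by
      rw [F_eq_Vinv E x, F_eq_Vinv D' _, (key _ (smul_mem_Q E (verschiebung_mem_IV p R 1) x) _).2]
      exact Vinv_congr D' (map_smul _ _ _),
      fun q => (key q.1 q.2 q.2).2⟩

end Groth.Agent.Disp53
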