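import Groth.Agent.Disp53.ExtPow
import Mathlib

/-!
The rank of the tangent module of an exterior power of a 3n-display.
-/

set_option autoImplicit false
set_option linter.unusedSectionVars false
universe u v
open W4c1extbt610

namespace Groth.Agent.Disp53

theorem card_filter_zero_mem (m r : ℕ) (hr : 1 ≤ r) :
    Nat.card {s : Set.powersetCard (Fin (m + 1)) r // (0 : Fin (m + 1)) ∈ (s : Finset (Fin (m + 1)))}
      = m.choose (r - 1) := by
  classical
  let e : {s : Set.powersetCard (Fin (m + 1)) r // (0 : Fin (m + 1)) ∈ (s : Finset (Fin (m + 1)))} ≃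
      {t : Finset (Fin (m + 1)) // t ∈ Finset.powersetCard (r - 1) ((Finset.univ : Finset (Fin (m + 1))).erase 0)} :=
    { toFun := fun s => ⟨(s.1 : Finset (Fin (m + 1))).erase 0, Finset.mem_powersetCard.2
        ⟨Finset.erase_subset_erase _ (Finset.subset_univ _),
          by rw [Finset.card_erase_of_mem s.2, Set.powersetCard.card_eq s.1]⟩⟩
      invFun := fun t => ⟨⟨insert 0 t.1, by
          obtain ⟨h1, h2⟩ := Finset.mem_powersetCard.1 t.2
          rw [Set.powersetCard.mem_iff, Finset.card_insert_of_notMem
            (fun h => (Finset.mem_erase.1 (h1 h)).1 rfl), h2]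
          omega⟩, Finset.mem_insert_self _ _⟩
      left_inv := fun s => Subtype.ext (Subtype.ext (Finset.insert_erase s.2))
      right_inv := fun t => Subtype.ext (Finset.erase_insert
        (fun h => (Finset.mem_erase.1 ((Finset.mem_powersetCard.1 t.2).1 h)).1 rfl)) }
  rw [Nat.card_congr e, Nat.card_eq_fintype_card, Fintype.card_coe, Finset.card_powersetCard,
    Finset.card_erase_of_mem (Finset.mem_univ _), Finset.card_univ, Fintype.card_fin, Nat.add_sub_cancel]

theorem ker_map_projection {A : Type u} [CommRing A] [Nontrivial A] {M : Type v} [AddCommGroup M] [Module A M]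
    {m r : ℕ} (hr : 1 ≤ r) (b : Module.Basis (Fin (m + 1)) A M) (π : M →ₗ[A] M)
    (h0 : π (b 0) = 0) (hs : ∀ i : Fin m, π (b i.succ) = b i.succ) :
    Module.Free A (LinearMap.ker (exteriorPower.map r π)) ∧
      Module.finrank A (LinearMap.ker (exteriorPower.map r π)) = m.choose (r - 1) := by
  classical
  let B := b.exteriorPower r
  have hB : ∀ s, exteriorPower.map r π (B s)
      = if (0 : Fin (m + 1)) ∈ (s : Finset (Fin (m + 1))) then 0 else B s := by
    intro s
    rw [exteriorPower.basis_apply, exteriorPower.map_apply_ιMulti_family]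
    unfold exteriorPower.ιMulti_family
    split_ifs with h
    · obtain ⟨k, hk⟩ := (Set.powersetCard.mem_range_ofFinEmbEquiv_symm_iff_mem s 0).mpr h
      exact AlternatingMap.map_coord_zero _ k (by simp only [Function.comp_apply]; rw [hk, h0])
    · congr 1
      funext k
      simp only [Function.comp_apply]
      obtain ⟨j, hj⟩ := Fin.exists_succ_eq.2 (show Set.powersetCard.ofFinEmbEquiv.symm s k ≠ 0 from
        fun hk => h ((Set.powersetCard.mem_range_ofFinEmbEquiv_symm_iff_mem s 0).mp ⟨k, hk⟩))
      rw [← hj, hs]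
  let J := {s : Set.powersetCard (Fin (m + 1)) r // (0 : Fin (m + 1)) ∈ (s : Finset (Fin (m + 1)))}
  let K := LinearMap.ker (exteriorPower.map r π)
  let v : J → K := fun s => ⟨B s.1, by rw [LinearMap.mem_ker, hB, if_pos s.2]⟩
  have hli : LinearIndependent A v :=
    LinearIndependent.of_comp K.subtype (B.linearIndependent.comp (fun s : J => s.1) Subtype.val_injective)
  have hsp : ⊤ ≤ Submodule.span A (Set.range v) := by
    rintro ⟨z, hz⟩ -
    have hz1 : z = ∑ s : J, B.repr z s.1 • B s.1 := by
      have hz2 : exteriorPower.map r π z = 0 := hz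
      conv_lhs => rw [← B.sum_repr z]
      rw [← B.sum_repr z, map_sum] at hz2
      simp only [map_smul, hB, smul_ite, smul_zero, Finset.sum_ite, Finset.sum_const_zero, zero_add] at hz2
      rw [← Finset.sum_filter_add_sum_filter_not Finset.univ
        (fun s : Set.powersetCard (Fin (m + 1)) r => (0 : Fin (m + 1)) ∈ (s : Finset (Fin (m + 1)))), hz2, add_zero]
      exact Finset.sum_subtype _ (by simp) _
    have : (⟨z, hz⟩ : K) = ∑ s : J, B.repr z s.1 • v s :=
      Subtype.ext (by simpa [v, Submodule.coe_sum] using hz1)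
    rw [this]
    exact Submodule.sum_mem _ fun s _ => Submodule.smul_mem _ _ (Submodule.subset_span ⟨s, rfl⟩)
  let bK := Module.Basis.mk hli hsp
  refine ⟨Module.Free.of_basis bK, ?_⟩
  rw [Module.finrank_eq_nat_card_basis bK, card_filter_zero_mem m r hr]

theorem exists_normal_isExtPow {p : ℕ} [Fact p.Prime] {R : Type u} [CommRing R] [Nontrivial R]
    {P : Type v} [AddCommGroup P] [Module (WittVector p R) P] {D : Display3n p R P} {m : ℕ}
    {L T : Submodule (WittVector p R) P} (hLT : IsCompl L T) (hQ : D.Q = L ⊔ IV p R • T)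
    (hL : Module.Free (WittVector p R) L) (hLr : Module.finrank (WittVector p R) L = m)
    (eT : T ≃ₗ[WittVector p R] WittVector p R)
    {r : ℕ} (hr : 1 ≤ r) (E : Display3n p R (⋀[WittVector p R]^r P)) (hE : IsExtPow D r E) :
    ∃ L' T' : Submodule (WittVector p R) (⋀[WittVector p R]^r P), IsCompl L' T' ∧
      E.Q = L' ⊔ IV p R • T' ∧ Module.Free (WittVector p R) T' ∧
      Module.finrank (WittVector p R) T' = m.choose (r - 1) := by
  haveI := D.finite
  haveI := hL
  have hgen : ∀ t ∈ T, ∃ c : WittVector p R, t = c • ((eT.symm 1 : T) : P) := fun t ht =>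
    ⟨eT ⟨t, ht⟩, by rw [← Submodule.coe_smul, ← map_smul, smul_eq_mul, mul_one, LinearEquiv.symm_apply_apply]⟩
  obtain ⟨E', hE', hQ', hC⟩ := exists_isExtPow hLT hQ (eT.symm 1).2 hgen r
  obtain rfl := isExtPow_unique hE' hE
  haveI : Nontrivial (WittVector p R) :=
    ⟨⟨0, 1, fun h => zero_ne_one (α := R) (by
      have := congrArg (fun w : WittVector p R => w.coeff 0) h
      simpa using this)⟩⟩
  haveI : Module.Finite (WittVector p R) L :=
    Module.Finite.of_surjective (L.projectionOnto T hLT) fun x => ⟨x, Submodule.projectionOnto_apply_left hLT x⟩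
  let bL : Module.Basis (Fin m) (WittVector p R) L := Module.finBasisOfFinrankEq _ _ hLr
  let bT : Module.Basis (Fin 1) (WittVector p R) T := (Module.Basis.singleton (Fin 1) (WittVector p R)).map eT.symm
  let b : Module.Basis (Fin (m + 1)) (WittVector p R) P :=
    ((bT.prod bL).map (Submodule.prodEquivOfIsCompl T L hLT.symm)).reindex
      (finSumFinEquiv.trans (finCongr (Nat.add_comm 1 m)))
  have h0 : b 0 ∈ T := by
    have : ((finSumFinEquiv.trans (finCongr (Nat.add_comm 1 m))).symm (0 : Fin (m + 1))) = Sum.inl 0 := by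
      rw [Equiv.symm_apply_eq]; rfl
    simp only [b, Module.Basis.reindex_apply, this]
    simp
  have hs : ∀ i : Fin m, b i.succ ∈ L := by
    intro i
    have : ((finSumFinEquiv.trans (finCongr (Nat.add_comm 1 m))).symm i.succ) = Sum.inr i := by
      rw [Equiv.symm_apply_eq]
      exact Fin.ext (by simp [finSumFinEquiv_apply_right, Nat.add_comm])
    simp only [b, Module.Basis.reindex_apply, this]
    simp
  exact ⟨_, _, hC, hQ', ker_map_projection hr b (projL hLT) (projL_of_mem_T hLT h0)
    fun i => projL_of_mem hLT (hs i)⟩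

end Groth.Agent.Disp53
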