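import Groth.Agent.Disp53.WittNil
import Groth.Agent.Disp53.BCTools
import Mathlib

/-!
Lifting maps commuting with semilinear isomorphisms along a nil extension.
-/

set_option autoImplicit false
set_option linter.unusedSectionVars false
universe u v w z

namespace Groth.Agent.Disp53

variable {A : Type u} [CommRing A] {σ : A →+* A}
variable {P₁ : Type v} [AddCommGroup P₁] [Module A P₁] {P₂ : Type w} [AddCommGroup P₂] [Module A P₂]
variable {ι : Type z}

/-- If a power of `σ` kills the `σ`-stable ideal `𝔠`, approximate solutions of `F₂ α = α F₁` modulo `𝔠`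
can be corrected, uniquely. -/
theorem exists_flift (b : Module.Basis ι A P₁) [Finite ι] (F₁ : P₁ →ₛₗ[σ] P₁) (F₂ : P₂ →ₛₗ[σ] P₂)
    (hind : LinearIndependent A (fun i => F₁ (b i)))
    (hspan : Submodule.span A (Set.range fun i => F₁ (b i)) = ⊤)
    (𝔠 : Ideal A) (hσ : ∀ a ∈ 𝔠, σ a ∈ 𝔠) (K : ℕ) (hK : ∀ a ∈ 𝔠, σ^[K] a = 0)
    (α₀ : P₁ →ₗ[A] P₂) (hα₀ : ∀ x : P₁, F₂ (α₀ x) - α₀ (F₁ x) ∈ 𝔠 • (⊤ : Submodule A P₂)) :
    ∃! α : P₁ →ₗ[A] P₂,
      (∀ x : P₁, α x - α₀ x ∈ 𝔠 • (⊤ : Submodule A P₂)) ∧ ∀ x : P₁, F₂ (α x) = α (F₁ x) := by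
  cases nonempty_fintype ι
  let c : Module.Basis ι A P₁ := Module.Basis.mk hind hspan.ge
  have hc : ∀ i, c i = F₁ (b i) := fun i => Module.Basis.mk_apply hind hspan.ge i
  -- the contraction
  let T : (P₁ →ₗ[A] P₂) →+ (P₁ →ₗ[A] P₂) :=
    { toFun := fun β => c.constr A fun i => F₂ (β (b i))
      map_zero' := c.ext fun i => by simp
      map_add' := fun β γ => c.ext fun i => by
        rw [LinearMap.add_apply, Module.Basis.constr_basis, Module.Basis.constr_basis, Module.Basis.constr_basis,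
          LinearMap.add_apply, map_add] }
  have hT : ∀ β x, T β (F₁ x) = F₂ (β x) := by
    intro β x
    have h1 : (T β).comp F₁ = F₂.comp β := b.ext fun i => by
      change T β (F₁ (b i)) = F₂ (β (b i))
      rw [← hc]
      exact c.constr_basis A _ i
    exact LinearMap.congr_fun h1 x
  have hTmem : ∀ (I J : Ideal A), (∀ a ∈ I, σ a ∈ J) → ∀ β : P₁ →ₗ[A] P₂,
      (∀ x, β x ∈ I • (⊤ : Submodule A P₂)) → ∀ x, T β x ∈ J • (⊤ : Submodule A P₂) := by
    intro I J hIJ β hβ x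
    rw [← c.sum_repr x, map_sum]
    refine Submodule.sum_mem _ fun i _ => ?_
    rw [map_smul, hc, hT]
    exact Submodule.smul_mem _ _ (semilinear_smul_top F₂ hIJ (hβ _))
  have hTmem𝔠 : ∀ (k : ℕ) (β : P₁ →ₗ[A] P₂), (∀ x, β x ∈ 𝔠 • (⊤ : Submodule A P₂)) →
      ∀ x, T^[k] β x ∈ 𝔠 • (⊤ : Submodule A P₂) := by
    intro k
    induction k with
    | zero => exact fun β hβ => hβ
    | succ k ih =>
      intro β hβ
      rw [Function.iterate_succ_apply']
      exact hTmem 𝔠 𝔠 hσ _ (ih β hβ)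
  have hTK : ∀ β : P₁ →ₗ[A] P₂, (∀ x, β x ∈ 𝔠 • (⊤ : Submodule A P₂)) → T^[K] β = 0 := by
    intro β hβ
    have h1 : ∀ k x, T^[k] β x ∈ Ideal.span ((σ^[k]) '' (𝔠 : Set A)) • (⊤ : Submodule A P₂) := by
      intro k
      induction k with
      | zero => simpa using hβ
      | succ k ih =>
        rw [Function.iterate_succ_apply']
        refine hTmem _ _ (fun a ha => ?_) _ ih
        have h2 := Ideal.mem_map_of_mem σ ha
        rwa [Ideal.map_span, ← Set.image_comp, ← Function.iterate_succ'] at h2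
    refine LinearMap.ext fun x => ?_
    have h2 := h1 K x
    rw [show Ideal.span ((σ^[K]) '' (𝔠 : Set A)) = ⊥ from Ideal.span_eq_bot.2 (by rintro _ ⟨a, ha, rfl⟩; exact hK a ha),
      Submodule.bot_smul, Submodule.mem_bot] at h2
    rw [h2, LinearMap.zero_apply]
  -- the defect
  let δ : P₁ →ₗ[A] P₂ := c.constr A fun i => F₂ (α₀ (b i)) - α₀ (F₁ (b i))
  have hδ : ∀ x, δ (F₁ x) = F₂ (α₀ x) - α₀ (F₁ x) := by
    intro x
    have h1 : δ.comp F₁ = F₂.comp α₀ - α₀.comp F₁ := b.ext fun i => by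
      change δ (F₁ (b i)) = F₂ (α₀ (b i)) - α₀ (F₁ (b i))
      rw [← hc]
      exact (c.constr_basis A _ i).trans (by rw [hc])
    exact LinearMap.congr_fun h1 x
  have hδmem : ∀ x, δ x ∈ 𝔠 • (⊤ : Submodule A P₂) := by
    intro x
    rw [← c.sum_repr x, map_sum]
    refine Submodule.sum_mem _ fun i _ => ?_
    rw [map_smul, hc, hδ]
    exact Submodule.smul_mem _ _ (hα₀ _)
  let β : P₁ →ₗ[A] P₂ := ∑ k ∈ Finset.range K, T^[k] δ
  have hβ : ∀ x, β x ∈ 𝔠 • (⊤ : Submodule A P₂) := fun x => by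
    rw [LinearMap.sum_apply]
    exact Submodule.sum_mem _ fun k _ => hTmem𝔠 k δ hδmem x
  have hfix : β = T β + δ := by
    have h1 := Finset.sum_range_succ (fun k => T^[k] δ) K
    rw [Finset.sum_range_succ', hTK δ hδmem, add_zero] at h1
    simp only [Function.iterate_succ_apply', Function.iterate_zero_apply, ← map_sum] at h1
    exact h1.symm
  refine ⟨α₀ + β, ⟨fun x => ?_, fun x => ?_⟩, ?_⟩
  · rw [LinearMap.add_apply, add_sub_cancel_left]; exact hβ x
  · rw [LinearMap.add_apply, LinearMap.add_apply, map_add]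
    conv_rhs => rw [hfix, LinearMap.add_apply, hT, hδ]
    abel
  · rintro α' ⟨hα', hcomm⟩
    have hγmem : ∀ x, (α' - (α₀ + β)) x ∈ 𝔠 • (⊤ : Submodule A P₂) := fun x => by
      rw [LinearMap.sub_apply, LinearMap.add_apply, ← sub_sub]
      exact sub_mem (hα' x) (hβ x)
    have hγ : T (α' - (α₀ + β)) = α' - (α₀ + β) := by
      refine c.ext fun i => ?_
      rw [hc, hT]
      simp only [LinearMap.sub_apply, LinearMap.add_apply, map_sub, map_add, hcomm]
      conv_rhs => rw [hfix, LinearMap.add_apply, hT, hδ]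
      abel
    have h1 := hTK _ hγmem
    rw [Function.iterate_fixed hγ] at h1
    exact sub_eq_zero.1 h1

end Groth.Agent.Disp53
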