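import Groth.Agent.Disp53.Nilp
import Mathlib

/-!
Base change of displays is a display.
-/

set_option autoImplicit false
set_option linter.unusedSectionVars false
universe u v w
open W4c1extbt610 WittVector Dieu

namespace Groth.Agent.Disp53

variable {p : ℕ} [Fact p.Prime] {S R : Type u} [CommRing S] [CommRing R]
variable {P : Type v} [AddCommGroup P] [Module (WittVector p S) P]

/-- `u ⊗ x ↦ W(f) u ⊗ (1 ⊗ x)`. -/
noncomputable def theta (f : S →+* R) (gS : WittVector p S →+* WittVector p S)
    (gR : WittVector p R →+* WittVector p R)
    (hc : (WittVector.map f : WittVector p S →+* WittVector p R).comp gS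
      = gR.comp (WittVector.map f : WittVector p S →+* WittVector p R)) :
    BC gS P →ₛₗ[(WittVector.map f : WittVector p S →+* WittVector p R)]
      BC gR (BC (WittVector.map f : WittVector p S →+* WittVector p R) P) :=
  sext (WittVector.map f) hc
    { toFun := fun x => BC.tmul gR 1 (BC.tmul (WittVector.map f) 1 x)
      map_add' := fun x y => by rw [BC.tmul_add, BC.tmul_add]
      map_smul' := fun a x => by
        rw [← BC.ι_apply (WittVector.map f : WittVector p S →+* WittVector p R), LinearMap.map_smulₛₗ,
          ← BC.ι_apply gR, LinearMap.map_smulₛₗ]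
        rfl }

theorem theta_tmul (f : S →+* R) (gS : WittVector p S →+* WittVector p S)
    (gR : WittVector p R →+* WittVector p R)
    (hc : (WittVector.map f : WittVector p S →+* WittVector p R).comp gS
      = gR.comp (WittVector.map f : WittVector p S →+* WittVector p R)) (u : WittVector p S) (x : P) :
    theta f gS gR hc (BC.tmul gS u x) = BC.tmul gR (WittVector.map f u) (BC.tmul (WittVector.map f) 1 x) := by
  rw [theta, sext_tmul]
  exact (BC.tmul_eq_smul_tmul_one _ _ _).symm

theorem map_comp_frobenius_pow (f : S →+* R) (n : ℕ) :
    (WittVector.map f : WittVector p S →+* WittVector p R).comp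
        ((WittVector.frobenius : WittVector p S →+* WittVector p S) ^ n)
      = ((WittVector.frobenius : WittVector p R →+* WittVector p R) ^ n).comp (WittVector.map f) := by
  induction n with
  | zero => rfl
  | succ n ih =>
    rw [pow_succ', pow_succ', RingHom.mul_def, RingHom.mul_def, ← RingHom.comp_assoc,
      ← frobenius_comp_map f, RingHom.comp_assoc, ih, RingHom.comp_assoc]

theorem map_J_le (f : S →+* R) {w : WittVector p S} (hw : w ∈ J p S) :
    WittVector.map f w ∈ J p R := by
  obtain ⟨a, ha, b, hb, rfl⟩ := Submodule.mem_sup.1 hw
  rw [map_add]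
  refine add_mem (Submodule.mem_sup_left (map_mem_IV f ha)) (Submodule.mem_sup_right ?_)
  obtain ⟨c, rfl⟩ := Ideal.mem_span_singleton.1 hb
  rw [map_mul, map_natCast]
  exact Ideal.mul_mem_right _ _ (Ideal.mem_span_singleton_self _)

theorem isDisplay_baseChange (f : S →+* R) {D : Display3n p S P} (hD : IsDisplay D)
    {DR : Display3n p R (BC (WittVector.map f : WittVector p S →+* WittVector p R) P)}
    (hDR : IsDispBaseChange f D DR) : IsDisplay DR := by
  obtain ⟨Vs, hVs, N, hN⟩ := hD
  have hc1 : (WittVector.map f : WittVector p S →+* WittVector p R).comp WittVector.frobenius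
      = WittVector.frobenius.comp (WittVector.map f) := (frobenius_comp_map f).symm
  let Vs' := BC.lift (WittVector.map f : WittVector p S →+* WittVector p R)
    ((theta (P := P) f WittVector.frobenius WittVector.frobenius hc1).comp Vs)
  have hVs' : IsVSharp DR Vs' := by
    refine isVSharp_of_Vinv fun y => ?_
    refine forall_QR hDR (fun y => Vs' (DR.Vinv y) = BC.tmul _ 1 (y : BC _ P))
      (fun a b ha hb => by rw [map_add, map_add, ha, hb, Submodule.coe_add, BC.tmul_add]) ?_ ?_ y
    · intro w y
      rw [hDR.Vinv_tmul w y]
      simp only [Vs', BC.lift_tmul, LinearMap.comp_apply, vinv_eq hVs, theta_tmul, map_one]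
      rw [BC.smul_tmul, mul_one, BC.tmul_apply_eq, BC.smul_tmul, mul_one]
    · intro w x
      rw [hDR.Vinv_verschiebung_tmul w x]
      have h := hVs.app_smul_F 1 x
      rw [one_smul] at h
      simp only [Vs', BC.lift_tmul, LinearMap.comp_apply, h, LinearMap.map_smulₛₗ, theta_tmul, map_one,
        map_natCast]
      simp only [BC.smul_tmul, mul_one]
      rw [show BC.tmul (WittVector.map f : WittVector p S →+* WittVector p R) (verschiebung w) x
        = verschiebung w • BC.tmul (WittVector.map f : WittVector p S →+* WittVector p R) 1 x by
        rw [BC.smul_tmul, mul_one], ← BC.tmul_apply_eq, frobenius_verschiebung', mul_comm]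
  have hpow : ∀ (n : ℕ) (x : P), vSharpPow Vs' n (BC.tmul (WittVector.map f) 1 x)
      = theta f _ _ (map_comp_frobenius_pow f (n + 1)) (vSharpPow Vs n x) := by
    intro n
    induction n with
    | zero =>
      intro x
      rw [vSharpPow_zero_apply, vSharpPow_zero_apply]
      simp only [Vs', BC.lift_tmul, one_smul, LinearMap.comp_apply]
      generalize Vs x = z
      induction z using BC.induction_on (WittVector.frobenius : WittVector p S →+* WittVector p S) with
      | zero => simp only [map_zero]
      | tmul w y => simp only [theta_tmul, BC.castHom_tmul]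
      | add a b ha hb => simp only [map_add, ha, hb]
    | succ n ih =>
      intro x
      rw [vSharpPow_succ', vSharpPow_succ']
      simp only [Vs', BC.lift_tmul, one_smul, LinearMap.comp_apply]
      generalize Vs x = z
      induction z using BC.induction_on (WittVector.frobenius : WittVector p S →+* WittVector p S) with
      | zero => simp only [map_zero]
      | tmul w y =>
        rw [theta_tmul, stepMap_tmul, stepMap_tmul, ih, LinearMap.map_smulₛₗ]
        congr 1
        generalize vSharpPow Vs n y = z'
        induction z' using BC.induction_on ((WittVector.frobenius : WittVector p S →+* WittVector p S) ^ (n + 1)) with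
        | zero => simp only [map_zero]
        | tmul u t =>
          rw [theta_tmul, shift_tmul, shift_tmul, theta_tmul]
          congr 1
          exact (RingHom.congr_fun (map_comp_frobenius_pow f 1) u).symm
        | add a b ha hb => simp only [map_add, ha, hb]
      | add a b ha hb => simp only [map_add, ha, hb]
  refine ⟨Vs', hVs', N, fun z => ?_⟩
  induction z using BC.induction_on (WittVector.map f : WittVector p S →+* WittVector p R) with
  | zero => rw [map_zero]; exact zero_mem _
  | tmul c x =>
    rw [BC.tmul_eq_smul_tmul_one, map_smul, hpow]
    exact Submodule.smul_mem _ _ (semilinear_smul_top _ (fun a ha => map_J_le f ha) (hN x))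
  | add a b ha hb => rw [map_add]; exact add_mem ha hb

end Groth.Agent.Disp53
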