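import Groth.Agent.Disp53.Rigid
import Groth.Agent.Disp53.NilpBC
import Mathlib

/-!
Homomorphisms of displays along nilpotent extensions.
-/

set_option autoImplicit false
set_option linter.unusedSectionVars false
universe u v w
open WittVector W4c1extbt610 Dieu

namespace Groth.Agent.Disp53

variable {p : ℕ} [Fact p.Prime] {S : Type u} [CommRing S]
variable {P : Type v} [AddCommGroup P] [Module (WittVector p S) P]
variable {P' : Type w} [AddCommGroup P'] [Module (WittVector p S) P']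
variable {D : Display3n p S P} {D' : Display3n p S P'}

theorem isHom_of_Vinv (ψ : P →ₗ[WittVector p S] P') (hm : ∀ q : P, q ∈ D.Q → ψ q ∈ D'.Q)
    (hV : ∀ q : D.Q, ψ (D.Vinv q) = D'.Vinv ⟨ψ q, hm q q.2⟩) : IsHom D D' ψ where
  mapsTo := hm
  comm_Vinv := hV
  comm_F x := by
    rw [F_eq_Vinv D x, hV, F_eq_Vinv D' (ψ x)]
    exact Vinv_congr D' (map_smul ψ _ _)

theorem IsHom.sub' {ψ χ : P →ₗ[WittVector p S] P'} (hψ : IsHom D D' ψ) (hχ : IsHom D D' χ) :
    IsHom D D' (ψ - χ) :=
  isHom_of_Vinv _ (fun q hq => sub_mem (hψ.mapsTo q hq) (hχ.mapsTo q hq)) fun q => by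
    rw [LinearMap.sub_apply, hψ.comm_Vinv, hχ.comm_Vinv, ← map_sub]
    rfl

theorem tmul_one_eq_zero_iff {R : Type u} [CommRing R] (g : S →+* R) [Module.Finite (WittVector p S) P]
    [Module.Projective (WittVector p S) P] (x : P) :
    BC.tmul (WittVector.map g : WittVector p S →+* WittVector p R) 1 x = 0 ↔
      x ∈ RingHom.ker (WittVector.map (p := p) g) • (⊤ : Submodule (WittVector p S) P) := by
  constructor
  · intro h
    refine (mem_smul_top_iff _).2 fun φ => ?_
    have h1 := congrArg (BC.lift (WittVector.map g) ((semilinearOfRingHom (WittVector.map g)).comp φ)) h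
    rw [BC.lift_tmul, one_smul, map_zero] at h1
    exact h1
  · intro h
    have h1 := semilinear_smul_top (BC.ι (WittVector.map g : WittVector p S →+* WittVector p R) P) (J := ⊥)
      (fun a ha => Ideal.mem_bot.2 (RingHom.mem_ker.1 ha)) h
    rwa [Submodule.bot_smul, Submodule.mem_bot, BC.ι_apply] at h1

theorem isHom_baseChange {R : Type u} [CommRing R] (g : S →+* R)
    {DR : Display3n p R (BC (WittVector.map g : WittVector p S →+* WittVector p R) P)}
    {DR' : Display3n p R (BC (WittVector.map g : WittVector p S →+* WittVector p R) P')}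
    (hDR : IsDispBaseChange g D DR) (hDR' : IsDispBaseChange g D' DR')
    {ψ : P →ₗ[WittVector p S] P'} (hψ : IsHom D D' ψ) :
    IsHom DR DR' (BC.map (WittVector.map g : WittVector p S →+* WittVector p R) ψ) := by
  have key : ∀ z : DR.Q, ∃ h : BC.map _ ψ (z : BC _ P) ∈ DR'.Q,
      BC.map _ ψ (DR.Vinv z) = DR'.Vinv ⟨_, h⟩ := by
    refine forall_QR hDR _ ?_ ?_ ?_
    · rintro a b ⟨ha, ha'⟩ ⟨hb, hb'⟩
      refine ⟨by rw [Submodule.coe_add, map_add]; exact add_mem ha hb, ?_⟩
      rw [map_add, map_add, ha', hb', ← map_add]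
      exact Vinv_congr DR' (map_add _ _ _).symm
    · intro w y
      refine ⟨by simp only [BC.map_tmul]; exact tmul_mem_Q hDR' w ⟨_, hψ.mapsTo y y.2⟩, ?_⟩
      rw [hDR.Vinv_tmul w y, BC.map_tmul, hψ.comm_Vinv y]
      exact ((Vinv_congr DR' (BC.map_tmul _ _ _ _)).trans
        (hDR'.Vinv_tmul w ⟨_, hψ.mapsTo y y.2⟩ (tmul_mem_Q hDR' w ⟨_, hψ.mapsTo y y.2⟩))).symm
    · intro w x
      refine ⟨by simp only [BC.map_tmul]; exact verschiebung_tmul_mem_Q hDR' w (ψ x), ?_⟩
      rw [hDR.Vinv_verschiebung_tmul w x, BC.map_tmul, hψ.comm_F x]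
      exact ((Vinv_congr DR' (BC.map_tmul _ _ _ _)).trans
        (hDR'.Vinv_verschiebung_tmul w (ψ x) (verschiebung_tmul_mem_Q hDR' w (ψ x)))).symm
  exact isHom_of_Vinv _ (fun q hq => (key ⟨q, hq⟩).1) fun q => (key q).2

/-- The chain of ideals interpolating between `𝔞` and zero. -/
def chain (p : ℕ) (𝔞 : Ideal S) (j : ℕ) : Ideal S := 𝔞 * (𝔞 ⊔ Ideal.span {(p : S)}) ^ j

theorem chain_zero (𝔞 : Ideal S) : chain p 𝔞 0 = 𝔞 := by rw [chain, pow_zero, Ideal.one_eq_top, Ideal.mul_top]

theorem chain_succ_le (𝔞 : Ideal S) (j : ℕ) : chain p 𝔞 (j + 1) ≤ chain p 𝔞 j :=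
  Ideal.mul_mono_right (Ideal.pow_le_pow_right j.le_succ)

theorem chain_le (𝔞 : Ideal S) (j : ℕ) : chain p 𝔞 j ≤ 𝔞 := Ideal.mul_le_left.trans (le_refl 𝔞) |>.trans le_rfl

theorem mul_mem_chain_succ (𝔞 : Ideal S) (j : ℕ) {a b : S} (ha : a ∈ chain p 𝔞 j)
    (hb : b ∈ 𝔞 ⊔ Ideal.span {(p : S)}) : a * b ∈ chain p 𝔞 (j + 1) := by
  rw [chain, pow_succ, ← mul_assoc]
  exact Ideal.mul_mem_mul ha hb

theorem exists_chain_eq_bot {𝔞 : Ideal S} (h𝔞 : IsNilpotent 𝔞) (hp : IsNilpotent (p : S)) :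
    ∃ K, chain p 𝔞 K = ⊥ := by
  obtain ⟨a, ha⟩ := h𝔞
  obtain ⟨b, hb⟩ := hp
  refine ⟨a + b, eq_bot_iff.2 (Ideal.mul_le_right.trans ?_)⟩
  refine Ideal.sup_pow_add_le_pow_sup_pow.trans ?_
  rw [ha, Ideal.span_singleton_pow, hb]
  simp

/-- The quotient map between two consecutive steps. -/
noncomputable def stepQ (p : ℕ) [Fact p.Prime] (𝔞 : Ideal S) (j : ℕ) : (S ⧸ chain p 𝔞 (j + 1)) →+* (S ⧸ chain p 𝔞 j) :=
  Ideal.Quotient.factor (chain_succ_le 𝔞 j)

theorem stepQ_sq (𝔞 : Ideal S) (j : ℕ) : ∀ a ∈ RingHom.ker (stepQ p 𝔞 j), ∀ b ∈ RingHom.ker (stepQ p 𝔞 j),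
    a * b = 0 := by
  intro a ha b hb
  obtain ⟨x, rfl⟩ := Ideal.Quotient.mk_surjective a
  obtain ⟨y, rfl⟩ := Ideal.Quotient.mk_surjective b
  rw [RingHom.mem_ker, stepQ, Ideal.Quotient.factor_mk, Ideal.Quotient.eq_zero_iff_mem] at ha hb
  rw [← map_mul, Ideal.Quotient.eq_zero_iff_mem]
  exact mul_mem_chain_succ 𝔞 j ha (Submodule.mem_sup_left (chain_le 𝔞 j hb))

theorem stepQ_p (𝔞 : Ideal S) (j : ℕ) : ∀ a ∈ RingHom.ker (stepQ p 𝔞 j), (p : S ⧸ chain p 𝔞 (j + 1)) * a = 0 := by
  intro a ha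
  obtain ⟨x, rfl⟩ := Ideal.Quotient.mk_surjective a
  rw [RingHom.mem_ker, stepQ, Ideal.Quotient.factor_mk, Ideal.Quotient.eq_zero_iff_mem] at ha
  rw [← map_natCast (Ideal.Quotient.mk (chain p 𝔞 (j + 1))), ← map_mul, Ideal.Quotient.eq_zero_iff_mem, mul_comm]
  exact mul_mem_chain_succ 𝔞 j ha (Submodule.mem_sup_right (Ideal.mem_span_singleton_self _))

theorem mem_ker_map_mk {I : Ideal S} {w : WittVector p S} :
    w ∈ RingHom.ker (WittVector.map (p := p) (Ideal.Quotient.mk I)) ↔ ∀ n, w.coeff n ∈ I := by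
  rw [mem_ker_map_iff]
  exact forall_congr' fun n => by rw [RingHom.mem_ker, Ideal.Quotient.eq_zero_iff_mem]

theorem ker_map_mk_bot_smul {I : Ideal S} (hI : I = ⊥) {z : P}
    (hz : z ∈ RingHom.ker (WittVector.map (p := p) (Ideal.Quotient.mk I)) • (⊤ : Submodule (WittVector p S) P)) :
    z = 0 := by
  have h1 : RingHom.ker (WittVector.map (p := p) (Ideal.Quotient.mk I)) = ⊥ :=
    eq_bot_iff.2 fun w hw => Ideal.mem_bot.2 (WittVector.ext fun n => by
      rw [WittVector.zero_coeff]; exact Ideal.mem_bot.1 (hI ▸ mem_ker_map_mk.1 hw n))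
  rwa [h1, Submodule.bot_smul, Submodule.mem_bot] at hz

theorem ker_map_mk_congr {I J : Ideal S} (h : I = J) :
    RingHom.ker (WittVector.map (p := p) (Ideal.Quotient.mk I))
      = RingHom.ker (WittVector.map (p := p) (Ideal.Quotient.mk J)) := by
  subst h; rfl

/-- A homomorphism out of a display which vanishes modulo a nilpotent ideal is zero. -/
theorem rigid_nilpotent {𝔞 : Ideal S} (h𝔞 : IsNilpotent 𝔞) (hp : IsNilpotent (p : S))
    (hD : IsDisplay D) {ψ : P →ₗ[WittVector p S] P'} (hψ : IsHom D D' ψ)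
    (hmem : ∀ x, ψ x ∈ RingHom.ker (WittVector.map (p := p) (Ideal.Quotient.mk 𝔞)) •
      (⊤ : Submodule (WittVector p S) P')) : ψ = 0 := by
  haveI := D'.finite
  haveI := D'.projective
  have key : ∀ j x, ψ x ∈ RingHom.ker (WittVector.map (p := p) (Ideal.Quotient.mk (chain p 𝔞 j))) •
      (⊤ : Submodule (WittVector p S) P') := by
    intro j
    induction j with
    | zero => rw [chain_zero]; exact hmem
    | succ j ih =>
      let g := Ideal.Quotient.mk (chain p 𝔞 (j + 1))
      obtain ⟨D₁, hD₁⟩ := exists_isDispBaseChange g D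
      obtain ⟨D₁', hD₁'⟩ := exists_isDispBaseChange g D'
      have h0 : BC.map (WittVector.map g : WittVector p S →+* WittVector p (S ⧸ chain p 𝔞 (j + 1))) ψ = 0 := by
        refine rigid_sqzero (stepQ p 𝔞 j) (stepQ_sq 𝔞 j) (stepQ_p 𝔞 j) (isDisplay_baseChange g hD hD₁)
          (isHom_baseChange g hD₁ hD₁' hψ) fun z => ?_
        induction z using BC.induction_on (WittVector.map g : WittVector p S →+* WittVector p (S ⧸ chain p 𝔞 (j + 1))) with
        | zero => rw [map_zero]; exact zero_mem _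
        | tmul c x =>
          rw [BC.map_tmul, BC.tmul_eq_smul_tmul_one]
          refine Submodule.smul_mem _ _ ?_
          rw [← BC.ι_apply]
          refine semilinear_smul_top _ (fun a ha => ?_) (ih x)
          rw [mem_ker_map_iff] at ha ⊢
          intro n
          have := ha n
          rwa [RingHom.mem_ker, WittVector.map_coeff, stepQ, Ideal.Quotient.factor_mk, ← RingHom.mem_ker]
        | add a b ha hb => rw [map_add]; exact add_mem ha hb
      intro x
      rw [← tmul_one_eq_zero_iff, ← BC.map_tmul, h0, LinearMap.zero_apply]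
  obtain ⟨K, hK⟩ := exists_chain_eq_bot h𝔞 hp
  refine LinearMap.ext fun x => ?_
  rw [ker_map_mk_bot_smul hK (key K x), LinearMap.zero_apply]

theorem ker_map_eq_mk {R : Type u} [CommRing R] (f : S →+* R) :
    RingHom.ker (WittVector.map (p := p) f)
      = RingHom.ker (WittVector.map (p := p) (Ideal.Quotient.mk (RingHom.ker f))) := by
  ext w
  rw [mem_ker_map_iff, mem_ker_map_mk]

theorem eq_zero_of_p_smul_eq_zero (hp : IsNilpotent (p : S)) (hn : IsNilpotent (nilradical S))
    (hD : IsDisplay D) {ψ : P →ₗ[WittVector p S] P'} (hψ : IsHom D D' ψ)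
    (h : (p : WittVector p S) • ψ = 0) : ψ = 0 := by
  haveI := D'.finite
  haveI := D'.projective
  refine rigid_nilpotent hn hp hD hψ fun x => (mem_smul_top_iff _).2 fun φ => mem_ker_map_mk.2 fun n => ?_
  have h0 : (p : WittVector p S) * φ (ψ x) = 0 := by
    have := congrArg φ (LinearMap.congr_fun h x)
    rwa [LinearMap.smul_apply, map_smul, smul_eq_mul, LinearMap.zero_apply, map_zero] at this
  rw [← frobenius_verschiebung'] at h0
  have h1 := coeff_frobenius_sub_pow_mem (⊤ : Ideal S) (w := verschiebung (φ (ψ x))) (fun _ => trivial) (n + 1)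
  rw [h0, WittVector.zero_coeff, verschiebung_coeff_succ, zero_sub, neg_mem_iff, Ideal.mul_top] at h1
  have hle : Ideal.span {(p : S)} ≤ nilradical S := (Ideal.span_singleton_le_iff_mem _).2 hp
  exact (Ideal.radical_isRadical (⊥ : Ideal S)) ⟨p, hle h1⟩

/-- Up to a power of `p`, homomorphisms lift along nilpotent extensions. -/
theorem exists_lift_hom {R : Type u} [CommRing R] (f : S →+* R) (hf : Function.Surjective f)
    (hker : IsNilpotent (RingHom.ker f)) (hp : IsNilpotent (p : S))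
    {DR : Display3n p R (BC (WittVector.map f : WittVector p S →+* WittVector p R) P)}
    {DR' : Display3n p R (BC (WittVector.map f : WittVector p S →+* WittVector p R) P')}
    (hDR : IsDispBaseChange f D DR) (hDR' : IsDispBaseChange f D' DR')
    {χ : BC (WittVector.map f : WittVector p S →+* WittVector p R) P →ₗ[WittVector p R]
      BC (WittVector.map f : WittVector p S →+* WittVector p R) P'}
    (hχ : IsHom DR DR' χ) :
    ∃ (n : ℕ) (ψ : P →ₗ[WittVector p S] P'), IsHom D D' ψ ∧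
      BC.map (WittVector.map f : WittVector p S →+* WittVector p R) ψ = ((p : WittVector p R) ^ n) • χ := by
  haveI := D.finite
  haveI := D.projective
  haveI := D'.finite
  haveI := D'.projective
  have hWf : Function.Surjective (WittVector.map f : WittVector p S →+* WittVector p R) :=
    WittVector.map_surjective f hf
  have hι : Function.Surjective (BC.ι (WittVector.map f : WittVector p S →+* WittVector p R) P') := by
    intro z
    induction z using BC.induction_on (WittVector.map f : WittVector p S →+* WittVector p R) with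
    | zero => exact ⟨0, map_zero _⟩
    | tmul c x =>
      obtain ⟨c', rfl⟩ := hWf c
      exact ⟨c' • x, by rw [LinearMap.map_smulₛₗ, BC.ι_apply, BC.smul_tmul, mul_one]⟩
    | add a b ha hb =>
      obtain ⟨a', rfl⟩ := ha
      obtain ⟨b', rfl⟩ := hb
      exact ⟨a' + b', map_add _ _ _⟩
  obtain ⟨m, φ, e, he⟩ := exists_dualBasis (A := WittVector p S) (P := P)
  choose y hy using fun i => hι (χ (BC.tmul _ 1 (e i)))
  let ψ₀ : P →ₗ[WittVector p S] P' := ∑ i, (φ i).smulRight (y i)
  have hψ₀ : ∀ x, BC.tmul (WittVector.map f : WittVector p S →+* WittVector p R) 1 (ψ₀ x) = χ (BC.tmul _ 1 x) := by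
    intro x
    conv_rhs => rw [he x]
    simp only [ψ₀, LinearMap.sum_apply, LinearMap.smulRight_apply, ← BC.ι_apply, map_sum, LinearMap.map_smulₛₗ,
      hy, RingHom.id_apply]
  set 𝔞 := RingHom.ker f with h𝔞
  let W : ℕ → Submodule (WittVector p S) P' := fun j =>
    RingHom.ker (WittVector.map (p := p) (Ideal.Quotient.mk (chain p 𝔞 j))) • ⊤
  have hW0 : ∀ z : P', BC.tmul (WittVector.map f : WittVector p S →+* WittVector p R) 1 z = 0 → z ∈ W 0 := by
    intro z hz
    rw [tmul_one_eq_zero_iff, ker_map_eq_mk] at hz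
    simp only [W]; rw [ker_map_mk_congr (chain_zero 𝔞)]; exact hz
  have hWsucc : ∀ j z, z ∈ W j → (p : WittVector p S) • z ∈ W (j + 1) := by
    intro j z hz
    refine Submodule.smul_induction_on hz (fun a ha y _ => ?_) (fun a b ha hb => ?_)
    · rw [smul_smul]
      refine Submodule.smul_mem_smul ?_ trivial
      have h1 := natCast_mul_ker_eq_zero (p := p) (stepQ p 𝔞 j) (stepQ_sq 𝔞 j) (stepQ_p 𝔞 j)
        (a := WittVector.map (Ideal.Quotient.mk (chain p 𝔞 (j + 1))) a) (by
          rw [mem_ker_map_iff]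
          intro n
          rw [RingHom.mem_ker, WittVector.map_coeff, stepQ, Ideal.Quotient.factor_mk, Ideal.Quotient.eq_zero_iff_mem]
          exact mem_ker_map_mk.1 ha n)
      rwa [RingHom.mem_ker, map_mul, map_natCast]
    · rw [smul_add]; exact add_mem ha hb
  have key : ∀ j (y : D.Q), ∃ q : D'.Q,
      ((p : WittVector p S) ^ j • ψ₀) (y : P) - (q : P') ∈ W j ∧
      D'.Vinv q - ((p : WittVector p S) ^ j • ψ₀) (D.Vinv y) ∈ W j := by
    intro j
    induction j with
    | zero =>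
      intro y
      have hQ' : ∀ z : DR'.Q, ∃ q : D'.Q,
          BC.tmul (WittVector.map f : WittVector p S →+* WittVector p R) 1 (q : P')
            = (z : BC (WittVector.map f : WittVector p S →+* WittVector p R) P') := by
        refine forall_QR hDR' _ ?_ ?_ ?_
        · rintro a b ⟨qa, ha⟩ ⟨qb, hb⟩
          exact ⟨qa + qb, by rw [Submodule.coe_add, Submodule.coe_add, BC.tmul_add, ha, hb]⟩
        · intro w q
          obtain ⟨w', rfl⟩ := hWf w
          refine ⟨w' • q, ?_⟩
          rw [Submodule.coe_smul, ← BC.ι_apply, LinearMap.map_smulₛₗ, BC.ι_apply, BC.smul_tmul, mul_one]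
        · intro w x
          obtain ⟨w', rfl⟩ := hWf w
          refine ⟨⟨_, smul_mem_Q D' (verschiebung_mem_IV p S w') x⟩, ?_⟩
          rw [← BC.ι_apply, LinearMap.map_smulₛₗ, BC.ι_apply, BC.smul_tmul, mul_one, WittVector.map_verschiebung]
      have hy1 := tmul_mem_Q hDR 1 y
      obtain ⟨q, hq⟩ := hQ' ⟨_, hχ.mapsTo _ hy1⟩
      refine ⟨q, hW0 _ ?_, hW0 _ ?_⟩
      · rw [pow_zero, one_smul, ← BC.ι_apply, map_sub, BC.ι_apply, BC.ι_apply, hψ₀, hq, sub_self]
      · rw [pow_zero, one_smul, ← BC.ι_apply, map_sub, BC.ι_apply, BC.ι_apply, hψ₀, sub_eq_zero]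
        have h1 := hDR'.Vinv_tmul 1 q (tmul_mem_Q hDR' 1 q)
        have h2 := hDR.Vinv_tmul 1 y hy1
        rw [map_one] at h1 h2
        rw [← h1, ← h2, hχ.comm_Vinv]
        exact Vinv_congr DR' hq
    | succ j ih =>
      intro y
      obtain ⟨q, hq1, hq2⟩ := ih y
      refine ⟨(p : WittVector p S) • q, ?_, ?_⟩
      · have := hWsucc j _ hq1
        rwa [smul_sub, ← LinearMap.smul_apply, smul_smul, ← pow_succ', ← Submodule.coe_smul] at this
      · have := hWsucc j _ hq2
        rw [LinearMap.map_smulₛₗ, map_natCast]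
        rwa [smul_sub, LinearMap.smul_apply, smul_smul, ← pow_succ', ← LinearMap.smul_apply] at this
  obtain ⟨K, hK⟩ := exists_chain_eq_bot (p := p) hker hp
  have hWK : ∀ z, z ∈ W K → z = 0 := fun z hz => ker_map_mk_bot_smul hK hz
  refine ⟨K, (p : WittVector p S) ^ K • ψ₀, ?_, ?_⟩
  · refine isHom_of_Vinv _ (fun q hq => ?_) fun q => ?_
    · obtain ⟨q', h1, -⟩ := key K ⟨q, hq⟩
      rw [sub_eq_zero.1 (hWK _ h1)]
      exact q'.2
    · obtain ⟨q', h1, h2⟩ := key K q
      exact (sub_eq_zero.1 (hWK _ h2)).symm.trans (Vinv_congr D' (sub_eq_zero.1 (hWK _ h1)).symm)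
  · refine BC.ext _ fun x => ?_
    rw [BC.map_tmul, LinearMap.smul_apply, LinearMap.smul_apply, ← BC.ι_apply, LinearMap.map_smulₛₗ, map_pow,
      map_natCast, BC.ι_apply, hψ₀]

end Groth.Agent.Disp53
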