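import Groth.Agent.Disp53.BaseChange
import Mathlib

/-!
Iterates of `V^#` and the nilpotence condition.
-/

set_option autoImplicit false
set_option linter.unusedSectionVars false
universe u v w
open W4c1extbt610 WittVector Dieu

namespace Groth.Agent.Disp53

variable {p : ℕ} [Fact p.Prime] {R : Type u} [CommRing R]
variable {P : Type v} [AddCommGroup P] [Module (WittVector p R) P]


/-- `u ⊗ x ↦ σ^m u ⊗ x`. -/
noncomputable def shift (m : ℕ) {a b : ℕ} (e : ((WittVector.frobenius : WittVector p R →+* WittVector p R) ^ m).comp ((WittVector.frobenius : WittVector p R →+* WittVector p R) ^ a) = (WittVector.frobenius : WittVector p R →+* WittVector p R) ^ b) :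
    BC ((WittVector.frobenius : WittVector p R →+* WittVector p R) ^ a) P →ₛₗ[(WittVector.frobenius : WittVector p R →+* WittVector p R) ^ m] BC ((WittVector.frobenius : WittVector p R →+* WittVector p R) ^ b) P :=
  sext ((WittVector.frobenius : WittVector p R →+* WittVector p R) ^ m) e (BC.ι ((WittVector.frobenius : WittVector p R →+* WittVector p R) ^ b) P)

theorem shift_tmul (m : ℕ) {a b : ℕ} (e : ((WittVector.frobenius : WittVector p R →+* WittVector p R) ^ m).comp ((WittVector.frobenius : WittVector p R →+* WittVector p R) ^ a) = (WittVector.frobenius : WittVector p R →+* WittVector p R) ^ b) (u : WittVector p R) (x : P) :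
    shift m e (BC.tmul ((WittVector.frobenius : WittVector p R →+* WittVector p R) ^ a) u x) = BC.tmul ((WittVector.frobenius : WittVector p R →+* WittVector p R) ^ b) (((WittVector.frobenius : WittVector p R →+* WittVector p R) ^ m) u) x := by
  rw [shift, sext_tmul, BC.ι_apply, BC.smul_tmul, mul_one]

variable (Vs : P →ₗ[WittVector p R] BC (WittVector.frobenius : WittVector p R →+* WittVector p R) P)

/-- The step map of the recursion. -/
noncomputable def stepMap (n : ℕ) : BC (WittVector.frobenius : WittVector p R →+* WittVector p R) P →ₗ[WittVector p R] BC ((WittVector.frobenius : WittVector p R →+* WittVector p R) ^ (n + 1 + 1)) P :=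
  (BC.castHom (comp_pow_eq_pow_succ (WittVector.frobenius : WittVector p R →+* WittVector p R) (n + 1))).comp
    ((BC.lift (WittVector.frobenius : WittVector p R →+* WittVector p R) (BC.push ((WittVector.frobenius : WittVector p R →+* WittVector p R) ^ (n + 1)) (WittVector.frobenius : WittVector p R →+* WittVector p R))).comp (BC.map (WittVector.frobenius : WittVector p R →+* WittVector p R) (vSharpPow Vs n)))

theorem vSharpPow_succ' (n : ℕ) (x : P) : vSharpPow Vs (n + 1) x = stepMap Vs n (Vs x) :=
  vSharpPow_succ_apply Vs n x

theorem stepMap_tmul (n : ℕ) (w : WittVector p R) (y : P) :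
    stepMap Vs n (BC.tmul (WittVector.frobenius : WittVector p R →+* WittVector p R) w y) = w • shift 1 (by rw [pow_one]; exact comp_pow_eq_pow_succ (WittVector.frobenius : WittVector p R →+* WittVector p R) (n + 1))
      (vSharpPow Vs n y) := by
  simp only [stepMap, LinearMap.comp_apply, BC.map_tmul, BC.lift_tmul, map_smul]
  congr 1
  generalize vSharpPow Vs n y = z
  induction z using BC.induction_on ((WittVector.frobenius : WittVector p R →+* WittVector p R) ^ (n + 1)) with
  | zero => simp only [map_zero]
  | tmul u x =>
    rw [BC.push_tmul, BC.castHom_tmul, shift_tmul]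
    simp
  | add a b ha hb => simp only [map_add, ha, hb]

theorem vSharpPow_zero_tmul {x : P} {w : WittVector p R} {y : P} (h : Vs x = BC.tmul (WittVector.frobenius : WittVector p R →+* WittVector p R) w y) :
    vSharpPow Vs 0 x = BC.tmul ((WittVector.frobenius : WittVector p R →+* WittVector p R) ^ (0 + 1)) w y := by
  rw [vSharpPow_zero_apply, h, BC.castHom_tmul]

theorem pow_comp_pow (a b : ℕ) : ((WittVector.frobenius : WittVector p R →+* WittVector p R) ^ a).comp ((WittVector.frobenius : WittVector p R →+* WittVector p R) ^ b) = (WittVector.frobenius : WittVector p R →+* WittVector p R) ^ (a + b) := by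
  rw [pow_add]; rfl

/-- The composition map `w ⊗ y ↦ w • σ^(m+1)(V^((N+1)#) y)`. -/
noncomputable def compMap (N m : ℕ) {b : ℕ}
    (e : ((WittVector.frobenius : WittVector p R →+* WittVector p R) ^ (m + 1)).comp ((WittVector.frobenius : WittVector p R →+* WittVector p R) ^ (N + 1)) = (WittVector.frobenius : WittVector p R →+* WittVector p R) ^ (b + 1)) :
    BC ((WittVector.frobenius : WittVector p R →+* WittVector p R) ^ (m + 1)) P →ₗ[WittVector p R] BC ((WittVector.frobenius : WittVector p R →+* WittVector p R) ^ (b + 1)) P :=
  BC.lift ((WittVector.frobenius : WittVector p R →+* WittVector p R) ^ (m + 1))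
    { toFun := fun y => shift (m + 1) e (vSharpPow Vs N y)
      map_add' := fun a b => by rw [map_add, map_add]
      map_smul' := fun a y => by rw [map_smul, LinearMap.map_smulₛₗ] }

theorem compMap_tmul (N m : ℕ) {b : ℕ}
    (e : ((WittVector.frobenius : WittVector p R →+* WittVector p R) ^ (m + 1)).comp ((WittVector.frobenius : WittVector p R →+* WittVector p R) ^ (N + 1)) = (WittVector.frobenius : WittVector p R →+* WittVector p R) ^ (b + 1)) (w : WittVector p R) (y : P) :
    compMap Vs N m e (BC.tmul ((WittVector.frobenius : WittVector p R →+* WittVector p R) ^ (m + 1)) w y) = w • shift (m + 1) e (vSharpPow Vs N y) :=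
  BC.lift_tmul _ _ _ _

/-- Composition of the iterates. -/
theorem vSharpPow_comp (N : ℕ) : ∀ (m b : ℕ), b = N + m + 1 →
    ∀ (e : ((WittVector.frobenius : WittVector p R →+* WittVector p R) ^ (m + 1)).comp ((WittVector.frobenius : WittVector p R →+* WittVector p R) ^ (N + 1)) = (WittVector.frobenius : WittVector p R →+* WittVector p R) ^ (b + 1)) (x : P),
      vSharpPow Vs b x = compMap Vs N m e (vSharpPow Vs m x) := by
  intro m
  induction m with
  | zero =>
    intro b hb e x
    obtain rfl : b = N + 1 := by omega
    rw [vSharpPow_zero_apply, vSharpPow_succ']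
    generalize Vs x = z
    induction z using BC.induction_on (WittVector.frobenius : WittVector p R →+* WittVector p R) with
    | zero => simp only [map_zero]
    | tmul w y =>
      rw [stepMap_tmul, BC.castHom_tmul, compMap_tmul]
    | add a b ha hb => simp only [map_add, ha, hb]
  | succ m ih =>
    intro b hb e x
    obtain rfl : b = N + m + 1 + 1 := by omega
    have e' : ((WittVector.frobenius : WittVector p R →+* WittVector p R) ^ (m + 1)).comp ((WittVector.frobenius : WittVector p R →+* WittVector p R) ^ (N + 1)) = (WittVector.frobenius : WittVector p R →+* WittVector p R) ^ (N + m + 1 + 1) := by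
      rw [pow_comp_pow]; congr 1; omega
    rw [vSharpPow_succ' Vs m, vSharpPow_succ']
    generalize Vs x = z
    induction z using BC.induction_on (WittVector.frobenius : WittVector p R →+* WittVector p R) with
    | zero => simp only [map_zero]
    | tmul w y =>
      rw [stepMap_tmul, stepMap_tmul, map_smul, ih _ rfl e']
      congr 1
      generalize vSharpPow Vs m y = z
      induction z using BC.induction_on ((WittVector.frobenius : WittVector p R →+* WittVector p R) ^ (m + 1)) with
      | zero => simp only [map_zero]
      | tmul u t =>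
        rw [compMap_tmul, LinearMap.map_smulₛₗ, shift_tmul, compMap_tmul]
        congr 1
        generalize vSharpPow Vs N t = z'
        induction z' using BC.induction_on ((WittVector.frobenius : WittVector p R →+* WittVector p R) ^ (N + 1)) with
        | zero => simp only [map_zero]
        | tmul u' t' =>
          rw [shift_tmul, shift_tmul, shift_tmul]
          congr 1
          rw [← RingHom.comp_apply, pow_comp_pow, Nat.add_comm 1]
        | add a b ha hb => simp only [map_add, ha, hb]
      | add a b ha hb => simp only [map_add, ha, hb]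
    | add a b ha hb => simp only [map_add, ha, hb]

variable (p R) in
/-- `I_R + p W`. -/
noncomputable def J : Ideal (WittVector p R) := IV p R ⊔ Ideal.span {(p : WittVector p R)}

theorem frobenius_mem_J {w : WittVector p R} (hw : w ∈ J p R) : (WittVector.frobenius : WittVector p R →+* WittVector p R) w ∈ J p R := by
  obtain ⟨a, ha, b, hb, rfl⟩ := Submodule.mem_sup.1 hw
  rw [map_add]
  refine add_mem (Submodule.mem_sup_right ?_) (Submodule.mem_sup_right ?_)
  · obtain ⟨u, hu, -⟩ := frobenius_mem_span_p ha
    rw [hu]
    exact Ideal.mul_mem_right _ _ (Ideal.mem_span_singleton_self _)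
  · obtain ⟨c, rfl⟩ := Ideal.mem_span_singleton.1 hb
    rw [map_mul, map_natCast]
    exact Ideal.mul_mem_right _ _ (Ideal.mem_span_singleton_self _)

theorem frobenius_pow_mem_J_pow (k m : ℕ) {w : WittVector p R} (hw : w ∈ J p R ^ k) :
    ((WittVector.frobenius : WittVector p R →+* WittVector p R) ^ m) w ∈ J p R ^ k := by
  induction m with
  | zero => simpa using hw
  | succ m ih =>
    rw [pow_succ', RingHom.coe_mul, Function.comp_apply]
    have h : (J p R ^ k).map (WittVector.frobenius : WittVector p R →+* WittVector p R) ≤ J p R ^ k := by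
      rw [Ideal.map_pow]
      exact Ideal.pow_right_mono (Ideal.map_le_iff_le_comap.2 fun z hz => Ideal.mem_comap.2 (frobenius_mem_J (R := R) hz)) k
    exact h (Ideal.mem_map_of_mem _ ih)

theorem vSharpPow_mem_pow (N : ℕ)
    (h : ∀ x, vSharpPow Vs N x ∈ J p R • (⊤ : Submodule (WittVector p R) (BC ((WittVector.frobenius : WittVector p R →+* WittVector p R) ^ (N + 1)) P)))
    (k : ℕ) : ∀ b, b = (N + 1) * k + N → ∀ x, vSharpPow Vs b x ∈
      (J p R ^ (k + 1)) • (⊤ : Submodule (WittVector p R) (BC ((WittVector.frobenius : WittVector p R →+* WittVector p R) ^ (b + 1)) P)) := by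
  induction k with
  | zero =>
    intro b hb
    obtain rfl : b = N := by omega
    rw [zero_add, pow_one]
    exact h
  | succ k ih =>
    intro b hb x
    set A := (N + 1) * k + N with hA
    have e : ((WittVector.frobenius : WittVector p R →+* WittVector p R) ^ (N + 1)).comp ((WittVector.frobenius : WittVector p R →+* WittVector p R) ^ (A + 1)) = (WittVector.frobenius : WittVector p R →+* WittVector p R) ^ (b + 1) := by
      rw [pow_comp_pow]; congr 1; rw [hb, hA]; ring
    have hcx := vSharpPow_comp Vs A N b (by rw [hb, hA]; ring) e x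
    have hM : ∀ z : BC ((WittVector.frobenius : WittVector p R →+* WittVector p R) ^ (N + 1)) P, compMap Vs A N e z ∈ (J p R ^ (k + 1)) •
        (⊤ : Submodule (WittVector p R) (BC ((WittVector.frobenius : WittVector p R →+* WittVector p R) ^ (b + 1)) P)) := by
      intro z
      induction z using BC.induction_on ((WittVector.frobenius : WittVector p R →+* WittVector p R) ^ (N + 1)) with
      | zero => rw [map_zero]; exact zero_mem _
      | tmul w y =>
        rw [compMap_tmul]
        exact Submodule.smul_mem _ _ (semilinear_smul_top _ (fun a ha => frobenius_pow_mem_J_pow _ _ ha) (ih A rfl y))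
      | add a b ha hb => rw [map_add]; exact add_mem ha hb
    rw [hcx, pow_succ' (J p R) (k + 1), Submodule.mul_smul]
    have hz := h x
    generalize vSharpPow Vs N x = z at hz
    refine Submodule.smul_induction_on hz (fun a ha z _ => ?_) (fun a b ha hb => ?_)
    · rw [map_smul]
      exact Submodule.smul_mem_smul ha (hM z)
    · rw [map_add]; exact add_mem ha hb

theorem sup_pow_succ_le {A : Type u} [CommRing A] (I P : Ideal A) (n : ℕ) :
    (I ⊔ P) ^ (n + 1) ≤ I ⊔ P ^ (n + 1) := by
  induction n with
  | zero => rw [zero_add, pow_one, pow_one]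
  | succ n ih =>
    rw [pow_succ (I ⊔ P) (n + 1), pow_succ P (n + 1)]
    refine (Ideal.mul_mono ih le_rfl).trans ?_
    rw [Ideal.mul_sup, Ideal.sup_mul, Ideal.sup_mul]
    refine sup_le (sup_le ?_ ?_) (sup_le ?_ le_sup_right) <;> refine le_trans ?_ le_sup_left
    · exact Ideal.mul_le_right
    · exact Ideal.mul_le_right
    · exact Ideal.mul_le_left

theorem J_pow_le_IV {e : ℕ} (he : (p : R) ^ e = 0) : J p R ^ (e + 1) ≤ IV p R := by
  have h : ∀ n, J p R ^ (n + 1) ≤ IV p R ⊔ Ideal.span {(p : WittVector p R)} ^ (n + 1) :=
    fun n => sup_pow_succ_le _ _ n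
  refine (h e).trans (sup_le le_rfl ?_)
  rw [Ideal.span_singleton_pow, Ideal.span_singleton_le_iff_mem, mem_IV_iff]
  change constantCoeff ((p : WittVector p R) ^ (e + 1)) = 0
  rw [map_pow, map_natCast, pow_succ, he, zero_mul]

theorem J_pow_le_ker_truncate (hp : IsNilpotent (p : R)) (n : ℕ) :
    ∃ K, J p R ^ (K + 1) ≤ RingHom.ker (truncate (p := p) (R := R) n) := by
  obtain ⟨e, he⟩ := hp
  have hJ := J_pow_le_IV he
  refine ⟨(e + 1) * (e * n + 1), ?_⟩
  refine (Ideal.pow_le_pow_right (Nat.le_succ _)).trans ?_
  rw [pow_mul]
  refine (Ideal.pow_right_mono hJ _).trans ?_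
  rw [IV_eq_ker, CAlg8.Witt.ker_constantCoeff_pow_succ]
  refine Ideal.mul_le_left.trans ?_
  rw [Ideal.span_singleton_le_iff_mem]
  exact CAlg8.Witt.natCast_pow_mem_ker_truncate he n

theorem exists_vSharpPow_mem_ker_truncate (hp : IsNilpotent (p : R)) (hnil : IsVNilpotent Vs) (n : ℕ) :
    ∃ N : ℕ, ∀ x : P, vSharpPow Vs N x ∈ (RingHom.ker (truncate (p := p) (R := R) n)) •
        (⊤ : Submodule (WittVector p R) (BC ((WittVector.frobenius : WittVector p R →+* WittVector p R) ^ (N + 1)) P)) := by
  obtain ⟨N, hN⟩ := hnil
  obtain ⟨K, hK⟩ := J_pow_le_ker_truncate hp n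
  exact ⟨(N + 1) * K + N, fun x => Submodule.smul_mono hK le_rfl (vSharpPow_mem_pow Vs N hN K _ rfl x)⟩

end Groth.Agent.Disp53
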