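import Groth.Agent.Disp53.Nilp
import Mathlib

/-!
The nilpotence condition for Dieudonné modules.
-/

set_option autoImplicit false
set_option linter.unusedSectionVars false
universe u v w
open W4c1extbt610 WittVector Dieu

namespace Groth.Agent.Disp53

variable {p : ℕ} [Fact p.Prime] {k : Type u} [CommRing k] [CharP k p] [PerfectRing k p]
variable {M : Type v} [AddCommGroup M] [Module (WittVector p k) M]

theorem symm_pow_comp_pow (n : ℕ) :
    (((WittVector.frobeniusEquiv p k).symm : WittVector p k →+* WittVector p k) ^ n).comp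
      ((WittVector.frobenius : WittVector p k →+* WittVector p k) ^ n) = RingHom.id _ := by
  refine RingHom.ext fun w => ?_
  rw [RingHom.comp_apply, RingHom.coe_pow, RingHom.coe_pow, RingHom.id_apply]
  exact (Function.LeftInverse.iterate (fun z => frobenius_symm_apply' z) n) w

theorem J_eq_span_p : J p k = Ideal.span {(p : WittVector p k)} := by
  rw [J, IV_eq_span_p, sup_idem]

theorem isDisplay_iff_vTopNilp [Module.Finite (WittVector p k) M] [Module.Projective (WittVector p k) M]
    (Dm : DieuMod p k M) (D : Display3n p k M) (hQ : ∀ x : M, x ∈ D.Q ↔ x ∈ Set.range Dm.V)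
    (hV : ∀ (m : M) (h : Dm.V m ∈ D.Q), D.Vinv ⟨Dm.V m, h⟩ = m) :
    IsDisplay D ↔ Dm.VTopNilp := by
  have hσ : ∀ (a : WittVector p k) (m : M),
      BC.tmul (WittVector.frobenius : WittVector p k →+* WittVector p k) 1 (Dm.V (a • m))
        = a • BC.tmul (WittVector.frobenius : WittVector p k →+* WittVector p k) 1 (Dm.V m) := fun a m => by
    rw [LinearMap.map_smulₛₗ, RingEquiv.coe_toRingHom, ← BC.tmul_apply_eq, frobenius_symm_apply,
      BC.smul_tmul, mul_one]
  let Vs₀ : M →ₗ[WittVector p k] BC (WittVector.frobenius : WittVector p k →+* WittVector p k) M :=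
    { toFun := fun m => BC.tmul _ 1 (Dm.V m)
      map_add' := fun a b => by rw [map_add, BC.tmul_add]
      map_smul' := hσ }
  have h0 : IsVSharp D Vs₀ := by
    refine isVSharp_of_Vinv fun y => ?_
    obtain ⟨m, hm⟩ := (hQ y).1 y.2
    have h : D.Vinv y = m := by
      rw [← hV m ((hQ _).2 ⟨m, rfl⟩)]
      exact Vinv_congr D hm.symm
    rw [h, ← hm]
    rfl
  have hpow : ∀ (n : ℕ) (m : M), vSharpPow Vs₀ n m
      = BC.tmul _ 1 ((⇑Dm.V)^[n + 1] m) := by
    intro n
    induction n with
    | zero => intro m; rw [vSharpPow_zero_apply]; simp [Vs₀, BC.castHom_tmul]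
    | succ n ih =>
      intro m
      rw [vSharpPow_succ']
      simp only [Vs₀, LinearMap.coe_mk, AddHom.coe_mk]
      rw [stepMap_tmul, one_smul, ih, shift_tmul, map_one, ← Function.iterate_succ_apply]
  have hmem : ∀ (n : ℕ) (z : M),
      BC.tmul ((WittVector.frobenius : WittVector p k →+* WittVector p k) ^ n) 1 z ∈
          (J p k) • (⊤ : Submodule (WittVector p k) _) ↔
        z ∈ Ideal.span {(p : WittVector p k)} • (⊤ : Submodule (WittVector p k) M) := by
    intro n z
    rw [J_eq_span_p]
    constructor
    · intro h
      have h1 := semilinear_smul_top (J := Ideal.span {(p : WittVector p k)})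
        (sext (((WittVector.frobeniusEquiv p k).symm : WittVector p k →+* WittVector p k) ^ n)
          (symm_pow_comp_pow n) (LinearMap.id : M →ₗ[WittVector p k] M)) (fun a ha => by
            obtain ⟨c, rfl⟩ := Ideal.mem_span_singleton.1 ha
            rw [map_mul, map_natCast]
            exact Ideal.mul_mem_right _ _ (Ideal.mem_span_singleton_self _)) h
      rwa [sext_tmul, map_one, one_smul] at h1
    · intro h
      rw [← BC.ι_apply]
      exact semilinear_smul_top _ (fun a ha => by
            obtain ⟨c, rfl⟩ := Ideal.mem_span_singleton.1 ha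
            rw [map_mul, map_natCast]
            exact Ideal.mul_mem_right _ _ (Ideal.mem_span_singleton_self _)) h
  constructor
  · rintro ⟨Vs, hVs, n, hn⟩
    obtain rfl := vSharp_unique hVs h0
    intro e
    refine ⟨(n + 1) * e, ?_⟩
    have h1 : ∀ m, (⇑Dm.V)^[n + 1] m ∈ Ideal.span {(p : WittVector p k)} • (⊤ : Submodule (WittVector p k) M) :=
      fun m => (hmem (n + 1) _).1 (hpow n m ▸ hn m)
    induction e with
    | zero => intro m; rw [pow_zero, Ideal.one_eq_top, Submodule.top_smul]; trivial
    | succ e ih =>
      intro m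
      rw [mul_add, mul_one, Function.iterate_add_apply, pow_succ, Submodule.mul_smul]
      have hz := h1 m
      generalize (⇑Dm.V)^[n + 1] m = z at hz
      refine Submodule.smul_induction_on hz (fun a ha x _ => ?_) (fun a b ha hb => ?_)
      · obtain ⟨c, rfl⟩ := Ideal.mem_span_singleton.1 ha
        have e1 : ∀ (j : ℕ) (y : M),
            (⇑Dm.V)^[j] ((p : WittVector p k) • y) = (p : WittVector p k) • (⇑Dm.V)^[j] y := by
          intro j
          induction j with
          | zero => intro y; rfl
          | succ j ij =>
            intro y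
            rw [Function.iterate_succ_apply', ij, LinearMap.map_smulₛₗ, map_natCast,
              Function.iterate_succ_apply']
        rw [mul_smul, e1, ← Submodule.mul_smul, mul_comm, Submodule.mul_smul]
        exact Submodule.smul_mem_smul (Ideal.mem_span_singleton_self _) (ih _)
      · rw [iterate_map_add]; exact add_mem ha hb
  · intro h
    obtain ⟨n, hn⟩ := h 1
    simp only [pow_one] at hn
    refine ⟨Vs₀, h0, n, fun m => ?_⟩
    rw [hpow, Function.iterate_succ_apply]
    exact (hmem (n + 1) _).2 (hn _)

end Groth.Agent.Disp53
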