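import Groth.Agent.Disp53.Nilp
import Mathlib

/-!
The matrix form of the nilpotence condition.
-/

set_option autoImplicit false
set_option linter.unusedSectionVars false
universe u v w
open W4c1extbt610 WittVector Dieu

namespace Groth.Agent.Disp53

variable {p : ℕ} [Fact p.Prime] {R : Type u} [CommRing R]
variable {P : Type v} [AddCommGroup P] [Module (WittVector p R) P] {ι : Type w}


/-- Membership in `I • ⊤` by coordinates. -/
theorem mem_smul_top_basis [Fintype ι] {A : Type u} [CommRing A] {M : Type v} [AddCommGroup M] [Module A M]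
    (b : Module.Basis ι A M) (I : Ideal A) {x : M} :
    x ∈ I • (⊤ : Submodule A M) ↔ ∀ i, b.repr x i ∈ I := by
  constructor
  · intro hx i
    refine Submodule.smul_induction_on hx (fun a ha z _ => ?_) (fun a b' ha hb => ?_)
    · rw [map_smul, Finsupp.smul_apply, smul_eq_mul]; exact Ideal.mul_mem_right _ _ ha
    · rw [map_add, Finsupp.add_apply]; exact add_mem ha hb
  · intro h
    rw [← b.sum_repr x]
    exact Submodule.sum_mem _ fun i _ => Submodule.smul_mem_smul (h i) trivial

theorem bcBasis_repr_shift (b : Module.Basis ι (WittVector p R) P) (m : ℕ) {a c : ℕ}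
    (e : ((WittVector.frobenius : WittVector p R →+* WittVector p R) ^ m).comp
      ((WittVector.frobenius : WittVector p R →+* WittVector p R) ^ a)
        = (WittVector.frobenius : WittVector p R →+* WittVector p R) ^ c)
    (z : BC ((WittVector.frobenius : WittVector p R →+* WittVector p R) ^ a) P) (i : ι) :
    (bcBasis _ b).repr (shift m e z) i
      = ((WittVector.frobenius : WittVector p R →+* WittVector p R) ^ m) ((bcBasis _ b).repr z i) := by
  induction z using BC.induction_on ((WittVector.frobenius : WittVector p R →+* WittVector p R) ^ a) with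
  | zero => simp
  | tmul u x => rw [shift_tmul, bcBasis_repr_tmul, bcBasis_repr_tmul, map_mul, ← RingHom.congr_fun e]; rfl
  | add x y hx hy => simp only [map_add, Finsupp.add_apply, hx, hy]

theorem mk_constantCoeff_eq_zero_iff {w : WittVector p R} :
    Ideal.Quotient.mk (Ideal.span {(p : R)}) (constantCoeff w) = 0 ↔ w ∈ J p R := by
  rw [Ideal.Quotient.eq_zero_iff_mem, Ideal.mem_span_singleton]
  constructor
  · rintro ⟨c, hc⟩
    rw [← sub_add_cancel w ((p : WittVector p R) * teichmuller p c)]
    refine Submodule.add_mem_sup ?_ (Ideal.mul_mem_right _ _ (Ideal.mem_span_singleton_self _))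
    rw [IV_eq_ker, RingHom.mem_ker, map_sub, map_mul, map_natCast, hc,
      show constantCoeff (teichmuller p c) = c from teichmuller_coeff_zero p c, sub_self]
  · intro h
    obtain ⟨a, ha, b, hb, rfl⟩ := Submodule.mem_sup.1 h
    obtain ⟨c, rfl⟩ := Ideal.mem_span_singleton.1 hb
    rw [IV_eq_ker, RingHom.mem_ker] at ha
    rw [map_add, ha, zero_add, map_mul, map_natCast]
    exact dvd_mul_right _ _

theorem mk_constantCoeff_frobenius (w : WittVector p R) :
    Ideal.Quotient.mk (Ideal.span {(p : R)}) (constantCoeff (WittVector.frobenius w))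
      = Ideal.Quotient.mk (Ideal.span {(p : R)}) (constantCoeff w) ^ p := by
  rw [frobenius_coeff_zero', map_add, map_mul, map_pow,
    (Ideal.Quotient.eq_zero_iff_mem).2 (Ideal.mem_span_singleton_self (p : R)), zero_mul, add_zero]

section Main

variable {D : Display3n p R P} {ιT ιL : Type w} [Fintype ιT] [Fintype ιL] [DecidableEq ιT] [DecidableEq ιL]

/-- Coefficient matrices of the iterates of `V^#` modulo `J`. -/
noncomputable def Gam (β : Matrix (ιT ⊕ ιL) (ιT ⊕ ιL) (WittVector p R)) :
    ℕ → ιL → (ιT ⊕ ιL) → WittVector p R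
  | 0 => fun a i => β (Sum.inr a) i
  | n + 1 => fun a i => ∑ k : ιL, WittVector.frobenius (Gam β n a (Sum.inr k)) * β (Sum.inr k) i

theorem repr_vSharpPow_sub_Gam (e : Module.Basis (ιT ⊕ ιL) (WittVector p R) P)
    (β : Matrix (ιT ⊕ ιL) (ιT ⊕ ιL) (WittVector p R))
    {Vs : P →ₗ[WittVector p R] BC (WittVector.frobenius : WittVector p R →+* WittVector p R) P}
    (hVs : ∀ i, Vs (e i) = (∑ j : ιT, β (Sum.inl j) i • (p : WittVector p R) •
        BC.tmul (WittVector.frobenius : WittVector p R →+* WittVector p R) 1 (e (Sum.inl j)))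
      + ∑ k : ιL, β (Sum.inr k) i •
        BC.tmul (WittVector.frobenius : WittVector p R →+* WittVector p R) 1 (e (Sum.inr k))) :
    ∀ (n : ℕ) (i : ιT ⊕ ιL),
      (∀ a : ιT, (bcBasis _ e).repr (vSharpPow Vs n (e i)) (Sum.inl a) ∈ J p R) ∧
      ∀ a : ιL, (bcBasis _ e).repr (vSharpPow Vs n (e i)) (Sum.inr a) - Gam β n a i ∈ J p R := by
  have hp : (p : WittVector p R) ∈ J p R := Submodule.mem_sup_right (Ideal.mem_span_singleton_self _)
  intro n
  induction n with
  | zero =>
    intro i
    rw [vSharpPow_zero_apply, hVs]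
    constructor
    · intro a
      simp only [map_add, map_sum, map_smul, BC.castHom_tmul, Finsupp.add_apply,
        Finsupp.finsetSum_apply, Finsupp.smul_apply, bcBasis_repr_tmul, Module.Basis.repr_self, smul_eq_mul]
      refine add_mem (Ideal.sum_mem _ fun j _ => Ideal.mul_mem_left _ _ (Ideal.mul_mem_right _ _ hp))
        (Ideal.sum_mem _ fun k _ => ?_)
      rw [Finsupp.single_eq_of_ne (by simp), map_zero, mul_zero, mul_zero]
      exact zero_mem _
    · intro a
      simp only [map_add, map_sum, map_smul, BC.castHom_tmul, Finsupp.add_apply,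
        Finsupp.finsetSum_apply, Finsupp.smul_apply, bcBasis_repr_tmul, Module.Basis.repr_self, smul_eq_mul, Gam]
      rw [Finset.sum_eq_single (s := (Finset.univ : Finset ιL)) a
          (fun k _ hk => by rw [Finsupp.single_eq_of_ne (by simpa using Ne.symm hk), map_zero, mul_zero, mul_zero])
          (by simp),
        Finsupp.single_eq_same, map_one, mul_one, mul_one, add_sub_cancel_right]
      exact Ideal.sum_mem _ fun j _ => Ideal.mul_mem_left _ _ (Ideal.mul_mem_right _ _ hp)
  | succ n ih =>
    intro i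
    rw [vSharpPow_succ', hVs]
    constructor
    · intro a
      simp only [map_add, map_sum, map_smul, stepMap_tmul, one_smul, Finsupp.add_apply,
        Finsupp.finsetSum_apply, Finsupp.smul_apply, smul_eq_mul, bcBasis_repr_shift, pow_one]
      exact add_mem (Ideal.sum_mem _ fun j _ => Ideal.mul_mem_left _ _ (Ideal.mul_mem_right _ _ hp))
        (Ideal.sum_mem _ fun k _ => Ideal.mul_mem_left _ _ (frobenius_mem_J ((ih (Sum.inr k)).1 a)))
    · intro a
      simp only [map_add, map_sum, map_smul, stepMap_tmul, one_smul, Finsupp.add_apply,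
        Finsupp.finsetSum_apply, Finsupp.smul_apply, smul_eq_mul, bcBasis_repr_shift, pow_one, Gam]
      rw [add_sub_assoc, ← Finset.sum_sub_distrib]
      refine add_mem (Ideal.sum_mem _ fun j _ => Ideal.mul_mem_left _ _ (Ideal.mul_mem_right _ _ hp))
        (Ideal.sum_mem _ fun k _ => ?_)
      rw [mul_comm (β _ _), ← sub_mul, ← map_sub]
      exact Ideal.mul_mem_right _ _ (frobenius_mem_J ((ih (Sum.inr k)).2 a))

theorem isDisplay_iff_matrix (D : Display3n p R P) (_hp : IsNilpotent (p : R))
    {L T : Submodule (WittVector p R) P} (hLT : IsCompl L T)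
    (hQ : D.Q = L ⊔ IV p R • T) (hLQ : L ≤ D.Q)
    (bT : Module.Basis ιT (WittVector p R) T) (bL : Module.Basis ιL (WittVector p R) L)
    (α β : Matrix (ιT ⊕ ιL) (ιT ⊕ ιL) (WittVector p R)) (hβα : β * α = 1)
    (hF : ∀ j : ιT, D.F (bT j : P) =
      Finset.univ.sum fun i : ιT ⊕ ιL => α i (Sum.inl j) • Sum.elim (fun a : ιT => (bT a : P)) (fun a : ιL => (bL a : P)) i)
    (hV : ∀ k : ιL, D.Vinv ⟨(bL k : P), hLQ (bL k).2⟩ =
      Finset.univ.sum fun i : ιT ⊕ ιL => α i (Sum.inr k) • Sum.elim (fun a : ιT => (bT a : P)) (fun a : ιL => (bL a : P)) i) :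
    IsDisplay D ↔
      ∃ N : ℕ, 0 < N ∧
        (((List.range N).reverse.map fun i : ℕ =>
            (Matrix.of fun k l : ιL =>
                Ideal.Quotient.mk (Ideal.span {(p : R)}) (WittVector.constantCoeff (β (Sum.inr k) (Sum.inr l)))).map
              fun x : R ⧸ Ideal.span {(p : R)} => x ^ p ^ i).prod
          = 0) := by
  classical
  let e : Module.Basis (ιT ⊕ ιL) (WittVector p R) P :=
    (bT.prod bL).map (Submodule.prodEquivOfIsCompl T L hLT.symm)
  have he : ∀ i, e i = Sum.elim (fun a : ιT => (bT a : P)) (fun a : ιL => (bL a : P)) i := by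
    rintro (a | a) <;> simp [e]
  let σ : WittVector p R →+* WittVector p R := WittVector.frobenius
  let Vs : P →ₗ[WittVector p R] BC σ P := e.constr (WittVector p R) fun i =>
    (∑ j : ιT, β (Sum.inl j) i • (p : WittVector p R) • BC.tmul σ 1 (e (Sum.inl j)))
      + ∑ k : ιL, β (Sum.inr k) i • BC.tmul σ 1 (e (Sum.inr k))
  have hVse : ∀ i, Vs (e i) = (∑ j : ιT, β (Sum.inl j) i • (p : WittVector p R) • BC.tmul σ 1 (e (Sum.inl j)))
      + ∑ k : ιL, β (Sum.inr k) i • BC.tmul σ 1 (e (Sum.inr k)) := fun i => e.constr_basis _ _ i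
  let img : ιT ⊕ ιL → BC σ P :=
    Sum.elim (fun j => (p : WittVector p R) • BC.tmul σ 1 (e (Sum.inl j))) (fun k => BC.tmul σ 1 (e (Sum.inr k)))
  have hcol : ∀ c, Vs (∑ i, α i c • e i) = img c := by
    intro c
    have h1 : ∀ i, Vs (e i) = ∑ c', β c' i • img c' := fun i => by
      rw [hVse, Fintype.sum_sum_type]; rfl
    simp only [map_sum, map_smul, h1, Finset.smul_sum, smul_smul]
    rw [Finset.sum_comm]
    simp only [← Finset.sum_smul]
    rw [Finset.sum_eq_single c]
    · rw [show ∑ i, α i c * β c i = (β * α) c c by rw [Matrix.mul_apply]; exact Finset.sum_congr rfl fun i _ => mul_comm _ _,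
        hβα, Matrix.one_apply_eq, one_smul]
    · intro c' _ hc'
      rw [show ∑ i, α i c * β c' i = (β * α) c' c by rw [Matrix.mul_apply]; exact Finset.sum_congr rfl fun i _ => mul_comm _ _,
        hβα, Matrix.one_apply_ne hc', zero_smul]
    · exact fun h => absurd (Finset.mem_univ c) h
  have hF' : ∀ j : ιT, Vs (D.F (bT j : P)) = (p : WittVector p R) • BC.tmul σ 1 (bT j : P) := fun j => by
    rw [hF j]
    simp only [← he]
    rw [hcol]
    simp [img, he]
  have hV' : ∀ k : ιL, Vs (D.Vinv ⟨(bL k : P), hLQ (bL k).2⟩) = BC.tmul σ 1 (bL k : P) := fun k => by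
    rw [hV k]
    simp only [← he]
    rw [hcol]
    simp [img, he]
  have hVs : IsVSharp D Vs := by
    refine isVSharp_of_Vinv fun y => ?_
    refine forall_Q_of_normal D hQ (fun y => Vs (D.Vinv y) = BC.tmul σ 1 (y : P))
      (fun a b ha hb => by rw [map_add, map_add, ha, hb, Submodule.coe_add, BC.tmul_add])
      (fun x h hx => ?_) (fun u t h ht => ?_) y
    · have hall : ∀ z : L, Vs (D.Vinv ⟨(z : P), hLQ z.2⟩) = BC.tmul σ 1 (z : P) := by
        intro z
        have hfun : Vs.comp (D.Vinv.comp (Submodule.inclusion hLQ)) = (BC.ι σ P).comp L.subtype :=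
          bL.ext fun k => hV' k
        exact LinearMap.congr_fun hfun z
      exact hall ⟨x, hx⟩
    · have hfun : Vs.comp (D.F.comp T.subtype) = (p : WittVector p R) • (BC.ι σ P).comp T.subtype :=
        bT.ext fun j => hF' j
      have hall : Vs (D.F t) = (p : WittVector p R) • BC.tmul σ 1 t := LinearMap.congr_fun hfun ⟨t, ht⟩
      rw [Vinv_V_smul, map_smul, hall, BC.smul_tmul, BC.smul_tmul, mul_one, ← BC.tmul_apply_eq,
        frobenius_verschiebung', mul_comm]
  have key := repr_vSharpPow_sub_Gam e β hVse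
  set q : WittVector p R →+* R ⧸ Ideal.span {(p : R)} :=
    (Ideal.Quotient.mk (Ideal.span {(p : R)})).comp (constantCoeff : WittVector p R →+* R) with hq
  set B : ℕ → Matrix ιL ιL (R ⧸ Ideal.span {(p : R)}) := fun i =>
    (Matrix.of fun k l : ιL =>
      Ideal.Quotient.mk (Ideal.span {(p : R)}) (WittVector.constantCoeff (β (Sum.inr k) (Sum.inr l)))).map
        fun x : R ⧸ Ideal.span {(p : R)} => x ^ p ^ i with hB
  have hqσ : ∀ (j : ℕ) (w : WittVector p R), q ((WittVector.frobenius)^[j] w) = q w ^ p ^ j := by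
    intro j
    induction j with
    | zero => intro w; simp
    | succ j ij =>
      intro w
      rw [Function.iterate_succ_apply', hq, RingHom.comp_apply, mk_constantCoeff_frobenius, ← RingHom.comp_apply,
        ← hq, ij, ← pow_mul, ← pow_succ]
  -- the product of the first `n + 1` twisted blocks
  have hprod : ∀ (n s : ℕ) (a l : ιL),
      q ((WittVector.frobenius)^[s] (Gam β n a (Sum.inr l))) =
        ((List.range (n + 1)).reverse.map fun i => B (i + s)).prod a l := by
    intro n
    induction n with
    | zero =>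
      intro s a l
      rw [hqσ]
      simp [B, Gam, hq]
    | succ n ih =>
      intro s a l
      rw [List.range_succ_eq_map, List.reverse_cons, ← List.map_reverse, List.map_append, List.map_map,
        List.prod_append, List.map_singleton, List.prod_singleton, Matrix.mul_apply]
      simp only [Gam, ← RingHom.coe_pow, map_sum, map_mul]
      refine Finset.sum_congr rfl fun k _ => ?_
      rw [RingHom.coe_pow, ← Function.iterate_succ_apply, ih, hqσ]
      simp only [Function.comp_def, Nat.succ_eq_add_one, zero_add]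
      simp [B, hq, add_assoc, add_comm 1 s]
  have hzero : ∀ n, ((List.range (n + 1)).reverse.map B).prod = 0 ↔
      ∀ a l, Gam β n a (Sum.inr l) ∈ J p R := by
    intro n
    constructor
    · intro h a l
      have h1 := hprod n 0 a l
      simp only [add_zero] at h1
      rw [show ((List.range (n + 1)).reverse.map fun i => B i) = (List.range (n + 1)).reverse.map B from rfl,
        h, Function.iterate_zero_apply] at h1
      exact mk_constantCoeff_eq_zero_iff.1 h1
    · intro h
      refine Matrix.ext fun a l => ?_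
      have h1 := hprod n 0 a l
      simp only [add_zero, Function.iterate_zero_apply] at h1
      rw [show ((List.range (n + 1)).reverse.map fun i => B i) = (List.range (n + 1)).reverse.map B from rfl] at h1
      rw [← h1]
      exact mk_constantCoeff_eq_zero_iff.2 (h a l)
  constructor
  · rintro ⟨Vs', hVs', n, hn⟩
    obtain rfl := vSharp_unique hVs' hVs
    refine ⟨n + 1, Nat.succ_pos n, (hzero n).2 fun a l => ?_⟩
    have h1 := (mem_smul_top_basis (bcBasis _ e) _).1 (hn (e (Sum.inr l))) (Sum.inr a)
    have h2 := sub_mem h1 ((key n (Sum.inr l)).2 a)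
    rwa [sub_sub_cancel] at h2
  · rintro ⟨N, hN, hN0⟩
    obtain ⟨n, rfl⟩ := Nat.exists_eq_succ_of_ne_zero hN.ne'
    have hG : ∀ a i, Gam β (n + 1) a i ∈ J p R := fun a i =>
      Ideal.sum_mem _ fun k _ => Ideal.mul_mem_right _ _ (frobenius_mem_J ((hzero n).1 hN0 a k))
    refine ⟨Vs, hVs, n + 1, fun x => ?_⟩
    rw [← e.sum_repr x, map_sum]
    refine Submodule.sum_mem _ fun i _ => ?_
    rw [map_smul]
    refine Submodule.smul_mem _ _ ((mem_smul_top_basis (bcBasis _ e) _).2 ?_)
    rintro (a | a)
    · exact (key (n + 1) i).1 a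
    · have h2 := add_mem ((key (n + 1) i).2 a) (hG a i)
      rwa [sub_add_cancel] at h2

end Main

end Groth.Agent.Disp53
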