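import Groth.Agent.Disp53.Basic
import Mathlib

set_option autoImplicit false
set_option linter.unusedSectionVars false
universe u v w
open W4c1extbt610

namespace Groth.Agent.Disp53

variable {p : ℕ} [Fact p.Prime] {R : Type u} [CommRing R]
variable {P : Type v} [AddCommGroup P] [Module (WittVector p R) P] (D : Display3n p R P)

/-- Every value of `Vinv` is in the span of `Vinv L` and `F T`. -/
theorem Vinv_mem_of_normal {L T : Submodule (WittVector p R) P} (hQ : D.Q = L ⊔ IV p R • T)
    (N : Submodule (WittVector p R) P) (hL : ∀ (x : P) (h : x ∈ D.Q), x ∈ L → D.Vinv ⟨x, h⟩ ∈ N)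
    (hT : ∀ t ∈ T, D.F t ∈ N) (q : D.Q) : D.Vinv q ∈ N := by
  obtain ⟨x, hx⟩ := q
  have hx' := hx
  rw [hQ, Submodule.mem_sup] at hx'
  obtain ⟨a, ha, b, hb, rfl⟩ := hx'
  have haQ : a ∈ D.Q := by rw [hQ]; exact Submodule.mem_sup_left ha
  have hbQ : b ∈ D.Q := by rw [hQ]; exact Submodule.mem_sup_right hb
  rw [show D.Vinv ⟨a + b, hx⟩ = D.Vinv ⟨a, haQ⟩ + D.Vinv ⟨b, hbQ⟩ from
    (Vinv_congr D (b := ⟨a, haQ⟩ + ⟨b, hbQ⟩) rfl).trans (map_add D.Vinv _ _)]
  refine add_mem (hL a haQ ha) ?_
  have key : ∀ y ∈ IV p R • T, ∃ h : y ∈ D.Q, D.Vinv ⟨y, h⟩ ∈ N := by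
    intro y hy
    refine Submodule.smul_induction_on hy (fun w hw t ht => ?_) fun y z hy hz => ?_
    · obtain ⟨c, rfl⟩ := mem_IV_iff_exists.1 hw
      refine ⟨smul_mem_Q D hw t, ?_⟩
      rw [Vinv_V_smul]
      exact N.smul_mem c (hT t ht)
    · obtain ⟨hy1, hy2⟩ := hy
      obtain ⟨hz1, hz2⟩ := hz
      refine ⟨add_mem hy1 hz1, ?_⟩
      rw [show D.Vinv ⟨y + z, add_mem hy1 hz1⟩ = D.Vinv ⟨y, hy1⟩ + D.Vinv ⟨z, hz1⟩ from
        map_add D.Vinv ⟨y, hy1⟩ ⟨z, hz1⟩]
      exact add_mem hy2 hz2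
  exact (key b hb).2

section Basis

variable {L T : Submodule (WittVector p R) P} (hLT : IsCompl L T)
  {ιL ιT : Type w} (bL : Module.Basis ιL (WittVector p R) L) (bT : Module.Basis ιT (WittVector p R) T)

/-- The basis of `P` from bases of `L` and of `T`. -/
noncomputable def sumBasis : Module.Basis (ιL ⊕ ιT) (WittVector p R) P :=
  (bL.prod bT).map (Submodule.prodEquivOfIsCompl L T hLT)

theorem span_family_eq_top (hQ : D.Q = L ⊔ IV p R • T) (hLQ : L ≤ D.Q) :
    Submodule.span (WittVector p R)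
        (Set.range (Sum.elim (fun i : ιL => D.Vinv ⟨(bL i : P), hLQ (bL i).2⟩) (fun j : ιT => D.F (bT j : P)))) = ⊤ := by
  set S := Submodule.span (WittVector p R)
    (Set.range (Sum.elim (fun i : ιL => D.Vinv ⟨(bL i : P), hLQ (bL i).2⟩) (fun j : ιT => D.F (bT j : P))))
  rw [eq_top_iff, ← D.span_range_Vinv, Submodule.span_le]
  rintro _ ⟨q, rfl⟩
  refine Vinv_mem_of_normal D hQ S (fun x h hx => ?_) (fun t ht => ?_) q
  · let g : L →ₛₗ[(WittVector.frobenius : WittVector p R →+* WittVector p R)] P :=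
      D.Vinv.comp (Submodule.inclusion hLQ)
    have hall : ∀ y : L, g y ∈ S := by
      intro y
      have hy : y ∈ Submodule.span (WittVector p R) (Set.range bL) := bL.span_eq.symm ▸ Submodule.mem_top
      induction hy using Submodule.span_induction with
      | mem y hy => obtain ⟨i, rfl⟩ := hy; exact Submodule.subset_span ⟨Sum.inl i, rfl⟩
      | zero => rw [map_zero]; exact zero_mem S
      | add a b _ _ ha hb => rw [map_add]; exact add_mem ha hb
      | smul c a _ ha => rw [LinearMap.map_smulₛₗ]; exact S.smul_mem _ ha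
    exact hall ⟨x, hx⟩
  · have hall : ∀ y : T, D.F (y : P) ∈ S := by
      intro y
      have hy : y ∈ Submodule.span (WittVector p R) (Set.range bT) := bT.span_eq.symm ▸ Submodule.mem_top
      induction hy using Submodule.span_induction with
      | mem y hy => obtain ⟨i, rfl⟩ := hy; exact Submodule.subset_span ⟨Sum.inr i, rfl⟩
      | zero => simp
      | add a b _ _ ha hb => rw [Submodule.coe_add, map_add]; exact add_mem ha hb
      | smul c a _ ha => rw [Submodule.coe_smul, LinearMap.map_smulₛₗ]; exact S.smul_mem _ ha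
    exact hall ⟨t, ht⟩

include hLT in
theorem linearIndependent_family (hQ : D.Q = L ⊔ IV p R • T) (hLQ : L ≤ D.Q) :
    LinearIndependent (WittVector p R)
      (Sum.elim (fun i : ιL => D.Vinv ⟨(bL i : P), hLQ (bL i).2⟩) (fun j : ιT => D.F (bT j : P))) := by
  haveI := D.finite
  set fam := Sum.elim (fun i : ιL => D.Vinv ⟨(bL i : P), hLQ (bL i).2⟩) (fun j : ιT => D.F (bT j : P))
  let b := sumBasis hLT bL bT
  let f : P →ₗ[WittVector p R] P := b.constr (WittVector p R) fam
  have hf : ∀ i, f (b i) = fam i := fun i => b.constr_basis _ _ i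
  have hsurj : Function.Surjective f := by
    rw [← LinearMap.range_eq_top, eq_top_iff, ← span_family_eq_top D bL bT hQ hLQ, Submodule.span_le]
    rintro _ ⟨i, rfl⟩
    exact ⟨b i, hf i⟩
  have hinj : Function.Injective f := OrzechProperty.injective_of_surjective_endomorphism f hsurj
  have h := b.linearIndependent.map' f (LinearMap.ker_eq_bot.2 hinj)
  rwa [show f ∘ b = fam from funext hf] at h

end Basis

end Groth.Agent.Disp53
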