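import Groth.Agent.Disp53.SqZero
import Groth.Agent.Disp53.Nilp
import Mathlib

/-!
Rigidity of homomorphisms out of a display.
-/

set_option autoImplicit false
set_option linter.unusedSectionVars false
universe u v w z
open WittVector W4c1extbt610 Dieu

namespace Groth.Agent.Disp53

variable {p : ℕ} [Fact p.Prime] {S : Type u} [CommRing S]
variable {P : Type v} [AddCommGroup P] [Module (WittVector p S) P]
variable {P' : Type w} [AddCommGroup P'] [Module (WittVector p S) P']

theorem smul_smul_top_eq_zero {A : Type u} [CommRing A] {M : Type v} [AddCommGroup M] [Module A M]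
    {I : Ideal A} {j : A} (hj : ∀ a ∈ I, j * a = 0) {x : M} (hx : x ∈ I • (⊤ : Submodule A M)) :
    j • x = 0 := by
  refine Submodule.smul_induction_on hx (fun a ha y _ => ?_) (fun a b ha hb => ?_)
  · rw [smul_smul, hj a ha, zero_smul]
  · rw [smul_add, ha, hb, add_zero]

/-- A homomorphism out of a display which vanishes modulo a square zero ideal killed by `p` is zero. -/
theorem rigid_sqzero {R : Type z} [CommRing R] (f : S →+* R)
    (h2 : ∀ a ∈ RingHom.ker f, ∀ b ∈ RingHom.ker f, a * b = 0)
    (hp1 : ∀ a ∈ RingHom.ker f, (p : S) * a = 0)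
    {D : Display3n p S P} {D' : Display3n p S P'} (hD : IsDisplay D)
    {ψ : P →ₗ[WittVector p S] P'} (hψ : IsHom D D' ψ)
    (hmem : ∀ x, ψ x ∈ RingHom.ker (WittVector.map (p := p) f) • (⊤ : Submodule (WittVector p S) P')) :
    ψ = 0 := by
  haveI := D'.finite
  haveI := D'.projective
  obtain ⟨Vs, hVs, N, hN⟩ := hD
  obtain ⟨L, T, hLT, hQ⟩ := D'.exists_normal
  have hLQ : L ≤ D'.Q := hQ ▸ le_sup_left
  obtain ⟨n, φ, e, he⟩ := exists_dualBasis (A := WittVector p S) (P := P')
  set Wk := RingHom.ker (WittVector.map (p := p) f) with hWk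
  let σ : WittVector p S →+* WittVector p S := WittVector.frobenius
  let Γ : P' → P' := fun z => ∑ i, (φ i (projT hLT z)).shift 1 • D'.F (e i)
  have hφmem : ∀ {z : P'}, z ∈ Wk • (⊤ : Submodule (WittVector p S) P') → ∀ i, φ i (projT hLT z) ∈ Wk := by
    intro z hz i
    exact (mem_smul_top_iff Wk).1 hz (φ i ∘ₗ projT hLT)
  have hΓmem : ∀ {z : P'}, z ∈ Wk • (⊤ : Submodule (WittVector p S) P') →
      Γ z ∈ Wk • (⊤ : Submodule (WittVector p S) P') := fun {z} hz =>
    Submodule.sum_mem _ fun i _ => Submodule.smul_mem_smul (shift_mem_ker f (hφmem hz i)) trivial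
  have hΓadd : ∀ {z z' : P'}, z ∈ Wk • (⊤ : Submodule (WittVector p S) P') →
      z' ∈ Wk • (⊤ : Submodule (WittVector p S) P') → Γ (z + z') = Γ z + Γ z' := by
    intro z z' hz hz'
    simp only [Γ, ← Finset.sum_add_distrib, ← add_smul]
    refine Finset.sum_congr rfl fun i _ => ?_
    rw [map_add, map_add, shift_add_ker f h2 (hφmem hz i) (hφmem hz' i)]
  have hΓsmul : ∀ (a : WittVector p S) {z : P'}, z ∈ Wk • (⊤ : Submodule (WittVector p S) P') →
      Γ (a • z) = σ a • Γ z := by
    intro a z hz
    simp only [Γ, Finset.smul_sum, smul_smul]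
    refine Finset.sum_congr rfl fun i _ => ?_
    rw [map_smul, map_smul, smul_eq_mul, shift_mul_ker f h2 hp1 (hφmem hz i)]
  let G : P →ₛₗ[σ] P' :=
    { toFun := fun x => Γ (ψ x)
      map_add' := fun x y => by rw [map_add, hΓadd (hmem x) (hmem y)]
      map_smul' := fun a x => by rw [map_smul, hΓsmul a (hmem x)] }
  have hGmem : ∀ x, G x ∈ Wk • (⊤ : Submodule (WittVector p S) P') := fun x => hΓmem (hmem x)
  have hV : ∀ (q : P) (hq : q ∈ D.Q), D'.Vinv ⟨ψ q, hψ.mapsTo q hq⟩ = G q := by
    suffices h : ∀ (z : P') (hz : z ∈ D'.Q), z ∈ Wk • (⊤ : Submodule (WittVector p S) P') →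
        D'.Vinv ⟨z, hz⟩ = Γ z from fun q hq => h _ _ (hmem q)
    intro z hz hzm
    have hcI : ∀ i, φ i (projT hLT z) ∈ IV p S := fun i =>
      (mem_sup_IV_iff hLT).1 (hQ ▸ hz) (φ i)
    have hc : ∀ i, φ i (projT hLT z) = verschiebung ((φ i (projT hLT z)).shift 1) := fun i => by
      conv_lhs => rw [eq_teichmuller_add_verschiebung_shift (φ i (projT hLT z)), mem_IV_iff.1 (hcI i),
        WittVector.teichmuller_zero, zero_add]
    let eL : P' →ₗ[WittVector p S] D'.Q :=
      (projL hLT).codRestrict D'.Q (fun x => hLQ (projL_mem hLT x))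
    have hsum : (⟨z, hz⟩ : D'.Q) = eL z + ∑ i, (⟨verschiebung ((φ i (projT hLT z)).shift 1) • e i,
        smul_mem_Q D' (verschiebung_mem_IV p S _) _⟩ : D'.Q) := by
      refine Subtype.ext ?_
      simp only [Submodule.coe_add, Submodule.coe_sum, ← hc]
      rw [← he (projT hLT z)]
      exact (projL_add_projT hLT z).symm
    rw [hsum, map_add, map_sum]
    have h0 : D'.Vinv (eL z) = 0 := by
      have h1 := semilinear_smul_top (D'.Vinv.comp eL) (J := ⊥)
        (fun a ha => by rw [Ideal.mem_bot]; exact frobenius_ker_eq_zero f h2 hp1 ha) hzm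
      rwa [Submodule.bot_smul, Submodule.mem_bot, LinearMap.comp_apply] at h1
    rw [h0, zero_add]
    exact Finset.sum_congr rfl fun i _ => Vinv_V_smul D' _ _ _
  have hfac : ψ = (BC.lift σ G).comp Vs := by
    refine LinearMap.ext_on D.span_range_Vinv ?_
    rintro _ ⟨y, rfl⟩
    rw [hψ.comm_Vinv y, hV y.1 y.2, LinearMap.comp_apply, vinv_eq hVs, BC.lift_tmul, one_smul]
  have hΛ : ∀ m : ℕ, ∃ Λ : BC ((WittVector.frobenius : WittVector p S →+* WittVector p S) ^ (m + 1)) P →ₗ[WittVector p S] P',
      (∀ u, Λ u ∈ Wk • (⊤ : Submodule (WittVector p S) P')) ∧ ∀ x, ψ x = Λ (vSharpPow Vs m x) := by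
    intro m
    induction m with
    | zero =>
      refine ⟨(BC.lift σ G).comp (BC.castHom (pow_one _)), fun u => ?_, fun x => ?_⟩
      · rw [LinearMap.comp_apply]
        generalize BC.castHom _ u = z
        induction z using BC.induction_on σ with
        | zero => rw [map_zero]; exact zero_mem _
        | tmul c y => rw [BC.lift_tmul]; exact Submodule.smul_mem _ _ (hGmem y)
        | add a b ha hb => rw [map_add]; exact add_mem ha hb
      · conv_lhs => rw [hfac]
        rw [LinearMap.comp_apply, LinearMap.comp_apply, vSharpPow_zero_apply]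
        generalize Vs x = z
        induction z using BC.induction_on (WittVector.frobenius : WittVector p S →+* WittVector p S) with
        | zero => simp only [map_zero]
        | tmul c y => rw [BC.castHom_tmul, BC.castHom_tmul]
        | add a b ha hb => simp only [map_add, ha, hb]
    | succ m ih =>
      obtain ⟨Λ, hΛm, hΛ⟩ := ih
      let G' : P →ₛₗ[(WittVector.frobenius : WittVector p S →+* WittVector p S) ^ (m + 1 + 1)] P' :=
        { toFun := fun x => Γ (Λ (BC.tmul _ 1 x))
          map_add' := fun x y => by rw [BC.tmul_add, map_add, hΓadd (hΛm _) (hΛm _)]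
          map_smul' := fun a x => by
            rw [← BC.ι_apply, LinearMap.map_smulₛₗ, BC.ι_apply, map_smul, hΓsmul _ (hΛm _)]
            congr 1
            rw [pow_succ' _ (m + 1)]; rfl }
      refine ⟨BC.lift _ G', fun u => ?_, fun x => ?_⟩
      · induction u using BC.induction_on ((WittVector.frobenius : WittVector p S →+* WittVector p S) ^ (m + 1 + 1)) with
        | zero => rw [map_zero]; exact zero_mem _
        | tmul c y => rw [BC.lift_tmul]; exact Submodule.smul_mem _ _ (hΓmem (hΛm _))
        | add a b ha hb => rw [map_add]; exact add_mem ha hb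
      · conv_lhs => rw [hfac]
        rw [LinearMap.comp_apply, vSharpPow_succ']
        generalize Vs x = z
        induction z using BC.induction_on (WittVector.frobenius : WittVector p S →+* WittVector p S) with
        | zero => simp only [map_zero]
        | tmul c y =>
          rw [stepMap_tmul, BC.lift_tmul, map_smul]
          congr 1
          change Γ (ψ y) = _
          rw [hΛ y]
          generalize vSharpPow Vs m y = u
          induction u using BC.induction_on ((WittVector.frobenius : WittVector p S →+* WittVector p S) ^ (m + 1)) with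
          | zero => simp [Γ, shift_zero_witt]
          | tmul d t =>
            rw [shift_tmul, BC.lift_tmul, BC.tmul_eq_smul_tmul_one _ d t, map_smul, hΓsmul _ (hΛm _), pow_one]
            rfl
          | add a b ha hb => rw [map_add, hΓadd (hΛm _) (hΛm _), map_add, map_add, ha, hb]
        | add a b ha hb => simp only [map_add, ha, hb]
  obtain ⟨Λ, hΛm, hΛ⟩ := hΛ N
  refine LinearMap.ext fun x => ?_
  rw [LinearMap.zero_apply, hΛ x]
  refine Submodule.smul_induction_on (p := fun u => Λ u = 0) (hN x) (fun j hj u _ => ?_) (fun a b ha hb => ?_)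
  · rw [map_smul]
    exact smul_smul_top_eq_zero (fun a ha => J_mul_ker_eq_zero f h2 hp1 hj ha) (hΛm u)
  · rw [map_add, ha, hb, add_zero]

end Groth.Agent.Disp53
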