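import Groth.Agent.Disp53.WittNil
import Groth.Agent.Disp53.Basic
import Groth.Agent.WittFil53.Coeff
import Mathlib

/-!
Witt vectors with coefficients in a square zero ideal killed by `p`.
-/

set_option autoImplicit false
set_option linter.unusedSectionVars false
universe u v
open WittVector W4c1extbt610

namespace Groth.Agent.Disp53

variable {p : ℕ} [Fact p.Prime] {S : Type u} [CommRing S]

theorem coeff_add_sqzero (I : Ideal S) (hI : ∀ a ∈ I, ∀ b ∈ I, a * b = 0) {x y : WittVector p S}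
    (hx : ∀ k, x.coeff k ∈ I) (hy : ∀ k, y.coeff k ∈ I) (n : ℕ) :
    (x + y).coeff n = x.coeff n + y.coeff n := by
  have hp : p.Prime := Fact.out
  let g : ((Bool × ℕ) →₀ ℤ) →ₗ[ℤ] S :=
    Finsupp.linearCombination ℤ fun i : Bool × ℕ => if i.1 then x.coeff i.2 else y.coeff i.2
  have hg : ∀ m, g m ∈ I := by
    intro m
    rw [Finsupp.linearCombination_apply]
    refine Ideal.sum_mem _ fun i _ => zsmul_mem ?_ _
    rcases i with ⟨_ | _, k⟩
    · exact hy k
    · exact hx k
  let π : TrivSqZeroExt ℤ ((Bool × ℕ) →₀ ℤ) →ₐ[ℤ] S :=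
    TrivSqZeroExt.lift (Algebra.ofId ℤ S) g (fun a b => hI _ (hg a) _ (hg b))
      (fun r m => by rw [map_smul, Algebra.ofId_apply, Algebra.smul_def])
      (fun r m => by
        rw [op_smul_eq_smul, map_smul, Algebra.ofId_apply, Algebra.smul_def, mul_comm])
  let X : WittVector p (TrivSqZeroExt ℤ ((Bool × ℕ) →₀ ℤ)) :=
    WittVector.mk p fun k => TrivSqZeroExt.inr (Finsupp.single (true, k) 1)
  let Y : WittVector p (TrivSqZeroExt ℤ ((Bool × ℕ) →₀ ℤ)) :=
    WittVector.mk p fun k => TrivSqZeroExt.inr (Finsupp.single (false, k) 1)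
  have hgh : ∀ (v : ℕ → ((Bool × ℕ) →₀ ℤ)) (k : ℕ),
      ghostComponent k (WittVector.mk p fun j => (TrivSqZeroExt.inr (v j) : TrivSqZeroExt ℤ ((Bool × ℕ) →₀ ℤ)))
        = (p : TrivSqZeroExt ℤ ((Bool × ℕ) →₀ ℤ)) ^ k * TrivSqZeroExt.inr (v k) := by
    intro v k
    rw [CAlg8.Witt.ghostComponent_eq_sum, Finset.sum_range_succ, WittVector.coeff_mk, Nat.sub_self, pow_zero, pow_one]
    rw [Finset.sum_eq_zero, zero_add]
    intro i hi
    rw [Finset.mem_range] at hi
    obtain ⟨e, he⟩ := Nat.exists_eq_add_of_le (show 2 ≤ p ^ (k - i) from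
      hp.two_le.trans (Nat.le_self_pow (by omega) p))
    rw [he, pow_add, pow_two, TrivSqZeroExt.inr_mul_inr, zero_mul, mul_zero]
  have htors : ∀ z : TrivSqZeroExt ℤ ((Bool × ℕ) →₀ ℤ),
      (p : TrivSqZeroExt ℤ ((Bool × ℕ) →₀ ℤ)) * z = 0 → z = 0 := by
    intro z hz
    rw [← nsmul_eq_mul] at hz
    refine TrivSqZeroExt.ext ?_ ?_
    · have h1 := congrArg TrivSqZeroExt.fst hz
      rw [TrivSqZeroExt.fst_smul, TrivSqZeroExt.fst_zero] at h1
      exact (smul_eq_zero.1 h1).resolve_left hp.ne_zero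
    · have h1 := congrArg TrivSqZeroExt.snd hz
      rw [TrivSqZeroExt.snd_smul, TrivSqZeroExt.snd_zero] at h1
      exact (smul_eq_zero.1 h1).resolve_left hp.ne_zero
  have key : X + Y = WittVector.mk p fun k =>
      TrivSqZeroExt.inr (Finsupp.single (true, k) 1 + Finsupp.single (false, k) 1) := by
    refine CAlg8.Witt.eq_of_ghostComponent_eq htors fun k => ?_
    rw [map_add, hgh, hgh, hgh, TrivSqZeroExt.inr_add, mul_add]
  have h1 := congrArg (fun w => (WittVector.map π.toRingHom w).coeff n) key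
  simp only [map_add] at h1
  have hX : WittVector.map π.toRingHom X = x := by
    ext k
    simp [X, π, g, WittVector.map_coeff, TrivSqZeroExt.lift_def]
  have hY : WittVector.map π.toRingHom Y = y := by
    ext k
    simp [Y, π, g, WittVector.map_coeff, TrivSqZeroExt.lift_def]
  rw [hX, hY] at h1
  rw [h1]
  simp [π, g, WittVector.map_coeff, TrivSqZeroExt.lift_def]

theorem eq_teichmuller_add_verschiebung_shift (w : WittVector p S) :
    w = teichmuller p (w.coeff 0) + verschiebung (w.shift 1) := by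
  ext n
  rw [coeff_add_of_disjoint]
  · rcases n with _ | n
    · rw [teichmuller_coeff_zero, verschiebung_coeff_zero, add_zero]
    · rw [teichmuller_coeff_pos p _ _ n.succ_pos, verschiebung_coeff_succ, WittVector.shift_coeff, zero_add,
        add_comm 1 n]
  · intro k
    rcases k with _ | k
    · exact Or.inr (verschiebung_coeff_zero _)
    · exact Or.inl (teichmuller_coeff_pos p _ _ k.succ_pos)

theorem shift_zero_witt : (0 : WittVector p S).shift 1 = 0 := by
  ext n
  rw [WittVector.shift_coeff, WittVector.zero_coeff, WittVector.zero_coeff]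

section Kernel

variable {R : Type v} [CommRing R] (f : S →+* R)
variable (h2 : ∀ a ∈ RingHom.ker f, ∀ b ∈ RingHom.ker f, a * b = 0)
variable (hp1 : ∀ a ∈ RingHom.ker f, (p : S) * a = 0)
include h2 hp1

local notation "Wk" => RingHom.ker (WittVector.map (p := p) f)

theorem frobenius_ker_eq_zero {a : WittVector p S} (ha : a ∈ Wk) : WittVector.frobenius a = 0 := by
  have hp : p.Prime := Fact.out
  ext n
  have h1 := coeff_frobenius_sub_pow_mem (RingHom.ker f) ((mem_ker_map_iff f a).1 ha) n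
  rw [show Ideal.span {(p : S)} * RingHom.ker f = ⊥ by
    refine eq_bot_iff.2 (Ideal.mul_le.2 fun r hr b hb => ?_)
    obtain ⟨c, rfl⟩ := Ideal.mem_span_singleton.1 hr
    rw [Ideal.mem_bot, mul_right_comm, hp1 b hb, zero_mul], Ideal.mem_bot, sub_eq_zero] at h1
  have h0 := (mem_ker_map_iff f a).1 ha n
  have hsq : (a.coeff n) ^ 2 = 0 := by rw [pow_two]; exact h2 _ h0 _ h0
  rw [h1, WittVector.zero_coeff, pow_eq_zero_of_le hp.two_le hsq]

theorem IV_mul_ker_eq_zero {w a : WittVector p S} (hw : w ∈ IV p S) (ha : a ∈ Wk) : w * a = 0 := by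
  obtain ⟨u, rfl⟩ := mem_IV_iff_exists.1 hw
  rw [← verschiebung_mul_frobenius, frobenius_ker_eq_zero f h2 hp1 ha, mul_zero, map_zero]

theorem natCast_mul_ker_eq_zero {a : WittVector p S} (ha : a ∈ Wk) : (p : WittVector p S) * a = 0 := by
  rw [← frobenius_verschiebung']
  refine frobenius_ker_eq_zero f h2 hp1 ?_
  rw [RingHom.mem_ker] at ha ⊢
  rw [WittVector.map_verschiebung, ha, map_zero]

theorem J_mul_ker_eq_zero {w a : WittVector p S} (hw : w ∈ IV p S ⊔ Ideal.span {(p : WittVector p S)})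
    (ha : a ∈ Wk) : w * a = 0 := by
  obtain ⟨x, hx, y, hy, rfl⟩ := Submodule.mem_sup.1 hw
  obtain ⟨c, rfl⟩ := Ideal.mem_span_singleton.1 hy
  rw [add_mul, IV_mul_ker_eq_zero f h2 hp1 hx ha, zero_add, mul_right_comm, natCast_mul_ker_eq_zero f h2 hp1 ha,
    zero_mul]

omit h2 hp1 in
theorem shift_mem_ker {a : WittVector p S} (ha : a ∈ Wk) : a.shift 1 ∈ Wk := by
  rw [mem_ker_map_iff] at ha ⊢
  intro n
  rw [WittVector.shift_coeff]
  exact ha _

omit hp1 in
theorem coeff_add_ker {a b : WittVector p S} (ha : a ∈ Wk) (hb : b ∈ Wk) (n : ℕ) :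
    (a + b).coeff n = a.coeff n + b.coeff n :=
  coeff_add_sqzero (RingHom.ker f) h2 ((mem_ker_map_iff f a).1 ha) ((mem_ker_map_iff f b).1 hb) n

omit hp1 in
theorem shift_add_ker {a b : WittVector p S} (ha : a ∈ Wk) (hb : b ∈ Wk) :
    (a + b).shift 1 = a.shift 1 + b.shift 1 := by
  ext n
  rw [WittVector.shift_coeff, coeff_add_ker f h2 ha hb,
    coeff_add_ker f h2 (shift_mem_ker f ha) (shift_mem_ker f hb), WittVector.shift_coeff, WittVector.shift_coeff]

theorem mul_ker_eq_teichmuller {w a : WittVector p S} (ha : a ∈ Wk) :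
    w * a = teichmuller p (w.coeff 0) * a := by
  conv_lhs => rw [eq_teichmuller_add_verschiebung_shift w, add_mul,
    IV_mul_ker_eq_zero f h2 hp1 (verschiebung_mem_IV p S _) ha, add_zero]

theorem coeff_mul_ker {w a : WittVector p S} (ha : a ∈ Wk) (n : ℕ) :
    (w * a).coeff n = w.coeff 0 ^ p ^ n * a.coeff n := by
  rw [mul_ker_eq_teichmuller f h2 hp1 ha, WittFil53.coeff_teichmuller_mul]

theorem shift_mul_ker {w a : WittVector p S} (ha : a ∈ Wk) :
    (w * a).shift 1 = WittVector.frobenius w * a.shift 1 := by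
  ext n
  rw [WittVector.shift_coeff, coeff_mul_ker f h2 hp1 ha, coeff_mul_ker f h2 hp1 (shift_mem_ker f ha),
    WittVector.shift_coeff]
  have hk : ∀ (x y : S) (k : ℕ), (x + (p : S) * y) ^ k * a.coeff (1 + n) = x ^ k * a.coeff (1 + n) := by
    intro x y k
    induction k with
    | zero => simp
    | succ k ih =>
      rw [pow_succ', mul_assoc, ih, pow_succ', mul_assoc, add_mul, mul_assoc (p : S), mul_left_comm (p : S) y,
        mul_left_comm (p : S) (x ^ k), hp1 _ ((mem_ker_map_iff f a).1 ha _), mul_zero, mul_zero, add_zero]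
  rw [show (WittVector.frobenius w).coeff 0 = w.coeff 0 ^ p + (p : S) * w.coeff 1 from ?_, hk, ← pow_mul, ← pow_succ',
    Nat.add_comm 1 n]
  have h0 := frobeniusPolyAux p 0
  rw [coeff_frobenius, frobeniusPoly, map_add, map_mul, map_pow, MvPolynomial.aeval_X, MvPolynomial.aeval_C]
  have : MvPolynomial.aeval w.coeff (frobeniusPolyAux p 0) = w.coeff 1 := by
    rw [frobeniusPolyAux_eq]
    simp
  rw [this]
  simp

end Kernel

end Groth.Agent.Disp53
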