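import Groth.Prelude.Def_Disp2
import Groth.Agent.Disp53.Construct
import Groth.Agent.Disp53.NormalDecomp
import Groth.Agent.Disp53.NormalBasis
import Mathlib

/-!
The operator `V^#`.
-/

set_option autoImplicit false
set_option linter.unusedSectionVars false
universe u v w
open W4c1extbt610 WittVector Dieu

namespace Groth.Agent.Disp53

variable {p : ℕ} [Fact p.Prime] {R : Type u} [CommRing R]
variable {P : Type v} [AddCommGroup P] [Module (WittVector p R) P] {D : Display3n p R P}

local notation "σR" => (WittVector.frobenius : WittVector p R →+* WittVector p R)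

theorem isVSharp_of_Vinv {Vs : P →ₗ[WittVector p R] BC σR P}
    (h : ∀ y : D.Q, Vs (D.Vinv y) = BC.tmul σR 1 (y : P)) : IsVSharp D Vs where
  app_smul_Vinv w y := by rw [map_smul, h, ← BC.tmul_eq_smul_tmul_one]
  app_smul_F w x := by
    rw [F_eq_Vinv, map_smul, h]
    simp only
    rw [← BC.tmul_apply_eq, frobenius_verschiebung', mul_one,
      BC.tmul_eq_smul_tmul_one _ (p : WittVector p R), BC.tmul_eq_smul_tmul_one _ w, smul_comm]

theorem vinv_eq {Vs : P →ₗ[WittVector p R] BC σR P} (h : IsVSharp D Vs) (y : D.Q) :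
    Vs (D.Vinv y) = BC.tmul σR 1 (y : P) := by
  have := h.app_smul_Vinv 1 y
  rwa [one_smul] at this

theorem vSharp_unique {Vs Vs' : P →ₗ[WittVector p R] BC σR P} (h : IsVSharp D Vs) (h' : IsVSharp D Vs') :
    Vs = Vs' :=
  LinearMap.ext_on D.span_range_Vinv (by rintro _ ⟨y, rfl⟩; rw [vinv_eq h, vinv_eq h'])

theorem lift_comp_vSharp {Vs : P →ₗ[WittVector p R] BC σR P} (hVs : IsVSharp D Vs) :
    (BC.lift σR D.F).comp Vs = (p : WittVector p R) • LinearMap.id ∧
      Vs.comp (BC.lift σR D.F) = (p : WittVector p R) • LinearMap.id := by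
  constructor
  · refine LinearMap.ext_on D.span_range_Vinv ?_
    rintro _ ⟨y, rfl⟩
    rw [LinearMap.comp_apply, vinv_eq hVs, BC.lift_tmul, one_smul, F_eq_smul_Vinv]
    rfl
  · refine BC.ext σR fun x => ?_
    rw [LinearMap.comp_apply, BC.lift_tmul, hVs.app_smul_F]
    rfl

theorem finrank_le_surj {F : Type w} [Field F] {M : Type*} [AddCommGroup M] [Module F M]
    [Module.Finite F M] {N : Type*} [AddCommGroup N] [Module F N] (f : M →ₗ[F] N)
    (hf : Function.Surjective f) : Module.finrank F N ≤ Module.finrank F M := by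
  have h := f.finrank_range_le
  rwa [LinearMap.range_eq_top.2 hf, finrank_top] at h

theorem frobenius_coeff_zero' (w : WittVector p R) :
    constantCoeff (σR w) = (constantCoeff w) ^ p + (p : R) * w.coeff 1 := by
  have h : ∀ z : WittVector p R, ghostComponent 0 z = constantCoeff z := fun z => by
    rw [CAlg8.Witt.ghostComponent_eq_sum]
    simp
  rw [← h, ghostComponent_frobenius, CAlg8.Witt.ghostComponent_eq_sum, Finset.sum_range_succ,
    Finset.sum_range_one]
  simp

/-- For `p` nilpotent, maximal ideals of `W(R)` contain `p`. -/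
theorem p_mem_of_isMaximal (hp : IsNilpotent (p : R)) (m : Ideal (WittVector p R)) [m.IsMaximal] :
    IV p R ≤ m ∧ (p : WittVector p R) ∈ m := by
  haveI : IsAdicComplete (Ideal.span {(p : R)}) R := by
    obtain ⟨N, hN⟩ := hp
    have h0 : ((Ideal.span {(p : R)}) ^ N • ⊤ : Submodule R R) = ⊥ := by
      rw [Ideal.span_singleton_pow, hN, smul_eq_mul, Ideal.mul_top]
      simp
    refine { haus' := fun x hx => ?_, prec' := fun f hf => ⟨f N, fun j => ?_⟩ }
    · have h1 := hx N
      rwa [h0, SModEq.bot] at h1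
    · rcases le_total j N with h | h
      · exact hf h
      · have h1 := hf h
        rw [h0, SModEq.bot] at h1
        rw [h1]
  haveI := isAdicComplete_IV (p := p) (R := R)
  have hI : IV p R ≤ m := (IsAdicComplete.le_jacobson_bot (IV p R)).trans
    (sInf_le ⟨bot_le, ‹m.IsMaximal›⟩)
  refine ⟨hI, ?_⟩
  obtain ⟨N, hN⟩ := hp
  refine Ideal.IsPrime.mem_of_pow_mem inferInstance N (hI (mem_IV_iff.2 ?_))
  change constantCoeff ((p : WittVector p R) ^ N) = 0
  rw [map_pow, map_natCast, hN]

/-- The linearised structure map is bijective when `p` is nilpotent. -/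
theorem bijective_structure (D : Display3n p R P) (hp : IsNilpotent (p : R)) (Φ : P →ₛₗ[σR] P)
    (hΦ : Submodule.span (WittVector p R) (Set.range Φ) = ⊤) :
    Function.Bijective (BC.lift σR Φ) := by
  haveI := D.finite
  haveI := D.projective
  set f := BC.lift σR Φ
  have hsurj : Function.Surjective f := by
    rw [← LinearMap.range_eq_top, eq_top_iff, ← hΦ, Submodule.span_le]
    rintro _ ⟨x, rfl⟩
    exact ⟨BC.ι σR P x, BC.lift_ι σR Φ x⟩
  refine ⟨?_, hsurj⟩
  obtain ⟨s, hs⟩ := Module.projective_lifting_property f LinearMap.id hsurj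
  haveI := finite_bc (P := P) σR
  rw [← LinearMap.ker_eq_bot]
  set K := LinearMap.ker f
  have hK : K = LinearMap.range (LinearMap.id - s ∘ₗ f) := by
    refine le_antisymm (fun x hx => ⟨x, by simp [LinearMap.mem_ker.1 hx]⟩) ?_
    rintro _ ⟨x, rfl⟩
    have h := LinearMap.congr_fun hs (f x)
    simp only [K, LinearMap.mem_ker, LinearMap.sub_apply, LinearMap.id_apply, map_sub, LinearMap.comp_apply]
    simp only [LinearMap.comp_apply, LinearMap.id_apply] at h
    rw [h, sub_self]
  have hfg : K.FG := by
    rw [hK, LinearMap.range_eq_map]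
    exact (Module.finite_def.1 inferInstance).map _
  have hann : ∀ (m : Ideal (WittVector p R)), m.IsMaximal → K ≤ m • K := by
    intro m hm
    obtain ⟨hIm, hpm⟩ := p_mem_of_isMaximal hp m
    letI : Field (WittVector p R ⧸ m) := Ideal.Quotient.field m
    set χ := Ideal.Quotient.mk m
    haveI : CharP (WittVector p R ⧸ m) p :=
      (CharP.charP_iff_prime_eq_zero (Fact.out : p.Prime)).2
        (by rw [← map_natCast (Ideal.Quotient.mk m)]; exact Ideal.Quotient.eq_zero_iff_mem.2 hpm)
    have hχσ : ∀ w, χ (σR w) = (frobenius (WittVector p R ⧸ m) p) (χ w) := by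
      intro w
      rw [frobenius_def, ← map_pow, Ideal.Quotient.eq]
      have h1 : constantCoeff (σR w - w ^ p - (p : WittVector p R) * teichmuller p (w.coeff 1)) = 0 := by
        rw [map_sub, map_sub, map_mul, map_pow, map_natCast, frobenius_coeff_zero',
          show constantCoeff (teichmuller p (w.coeff 1)) = w.coeff 1 from teichmuller_coeff_zero p _]
        ring
      have h2 := hIm ((mem_IV_iff (R := R) (x := σR w - w ^ p - (p : WittVector p R) * teichmuller p (w.coeff 1))).2 h1)
      have h3 := add_mem h2 (Ideal.mul_mem_right (teichmuller p (w.coeff 1)) m hpm)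
      rwa [sub_add_cancel] at h3
    let fm : BC χ (BC σR P) →ₗ[WittVector p R ⧸ m] BC χ P := BC.map χ f
    let j : BC χ (BC σR P) →ₗ[WittVector p R ⧸ m] BC ((frobenius (WittVector p R ⧸ m) p).comp χ) P :=
      BC.lift χ (sext χ (RingHom.ext hχσ) (BC.ι ((frobenius (WittVector p R ⧸ m) p).comp χ) P))
    let jinv : BC ((frobenius (WittVector p R ⧸ m) p).comp χ) P →ₗ[WittVector p R ⧸ m] BC χ (BC σR P) :=
      BC.lift ((frobenius (WittVector p R ⧸ m) p).comp χ)
        { toFun := fun x => BC.tmul χ 1 (BC.tmul σR 1 x)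
          map_add' := fun x y => by rw [BC.tmul_add, BC.tmul_add]
          map_smul' := fun a x => by
            rw [← BC.ι_apply σR, LinearMap.map_smulₛₗ, ← BC.ι_apply χ, LinearMap.map_smulₛₗ]
            simp [hχσ] }
    have hj : ∀ z, jinv (j z) = z := by
      intro z
      induction z using BC.induction_on χ with
      | zero => rw [map_zero, map_zero]
      | tmul c y =>
        rw [BC.tmul_eq_smul_tmul_one, map_smul, map_smul]
        congr 1
        induction y using BC.induction_on σR with
        | zero => rw [BC.tmul_zero, map_zero, map_zero]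
        | tmul b x =>
          rw [BC.tmul_eq_smul_tmul_one σR b x, ← BC.ι_apply χ, LinearMap.map_smulₛₗ, map_smul, map_smul]
          congr 1
          simp only [j, jinv, BC.ι_apply, BC.lift_tmul, one_smul, sext_tmul, map_one]
          rfl
        | add a b ha hb => rw [BC.tmul_add, map_add, map_add, ha, hb]
      | add a b ha hb => rw [map_add, map_add, ha, hb]
    letI : Algebra (WittVector p R ⧸ m) (WittVector p R ⧸ m) := Algebra.id _
    haveI : Module.Finite (WittVector p R ⧸ m) (BC χ P) := finite_bc χ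
    haveI : Module.Finite (WittVector p R ⧸ m) (BC χ (BC σR P)) := finite_bc χ
    haveI : Module.Finite (WittVector p R ⧸ m) (BC ((frobenius (WittVector p R ⧸ m) p).comp χ) P) :=
      finite_bc _
    let bm := Module.finBasis (WittVector p R ⧸ m) (BC χ P)
    let q : BC (frobenius (WittVector p R ⧸ m) p) (BC χ P) →ₗ[WittVector p R ⧸ m]
        BC ((frobenius (WittVector p R ⧸ m) p).comp χ) P :=
      BC.lift _ (BC.push χ (frobenius (WittVector p R ⧸ m) p))
    have hq : Function.Surjective q := by
      intro z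
      induction z using BC.induction_on ((frobenius (WittVector p R ⧸ m) p).comp χ) with
      | zero => exact ⟨0, map_zero _⟩
      | tmul c x =>
        refine ⟨BC.tmul _ c (BC.tmul χ 1 x), ?_⟩
        simp only [q, BC.lift_tmul, BC.push_tmul, map_one]
        rw [← BC.tmul_eq_smul_tmul_one]
      | add a b ha hb =>
        obtain ⟨a', rfl⟩ := ha
        obtain ⟨b', rfl⟩ := hb
        exact ⟨a' + b', map_add _ _ _⟩
    haveI : Module.Finite (WittVector p R ⧸ m) (BC (frobenius (WittVector p R ⧸ m) p) (BC χ P)) :=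
      finite_bc _
    have hrank : Module.finrank (WittVector p R ⧸ m) (BC χ (BC σR P))
        ≤ Module.finrank (WittVector p R ⧸ m) (BC χ P) := by
      refine (LinearMap.finrank_le_finrank_of_injective (f := j) (Function.LeftInverse.injective hj)).trans ?_
      refine (finrank_le_surj q hq).trans (le_of_eq ?_)
      rw [Module.finrank_eq_card_basis (bcBasis _ bm), Fintype.card_fin]
    have hfs : fm ∘ₗ BC.map χ s = LinearMap.id := by rw [← map_comp', hs, map_id']
    have hfsurj : Function.Surjective fm := fun y => ⟨_, LinearMap.congr_fun hfs y⟩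
    have hrank' := finrank_le_surj fm hfsurj
    have hfinj : Function.Injective fm :=
      (LinearMap.injective_iff_surjective_of_finrank_eq_finrank (le_antisymm hrank hrank')).2 hfsurj
    intro x hx
    rw [LinearMap.mem_ker] at hx
    have h0 : BC.tmul χ 1 x = 0 := hfinj (by simp only [fm, BC.map_tmul, hx, map_zero, BC.tmul_zero])
    haveI := projective_bc (P := P) σR
    have h1 : x ∈ m • (⊤ : Submodule (WittVector p R) (BC σR P)) := by
      refine (mem_smul_top_iff m).2 fun φ => Ideal.Quotient.eq_zero_iff_mem.1 ?_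
      have := congrArg (BC.lift χ ((semilinearOfRingHom χ).comp φ)) h0
      simpa [BC.lift_tmul] using this
    have h2 := Submodule.mem_map_of_mem (f := LinearMap.id - s ∘ₗ f) h1
    rw [Submodule.map_smul'', Submodule.map_top, ← hK] at h2
    simpa [hx] using h2
  by_contra hne
  have hne' : K.annihilator ≠ ⊤ := fun h => hne ((Submodule.annihilator_eq_top_iff).1 h)
  obtain ⟨m, hm, hle⟩ := Ideal.exists_le_maximal _ hne'
  obtain ⟨r, hr1, hr⟩ := Submodule.exists_sub_one_mem_and_smul_eq_zero_of_fg_of_le_smul m K hfg (hann m hm)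
  have hrm : r ∈ m := hle (Submodule.mem_annihilator.2 hr)
  exact hm.ne_top ((Ideal.eq_top_iff_one m).2 (by have := sub_mem hrm hr1; rwa [sub_sub_cancel] at this))

theorem exists_isVSharp (hp : IsNilpotent (p : R)) (D : Display3n p R P) :
    ∃ Vs : P →ₗ[WittVector p R] BC σR P, IsVSharp D Vs := by
  obtain ⟨L, T, hLT, hQ⟩ := D.exists_normal
  have hLQ : L ≤ D.Q := hQ ▸ le_sup_left
  let eL : P →ₗ[WittVector p R] D.Q :=
    (projL hLT).codRestrict D.Q (fun x => hLQ (projL_mem hLT x))
  let Φ : P →ₛₗ[σR] P := D.Vinv.comp eL + D.F.comp (projT hLT)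
  have hΦL : ∀ (x : P) (h : x ∈ D.Q), x ∈ L → Φ x = D.Vinv ⟨x, h⟩ := by
    intro x h hx
    simp only [Φ, LinearMap.add_apply, LinearMap.comp_apply, projT_of_mem_L hLT hx, map_zero, add_zero]
    exact Vinv_congr D (projL_of_mem hLT hx)
  have hΦT : ∀ t ∈ T, Φ t = D.F t := by
    intro t ht
    simp only [Φ, LinearMap.add_apply, LinearMap.comp_apply, projT_of_mem hLT ht]
    rw [show eL t = 0 from Subtype.ext (projL_of_mem_T hLT ht), map_zero, zero_add]
  have hΦ : Submodule.span (WittVector p R) (Set.range Φ) = ⊤ := by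
    rw [eq_top_iff, ← D.span_range_Vinv, Submodule.span_le]
    rintro _ ⟨q, rfl⟩
    exact Vinv_mem_of_normal D hQ (Submodule.span (WittVector p R) (Set.range Φ)) (fun x h hx => Submodule.subset_span ⟨x, hΦL x h hx⟩)
      (fun t ht => Submodule.subset_span ⟨t, hΦT t ht⟩) q
  let Ψ := LinearEquiv.ofBijective (BC.lift σR Φ) (bijective_structure D hp Φ hΦ)
  have hΨ : ∀ x, Ψ.symm (Φ x) = BC.tmul σR 1 x := fun x => by
    rw [LinearEquiv.symm_apply_eq]
    simp [Ψ, BC.lift_tmul]
  let Vs : P →ₗ[WittVector p R] BC σR P :=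
    (BC.map σR (projL hLT + (p : WittVector p R) • projT hLT)) ∘ₗ Ψ.symm.toLinearMap
  refine ⟨Vs, isVSharp_of_Vinv fun y => ?_⟩
  refine forall_Q_of_normal D hQ (fun y => Vs (D.Vinv y) = BC.tmul σR 1 (y : P))
    (fun a b ha hb => by rw [map_add, map_add, ha, hb, Submodule.coe_add, BC.tmul_add])
    (fun x h hx => ?_) (fun u t h ht => ?_) y
  · rw [← hΦL x h hx]
    simp [Vs, hΨ, BC.map_tmul, projL_of_mem hLT hx, projT_of_mem_L hLT hx]
  · rw [Vinv_V_smul, ← hΦT t ht, map_smul]
    simp only [Vs, LinearMap.comp_apply, LinearEquiv.coe_coe, hΨ, BC.map_tmul, LinearMap.add_apply,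
      LinearMap.smul_apply, projL_of_mem_T hLT ht, projT_of_mem hLT ht, zero_add]
    rw [BC.smul_tmul, mul_one, ← BC.tmul_apply_eq, ← BC.tmul_mul_apply, map_natCast,
      frobenius_verschiebung', mul_comm]

end Groth.Agent.Disp53
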