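import Mathlib.RingTheory.WittVector.Frobenius
import Mathlib

/-!
Iterates of Frobenius on Witt vectors with coefficients in a nil ideal.
-/

set_option autoImplicit false
set_option linter.unusedSectionVars false
universe u v
open WittVector MvPolynomial

namespace Groth.Agent.Disp53

variable {p : ℕ} [Fact p.Prime] {S : Type u} [CommRing S]

theorem aeval_mem_of_forall_mem {σ : Type v} (I : Ideal S) {x : σ → S} (hx : ∀ i, x i ∈ I)
    {f : MvPolynomial σ ℤ} (hf : MvPolynomial.constantCoeff f = 0) : MvPolynomial.aeval x f ∈ I := by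
  rw [← Ideal.Quotient.eq_zero_iff_mem]
  have h1 : Ideal.Quotient.mk I (MvPolynomial.aeval x f) = MvPolynomial.aeval (fun i => Ideal.Quotient.mk I (x i)) f := by
    simp only [MvPolynomial.aeval_def, MvPolynomial.eval₂_comp_left (Ideal.Quotient.mk I)]
    congr 1
  rw [h1, show (fun i => Ideal.Quotient.mk I (x i)) = 0 from funext fun i => Ideal.Quotient.eq_zero_iff_mem.2 (hx i),
    MvPolynomial.aeval_zero, hf, map_zero]

theorem constantCoeff_frobeniusPolyAux (n : ℕ) :
    MvPolynomial.constantCoeff (frobeniusPolyAux p n) = 0 := by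
  have hp : p.Prime := Fact.out
  have h : (WittVector.frobenius (0 : WittVector p ℤ)).coeff n = 0 := by simp
  rw [coeff_frobenius, frobeniusPoly, map_add, map_mul, map_pow, MvPolynomial.aeval_X, MvPolynomial.aeval_C,
    WittVector.zero_coeff, zero_pow hp.ne_zero, zero_add] at h
  rw [show (WittVector.coeff (0 : WittVector p ℤ)) = 0 from funext fun i => WittVector.zero_coeff p ℤ i,
    MvPolynomial.aeval_zero] at h
  simpa [hp.ne_zero] using h

theorem coeff_frobenius_sub_pow_mem (I : Ideal S) {w : WittVector p S} (hw : ∀ k, w.coeff k ∈ I) (n : ℕ) :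
    (WittVector.frobenius w).coeff n - w.coeff n ^ p ∈ Ideal.span {(p : S)} * I := by
  rw [coeff_frobenius, frobeniusPoly, map_add, map_mul, map_pow, MvPolynomial.aeval_X, MvPolynomial.aeval_C,
    add_sub_cancel_left]
  refine Ideal.mul_mem_mul (Ideal.mem_span_singleton.2 ?_)
    (aeval_mem_of_forall_mem I hw (constantCoeff_frobeniusPolyAux n))
  simp

theorem coeff_frobenius_mem_span_pow {j : ℕ} (hj : 1 ≤ j) {w : WittVector p S}
    (hw : ∀ k, w.coeff k ∈ Ideal.span {(p : S)} ^ j) (n : ℕ) :
    (WittVector.frobenius w).coeff n ∈ Ideal.span {(p : S)} ^ (j + 1) := by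
  have hp : p.Prime := Fact.out
  rw [← sub_add_cancel ((WittVector.frobenius w).coeff n) (w.coeff n ^ p)]
  refine add_mem ?_ ?_
  · have h1 := coeff_frobenius_sub_pow_mem _ hw n
    rwa [← pow_succ'] at h1
  · have h1 : w.coeff n ^ p ∈ (Ideal.span {(p : S)} ^ j) ^ p := Ideal.pow_mem_pow (hw n) p
    rw [← pow_mul] at h1
    refine Ideal.pow_le_pow_right ?_ h1
    have := hp.two_le
    nlinarith

theorem coeff_iterate_frobenius_sub_pow_mem (w : WittVector p S) (k n : ℕ) :
    ((WittVector.frobenius)^[k] w).coeff n - w.coeff n ^ p ^ k ∈ Ideal.span {(p : S)} := by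
  induction k with
  | zero => simp
  | succ k ih =>
    rw [Function.iterate_succ_apply', pow_succ, pow_mul]
    rw [← sub_add_sub_cancel _ (((WittVector.frobenius)^[k] w).coeff n ^ p)]
    refine add_mem ?_ ?_
    · have h1 := coeff_frobenius_sub_pow_mem (⊤ : Ideal S) (w := (WittVector.frobenius)^[k] w) (fun _ => trivial) n
      rwa [Ideal.mul_top] at h1
    · obtain ⟨c, hc⟩ := Ideal.mem_span_singleton.1 ih
      exact Ideal.mem_span_singleton.2 ((dvd_mul_right _ c).trans (hc ▸ sub_dvd_pow_sub_pow _ _ p))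

/-- A high iterate of Frobenius kills Witt vectors with coefficients in a nil ideal of bounded exponent
when `p` is nilpotent. -/
theorem exists_iterate_frobenius_eq_zero (hp : IsNilpotent (p : S)) (I : Ideal S) (N : ℕ)
    (hN : ∀ a ∈ I, a ^ N = 0) :
    ∃ K : ℕ, ∀ w : WittVector p S, (∀ k, w.coeff k ∈ I) → (WittVector.frobenius)^[K] w = 0 := by
  have hp' : p.Prime := Fact.out
  obtain ⟨M, hM⟩ := hp
  have key : ∀ w : WittVector p S, (∀ k, w.coeff k ∈ I) → ∀ j n,
      ((WittVector.frobenius)^[j + N] w).coeff n ∈ Ideal.span {(p : S)} ^ (j + 1) := by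
    intro w hw j
    induction j with
    | zero =>
      intro n
      rw [zero_add, zero_add, pow_one]
      have h1 := coeff_iterate_frobenius_sub_pow_mem w N n
      rwa [pow_eq_zero_of_le (Nat.lt_pow_self hp'.one_lt).le (hN _ (hw n)), sub_zero] at h1
    | succ j ih =>
      intro n
      rw [show j + 1 + N = (j + N) + 1 by omega, Function.iterate_succ_apply']
      exact coeff_frobenius_mem_span_pow (by omega) ih n
  refine ⟨M + N, fun w hw => WittVector.ext fun n => ?_⟩
  have h1 := key w hw M n
  rw [Ideal.span_singleton_pow, pow_succ, hM, zero_mul, Ideal.span_singleton_zero, Ideal.mem_bot] at h1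
  rw [h1, WittVector.zero_coeff]

theorem mem_ker_map_iff {R : Type v} [CommRing R] (φ : S →+* R) (w : WittVector p S) :
    w ∈ RingHom.ker (WittVector.map (p := p) φ) ↔ ∀ n, w.coeff n ∈ RingHom.ker φ := by
  simp only [RingHom.mem_ker, WittVector.ext_iff, WittVector.map_coeff, WittVector.zero_coeff]

end Groth.Agent.Disp53
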